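import Cfsg.Agent.Lib.TC.D.HNO.Tab
import Cfsg.Agent.Lib.TC.D.HNO.OrbT0
import Cfsg.Agent.Lib.TC.D.HNO.OrbT1

namespace Cfsg.Agent.Lib.TC.D.HNO.OrbD

open Cfsg.Agent.Lib.TC.Core Cfsg.Agent.Lib.TC.Enc Cfsg.Agent.Lib.TC.Pres Cfsg.Agent.Lib.TC.Perm Cfsg.Agent.Lib.TC.Main

set_option maxRecDepth 100000

/-- The chunks of the orbit data. -/
noncomputable def otree : Tr Nat := (Tr.node Cfsg.Agent.Lib.TC.D.HNO.OrbT0.tree Cfsg.Agent.Lib.TC.D.HNO.OrbT1.tree)

/-- The label of a point. -/
noncomputable def lab : Nat → Nat := cellF 6 63 33 8589934591 0 15 otree.get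
/-- The parent of a point. -/
noncomputable def oP : Nat → Nat := cellF 6 63 33 8589934591 4 2097151 otree.get
/-- The word of a point. -/
noncomputable def oW : Nat → Nat := cellF 6 63 33 8589934591 25 7 otree.get
/-- The depth of a point. -/
noncomputable def oD : Nat → Nat := cellF 6 63 33 8589934591 28 31 otree.get
/-- The representatives of labels. -/
def repr (l : Nat) : Nat := [0,1,11,18,119,207,538,3796,7011].getD l 0

/-- The sizes of the orbits. -/
def size (l : Nat) : Nat := [1,1408,35200,2200,123200,739200,354816,277200,5775].getD l 0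

/-- The words of the letters of the subgroup. -/
def subs : List (List Nat) := [[0],[1],[2],[3],[4]]


end Cfsg.Agent.Lib.TC.D.HNO.OrbD
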