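import Cfsg.Agent.Lib.TC.D.HNO.Tab
import Cfsg.Agent.Lib.TC.D.HNO.P0
import Cfsg.Agent.Lib.TC.D.HNO.P1
import Cfsg.Agent.Lib.TC.D.HNO.P2
import Cfsg.Agent.Lib.TC.D.HNO.P3
import Cfsg.Agent.Lib.TC.D.HNO.P4
import Cfsg.Agent.Lib.TC.D.HNO.P5
import Cfsg.Agent.Lib.TC.D.HNO.P6
import Cfsg.Agent.Lib.TC.D.HNO.P7
import Cfsg.Agent.Lib.TC.D.HNO.P8
import Cfsg.Agent.Lib.TC.D.HNO.P9
import Cfsg.Agent.Lib.TC.D.HNO.P10
import Cfsg.Agent.Lib.TC.D.HNO.P11
import Cfsg.Agent.Lib.TC.D.HNO.P12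
import Cfsg.Agent.Lib.TC.D.HNO.P13
import Cfsg.Agent.Lib.TC.D.HNO.P14
import Cfsg.Agent.Lib.TC.D.HNO.P15
import Cfsg.Agent.Lib.TC.D.HNO.P16
import Cfsg.Agent.Lib.TC.D.HNO.P17
import Cfsg.Agent.Lib.TC.D.HNO.P18
import Cfsg.Agent.Lib.TC.D.HNO.P19
import Cfsg.Agent.Lib.TC.D.HNO.P20
import Cfsg.Agent.Lib.TC.D.HNO.P21
import Cfsg.Agent.Lib.TC.D.HNO.P22
import Cfsg.Agent.Lib.TC.D.HNO.P23
import Cfsg.Agent.Lib.TC.D.HNO.P24
import Cfsg.Agent.Lib.TC.D.HNO.P25
import Cfsg.Agent.Lib.TC.D.HNO.P26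
import Cfsg.Agent.Lib.TC.D.HNO.P27
import Cfsg.Agent.Lib.TC.D.HNO.P28
import Cfsg.Agent.Lib.TC.D.HNO.P29
import Cfsg.Agent.Lib.TC.D.HNO.P30
import Cfsg.Agent.Lib.TC.D.HNO.P31
import Cfsg.Agent.Lib.TC.D.HNO.P32
import Cfsg.Agent.Lib.TC.D.HNO.P33
import Cfsg.Agent.Lib.TC.D.HNO.P34
import Cfsg.Agent.Lib.TC.D.HNO.P35
import Cfsg.Agent.Lib.TC.D.HNO.P36
import Cfsg.Agent.Lib.TC.D.HNO.P37
import Cfsg.Agent.Lib.TC.D.HNO.P38
import Cfsg.Agent.Lib.TC.D.HNO.P39
import Cfsg.Agent.Lib.TC.D.HNO.P40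
import Cfsg.Agent.Lib.TC.D.HNO.P41
import Cfsg.Agent.Lib.TC.D.HNO.P42
import Cfsg.Agent.Lib.TC.D.HNO.P43
import Cfsg.Agent.Lib.TC.D.HNO.P44
import Cfsg.Agent.Lib.TC.D.HNO.P45
import Cfsg.Agent.Lib.TC.D.HNO.P46
import Cfsg.Agent.Lib.TC.D.HNO.P47
import Cfsg.Agent.Lib.TC.D.HNO.P48
import Cfsg.Agent.Lib.TC.D.HNO.P49
import Cfsg.Agent.Lib.TC.D.HNO.P50
import Cfsg.Agent.Lib.TC.D.HNO.P51
import Cfsg.Agent.Lib.TC.D.HNO.P52
import Cfsg.Agent.Lib.TC.D.HNO.P53
import Cfsg.Agent.Lib.TC.D.HNO.P54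
import Cfsg.Agent.Lib.TC.D.HNO.P55
import Cfsg.Agent.Lib.TC.D.HNO.P56
import Cfsg.Agent.Lib.TC.D.HNO.P57
import Cfsg.Agent.Lib.TC.D.HNO.P58
import Cfsg.Agent.Lib.TC.D.HNO.P59
import Cfsg.Agent.Lib.TC.D.HNO.P60
import Cfsg.Agent.Lib.TC.D.HNO.P61
import Cfsg.Agent.Lib.TC.D.HNO.P62
import Cfsg.Agent.Lib.TC.D.HNO.P63
import Cfsg.Agent.Lib.TC.D.HNO.P64
import Cfsg.Agent.Lib.TC.D.HNO.P65
import Cfsg.Agent.Lib.TC.D.HNO.P66
import Cfsg.Agent.Lib.TC.D.HNO.P67
import Cfsg.Agent.Lib.TC.D.HNO.P68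
import Cfsg.Agent.Lib.TC.D.HNO.P69
import Cfsg.Agent.Lib.TC.D.HNO.P70
import Cfsg.Agent.Lib.TC.D.HNO.P71
import Cfsg.Agent.Lib.TC.D.HNO.P72
import Cfsg.Agent.Lib.TC.D.HNO.P73
import Cfsg.Agent.Lib.TC.D.HNO.P74
import Cfsg.Agent.Lib.TC.D.HNO.P75
import Cfsg.Agent.Lib.TC.D.HNO.P76
import Cfsg.Agent.Lib.TC.D.HNO.P77
import Cfsg.Agent.Lib.TC.D.HNO.P78
import Cfsg.Agent.Lib.TC.D.HNO.P79
import Cfsg.Agent.Lib.TC.D.HNO.P80
import Cfsg.Agent.Lib.TC.D.HNO.P81
import Cfsg.Agent.Lib.TC.D.HNO.P82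
import Cfsg.Agent.Lib.TC.D.HNO.P83
import Cfsg.Agent.Lib.TC.D.HNO.P84
import Cfsg.Agent.Lib.TC.D.HNO.P85
import Cfsg.Agent.Lib.TC.D.HNO.P86
import Cfsg.Agent.Lib.TC.D.HNO.P87
import Cfsg.Agent.Lib.TC.D.HNO.P88
import Cfsg.Agent.Lib.TC.D.HNO.P89
import Cfsg.Agent.Lib.TC.D.HNO.P90
import Cfsg.Agent.Lib.TC.D.HNO.P91
import Cfsg.Agent.Lib.TC.D.HNO.P92
import Cfsg.Agent.Lib.TC.D.HNO.P93
import Cfsg.Agent.Lib.TC.D.HNO.P94
import Cfsg.Agent.Lib.TC.D.HNO.P95
import Cfsg.Agent.Lib.TC.D.HNO.P96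
import Cfsg.Agent.Lib.TC.D.HNO.P97
import Cfsg.Agent.Lib.TC.D.HNO.P98
import Cfsg.Agent.Lib.TC.D.HNO.P99
import Cfsg.Agent.Lib.TC.D.HNO.P100
import Cfsg.Agent.Lib.TC.D.HNO.P101
import Cfsg.Agent.Lib.TC.D.HNO.P102
import Cfsg.Agent.Lib.TC.D.HNO.P103
import Cfsg.Agent.Lib.TC.D.HNO.P104
import Cfsg.Agent.Lib.TC.D.HNO.P105
import Cfsg.Agent.Lib.TC.D.HNO.P106
import Cfsg.Agent.Lib.TC.D.HNO.P107
import Cfsg.Agent.Lib.TC.D.HNO.P108
import Cfsg.Agent.Lib.TC.D.HNO.P109
import Cfsg.Agent.Lib.TC.D.HNO.P110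
import Cfsg.Agent.Lib.TC.D.HNO.P111
import Cfsg.Agent.Lib.TC.D.HNO.P112
import Cfsg.Agent.Lib.TC.D.HNO.P113
import Cfsg.Agent.Lib.TC.D.HNO.P114
import Cfsg.Agent.Lib.TC.D.HNO.P115
import Cfsg.Agent.Lib.TC.D.HNO.P116
import Cfsg.Agent.Lib.TC.D.HNO.P117
import Cfsg.Agent.Lib.TC.D.HNO.P118
import Cfsg.Agent.Lib.TC.D.HNO.P119
import Cfsg.Agent.Lib.TC.D.HNO.P120
import Cfsg.Agent.Lib.TC.D.HNO.P121
import Cfsg.Agent.Lib.TC.D.HNO.P122
import Cfsg.Agent.Lib.TC.D.HNO.P123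
import Cfsg.Agent.Lib.TC.D.HNO.P124
import Cfsg.Agent.Lib.TC.D.HNO.P125
import Cfsg.Agent.Lib.TC.D.HNO.P126
import Cfsg.Agent.Lib.TC.D.HNO.P127
import Cfsg.Agent.Lib.TC.D.HNO.P128
import Cfsg.Agent.Lib.TC.D.HNO.P129
import Cfsg.Agent.Lib.TC.D.HNO.P130
import Cfsg.Agent.Lib.TC.D.HNO.P131
import Cfsg.Agent.Lib.TC.D.HNO.P132
import Cfsg.Agent.Lib.TC.D.HNO.P133
import Cfsg.Agent.Lib.TC.D.HNO.P134
import Cfsg.Agent.Lib.TC.D.HNO.P135
import Cfsg.Agent.Lib.TC.D.HNO.P136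
import Cfsg.Agent.Lib.TC.D.HNO.P137
import Cfsg.Agent.Lib.TC.D.HNO.P138
import Cfsg.Agent.Lib.TC.D.HNO.P139
import Cfsg.Agent.Lib.TC.D.HNO.P140
import Cfsg.Agent.Lib.TC.D.HNO.P141
import Cfsg.Agent.Lib.TC.D.HNO.P142
import Cfsg.Agent.Lib.TC.D.HNO.P143
import Cfsg.Agent.Lib.TC.D.HNO.P144
import Cfsg.Agent.Lib.TC.D.HNO.P145
import Cfsg.Agent.Lib.TC.D.HNO.P146
import Cfsg.Agent.Lib.TC.D.HNO.P147
import Cfsg.Agent.Lib.TC.D.HNO.P148
import Cfsg.Agent.Lib.TC.D.HNO.P149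
import Cfsg.Agent.Lib.TC.D.HNO.P150
import Cfsg.Agent.Lib.TC.D.HNO.P151
import Cfsg.Agent.Lib.TC.D.HNO.P152
import Cfsg.Agent.Lib.TC.D.HNO.P153
import Cfsg.Agent.Lib.TC.D.HNO.P154
import Cfsg.Agent.Lib.TC.D.HNO.P155
import Cfsg.Agent.Lib.TC.D.HNO.P156
import Cfsg.Agent.Lib.TC.D.HNO.P157
import Cfsg.Agent.Lib.TC.D.HNO.P158
import Cfsg.Agent.Lib.TC.D.HNO.P159
import Cfsg.Agent.Lib.TC.D.HNO.P160
import Cfsg.Agent.Lib.TC.D.HNO.P161
import Cfsg.Agent.Lib.TC.D.HNO.P162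
import Cfsg.Agent.Lib.TC.D.HNO.P163
import Cfsg.Agent.Lib.TC.D.HNO.P164
import Cfsg.Agent.Lib.TC.D.HNO.P165
import Cfsg.Agent.Lib.TC.D.HNO.P166
import Cfsg.Agent.Lib.TC.D.HNO.P167
import Cfsg.Agent.Lib.TC.D.HNO.P168
import Cfsg.Agent.Lib.TC.D.HNO.P169
import Cfsg.Agent.Lib.TC.D.HNO.P170
import Cfsg.Agent.Lib.TC.D.HNO.P171
import Cfsg.Agent.Lib.TC.D.HNO.P172
import Cfsg.Agent.Lib.TC.D.HNO.P173
import Cfsg.Agent.Lib.TC.D.HNO.P174
import Cfsg.Agent.Lib.TC.D.HNO.P175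
import Cfsg.Agent.Lib.TC.D.HNO.P176
import Cfsg.Agent.Lib.TC.D.HNO.P177
import Cfsg.Agent.Lib.TC.D.HNO.P178
import Cfsg.Agent.Lib.TC.D.HNO.P179
import Cfsg.Agent.Lib.TC.D.HNO.P180
import Cfsg.Agent.Lib.TC.D.HNO.P181
import Cfsg.Agent.Lib.TC.D.HNO.P182
import Cfsg.Agent.Lib.TC.D.HNO.P183
import Cfsg.Agent.Lib.TC.D.HNO.P184
import Cfsg.Agent.Lib.TC.D.HNO.P185
import Cfsg.Agent.Lib.TC.D.HNO.P186
import Cfsg.Agent.Lib.TC.D.HNO.P187
import Cfsg.Agent.Lib.TC.D.HNO.P188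
import Cfsg.Agent.Lib.TC.D.HNO.P189
import Cfsg.Agent.Lib.TC.D.HNO.P190
import Cfsg.Agent.Lib.TC.D.HNO.P191
import Cfsg.Agent.Lib.TC.D.HNO.P192
import Cfsg.Agent.Lib.TC.D.HNO.P193
import Cfsg.Agent.Lib.TC.D.HNO.P194
import Cfsg.Agent.Lib.TC.D.HNO.P195
import Cfsg.Agent.Lib.TC.D.HNO.P196
import Cfsg.Agent.Lib.TC.D.HNO.P197
import Cfsg.Agent.Lib.TC.D.HNO.P198
import Cfsg.Agent.Lib.TC.D.HNO.P199
import Cfsg.Agent.Lib.TC.D.HNO.P200
import Cfsg.Agent.Lib.TC.D.HNO.P201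
import Cfsg.Agent.Lib.TC.D.HNO.P202
import Cfsg.Agent.Lib.TC.D.HNO.P203
import Cfsg.Agent.Lib.TC.D.HNO.P204
import Cfsg.Agent.Lib.TC.D.HNO.P205
import Cfsg.Agent.Lib.TC.D.HNO.P206
import Cfsg.Agent.Lib.TC.D.HNO.P207
import Cfsg.Agent.Lib.TC.D.HNO.P208
import Cfsg.Agent.Lib.TC.D.HNO.P209
import Cfsg.Agent.Lib.TC.D.HNO.P210
import Cfsg.Agent.Lib.TC.D.HNO.P211
import Cfsg.Agent.Lib.TC.D.HNO.P212
import Cfsg.Agent.Lib.TC.D.HNO.P213
import Cfsg.Agent.Lib.TC.D.HNO.P214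
import Cfsg.Agent.Lib.TC.D.HNO.P215
import Cfsg.Agent.Lib.TC.D.HNO.P216
import Cfsg.Agent.Lib.TC.D.HNO.P217
import Cfsg.Agent.Lib.TC.D.HNO.P218
import Cfsg.Agent.Lib.TC.D.HNO.P219
import Cfsg.Agent.Lib.TC.D.HNO.P220
import Cfsg.Agent.Lib.TC.D.HNO.P221
import Cfsg.Agent.Lib.TC.D.HNO.P222
import Cfsg.Agent.Lib.TC.D.HNO.P223
import Cfsg.Agent.Lib.TC.D.HNO.P224
import Cfsg.Agent.Lib.TC.D.HNO.P225
import Cfsg.Agent.Lib.TC.D.HNO.P226
import Cfsg.Agent.Lib.TC.D.HNO.P227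
import Cfsg.Agent.Lib.TC.D.HNO.P228
import Cfsg.Agent.Lib.TC.D.HNO.P229
import Cfsg.Agent.Lib.TC.D.HNO.P230
import Cfsg.Agent.Lib.TC.D.HNO.P231
import Cfsg.Agent.Lib.TC.D.HNO.P232
import Cfsg.Agent.Lib.TC.D.HNO.P233
import Cfsg.Agent.Lib.TC.D.HNO.P234
import Cfsg.Agent.Lib.TC.D.HNO.P235
import Cfsg.Agent.Lib.TC.D.HNO.P236
import Cfsg.Agent.Lib.TC.D.HNO.P237
import Cfsg.Agent.Lib.TC.D.HNO.P238
import Cfsg.Agent.Lib.TC.D.HNO.P239
import Cfsg.Agent.Lib.TC.D.HNO.P240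
import Cfsg.Agent.Lib.TC.D.HNO.P241
import Cfsg.Agent.Lib.TC.D.HNO.P242
import Cfsg.Agent.Lib.TC.D.HNO.P243
import Cfsg.Agent.Lib.TC.D.HNO.P244
import Cfsg.Agent.Lib.TC.D.HNO.P245
import Cfsg.Agent.Lib.TC.D.HNO.P246
import Cfsg.Agent.Lib.TC.D.HNO.P247
import Cfsg.Agent.Lib.TC.D.HNO.P248
import Cfsg.Agent.Lib.TC.D.HNO.P249
import Cfsg.Agent.Lib.TC.D.HNO.P250
import Cfsg.Agent.Lib.TC.D.HNO.P251
import Cfsg.Agent.Lib.TC.D.HNO.P252
import Cfsg.Agent.Lib.TC.D.HNO.P253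
import Cfsg.Agent.Lib.TC.D.HNO.P254
import Cfsg.Agent.Lib.TC.D.HNO.P255
import Cfsg.Agent.Lib.TC.D.HNO.P256
import Cfsg.Agent.Lib.TC.D.HNO.P257
import Cfsg.Agent.Lib.TC.D.HNO.P258
import Cfsg.Agent.Lib.TC.D.HNO.P259
import Cfsg.Agent.Lib.TC.D.HNO.P260
import Cfsg.Agent.Lib.TC.D.HNO.P261
import Cfsg.Agent.Lib.TC.D.HNO.P262
import Cfsg.Agent.Lib.TC.D.HNO.P263
import Cfsg.Agent.Lib.TC.D.HNO.P264
import Cfsg.Agent.Lib.TC.D.HNO.P265
import Cfsg.Agent.Lib.TC.D.HNO.P266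
import Cfsg.Agent.Lib.TC.D.HNO.P267
import Cfsg.Agent.Lib.TC.D.HNO.P268
import Cfsg.Agent.Lib.TC.D.HNO.P269
import Cfsg.Agent.Lib.TC.D.HNO.P270
import Cfsg.Agent.Lib.TC.D.HNO.P271
import Cfsg.Agent.Lib.TC.D.HNO.P272
import Cfsg.Agent.Lib.TC.D.HNO.P273
import Cfsg.Agent.Lib.TC.D.HNO.P274
import Cfsg.Agent.Lib.TC.D.HNO.P275
import Cfsg.Agent.Lib.TC.D.HNO.P276
import Cfsg.Agent.Lib.TC.D.HNO.P277
import Cfsg.Agent.Lib.TC.D.HNO.P278
import Cfsg.Agent.Lib.TC.D.HNO.P279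
import Cfsg.Agent.Lib.TC.D.HNO.P280
import Cfsg.Agent.Lib.TC.D.HNO.P281
import Cfsg.Agent.Lib.TC.D.HNO.P282
import Cfsg.Agent.Lib.TC.D.HNO.P283
import Cfsg.Agent.Lib.TC.D.HNO.P284
import Cfsg.Agent.Lib.TC.D.HNO.P285
import Cfsg.Agent.Lib.TC.D.HNO.P286
import Cfsg.Agent.Lib.TC.D.HNO.P287
import Cfsg.Agent.Lib.TC.D.HNO.P288
import Cfsg.Agent.Lib.TC.D.HNO.P289
import Cfsg.Agent.Lib.TC.D.HNO.P290
import Cfsg.Agent.Lib.TC.D.HNO.P291
import Cfsg.Agent.Lib.TC.D.HNO.P292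
import Cfsg.Agent.Lib.TC.D.HNO.P293
import Cfsg.Agent.Lib.TC.D.HNO.P294
import Cfsg.Agent.Lib.TC.D.HNO.P295
import Cfsg.Agent.Lib.TC.D.HNO.P296
import Cfsg.Agent.Lib.TC.D.HNO.P297
import Cfsg.Agent.Lib.TC.D.HNO.P298
import Cfsg.Agent.Lib.TC.D.HNO.P299
import Cfsg.Agent.Lib.TC.D.HNO.P300
import Cfsg.Agent.Lib.TC.D.HNO.P301
import Cfsg.Agent.Lib.TC.D.HNO.P302
import Cfsg.Agent.Lib.TC.D.HNO.P303
import Cfsg.Agent.Lib.TC.D.HNO.P304
import Cfsg.Agent.Lib.TC.D.HNO.P305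
import Cfsg.Agent.Lib.TC.D.HNO.P306
import Cfsg.Agent.Lib.TC.D.HNO.P307
import Cfsg.Agent.Lib.TC.D.HNO.P308
import Cfsg.Agent.Lib.TC.D.HNO.P309
import Cfsg.Agent.Lib.TC.D.HNO.P310
import Cfsg.Agent.Lib.TC.D.HNO.P311
import Cfsg.Agent.Lib.TC.D.HNO.P312
import Cfsg.Agent.Lib.TC.D.HNO.P313
import Cfsg.Agent.Lib.TC.D.HNO.P314
import Cfsg.Agent.Lib.TC.D.HNO.P315
import Cfsg.Agent.Lib.TC.D.HNO.P316
import Cfsg.Agent.Lib.TC.D.HNO.P317
import Cfsg.Agent.Lib.TC.D.HNO.P318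
import Cfsg.Agent.Lib.TC.D.HNO.P319
import Cfsg.Agent.Lib.TC.D.HNO.P320
import Cfsg.Agent.Lib.TC.D.HNO.P321
import Cfsg.Agent.Lib.TC.D.HNO.P322
import Cfsg.Agent.Lib.TC.D.HNO.P323
import Cfsg.Agent.Lib.TC.D.HNO.P324
import Cfsg.Agent.Lib.TC.D.HNO.P325
import Cfsg.Agent.Lib.TC.D.HNO.P326
import Cfsg.Agent.Lib.TC.D.HNO.P327
import Cfsg.Agent.Lib.TC.D.HNO.P328
import Cfsg.Agent.Lib.TC.D.HNO.P329
import Cfsg.Agent.Lib.TC.D.HNO.P330
import Cfsg.Agent.Lib.TC.D.HNO.P331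
import Cfsg.Agent.Lib.TC.D.HNO.P332
import Cfsg.Agent.Lib.TC.D.HNO.P333
import Cfsg.Agent.Lib.TC.D.HNO.P334
import Cfsg.Agent.Lib.TC.D.HNO.P335
import Cfsg.Agent.Lib.TC.D.HNO.P336
import Cfsg.Agent.Lib.TC.D.HNO.P337
import Cfsg.Agent.Lib.TC.D.HNO.P338
import Cfsg.Agent.Lib.TC.D.HNO.P339
import Cfsg.Agent.Lib.TC.D.HNO.P340
import Cfsg.Agent.Lib.TC.D.HNO.P341
import Cfsg.Agent.Lib.TC.D.HNO.P342
import Cfsg.Agent.Lib.TC.D.HNO.P343
import Cfsg.Agent.Lib.TC.D.HNO.P344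
import Cfsg.Agent.Lib.TC.D.HNO.P345
import Cfsg.Agent.Lib.TC.D.HNO.P346
import Cfsg.Agent.Lib.TC.D.HNO.P347
import Cfsg.Agent.Lib.TC.D.HNO.P348
import Cfsg.Agent.Lib.TC.D.HNO.P349
import Cfsg.Agent.Lib.TC.D.HNO.P350
import Cfsg.Agent.Lib.TC.D.HNO.P351
import Cfsg.Agent.Lib.TC.D.HNO.P352
import Cfsg.Agent.Lib.TC.D.HNO.P353
import Cfsg.Agent.Lib.TC.D.HNO.P354
import Cfsg.Agent.Lib.TC.D.HNO.P355
import Cfsg.Agent.Lib.TC.D.HNO.P356
import Cfsg.Agent.Lib.TC.D.HNO.P357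
import Cfsg.Agent.Lib.TC.D.HNO.P358
import Cfsg.Agent.Lib.TC.D.HNO.P359
import Cfsg.Agent.Lib.TC.D.HNO.P360
import Cfsg.Agent.Lib.TC.D.HNO.P361
import Cfsg.Agent.Lib.TC.D.HNO.P362
import Cfsg.Agent.Lib.TC.D.HNO.P363
import Cfsg.Agent.Lib.TC.D.HNO.P364
import Cfsg.Agent.Lib.TC.D.HNO.P365
import Cfsg.Agent.Lib.TC.D.HNO.P366
import Cfsg.Agent.Lib.TC.D.HNO.P367
import Cfsg.Agent.Lib.TC.D.HNO.P368
import Cfsg.Agent.Lib.TC.D.HNO.P369
import Cfsg.Agent.Lib.TC.D.HNO.P370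
import Cfsg.Agent.Lib.TC.D.HNO.P371
import Cfsg.Agent.Lib.TC.D.HNO.P372
import Cfsg.Agent.Lib.TC.D.HNO.P373
import Cfsg.Agent.Lib.TC.D.HNO.P374
import Cfsg.Agent.Lib.TC.D.HNO.P375
import Cfsg.Agent.Lib.TC.D.HNO.P376
import Cfsg.Agent.Lib.TC.D.HNO.P377
import Cfsg.Agent.Lib.TC.D.HNO.P378
import Cfsg.Agent.Lib.TC.D.HNO.P379
import Cfsg.Agent.Lib.TC.D.HNO.P380
import Cfsg.Agent.Lib.TC.D.HNO.P381
import Cfsg.Agent.Lib.TC.D.HNO.P382
import Cfsg.Agent.Lib.TC.D.HNO.P383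
import Cfsg.Agent.Lib.TC.D.HNO.P384
import Cfsg.Agent.Lib.TC.D.HNO.P385
import Cfsg.Agent.Lib.TC.D.HNO.P386
import Cfsg.Agent.Lib.TC.D.HNO.P387
import Cfsg.Agent.Lib.TC.D.HNO.P388
import Cfsg.Agent.Lib.TC.D.HNO.P389
import Cfsg.Agent.Lib.TC.D.HNO.P390
import Cfsg.Agent.Lib.TC.D.HNO.P391
import Cfsg.Agent.Lib.TC.D.HNO.P392
import Cfsg.Agent.Lib.TC.D.HNO.P393
import Cfsg.Agent.Lib.TC.D.HNO.P394
import Cfsg.Agent.Lib.TC.D.HNO.P395
import Cfsg.Agent.Lib.TC.D.HNO.P396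
import Cfsg.Agent.Lib.TC.D.HNO.P397
import Cfsg.Agent.Lib.TC.D.HNO.P398
import Cfsg.Agent.Lib.TC.D.HNO.P399
import Cfsg.Agent.Lib.TC.D.HNO.P400
import Cfsg.Agent.Lib.TC.D.HNO.P401
import Cfsg.Agent.Lib.TC.D.HNO.P402
import Cfsg.Agent.Lib.TC.D.HNO.P403
import Cfsg.Agent.Lib.TC.D.HNO.P404
import Cfsg.Agent.Lib.TC.D.HNO.P405
import Cfsg.Agent.Lib.TC.D.HNO.P406
import Cfsg.Agent.Lib.TC.D.HNO.P407
import Cfsg.Agent.Lib.TC.D.HNO.P408
import Cfsg.Agent.Lib.TC.D.HNO.P409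
import Cfsg.Agent.Lib.TC.D.HNO.P410
import Cfsg.Agent.Lib.TC.D.HNO.P411
import Cfsg.Agent.Lib.TC.D.HNO.P412
import Cfsg.Agent.Lib.TC.D.HNO.P413
import Cfsg.Agent.Lib.TC.D.HNO.P414
import Cfsg.Agent.Lib.TC.D.HNO.P415
import Cfsg.Agent.Lib.TC.D.HNO.P416
import Cfsg.Agent.Lib.TC.D.HNO.P417
import Cfsg.Agent.Lib.TC.D.HNO.P418
import Cfsg.Agent.Lib.TC.D.HNO.P419
import Cfsg.Agent.Lib.TC.D.HNO.P420
import Cfsg.Agent.Lib.TC.D.HNO.P421
import Cfsg.Agent.Lib.TC.D.HNO.P422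
import Cfsg.Agent.Lib.TC.D.HNO.P423
import Cfsg.Agent.Lib.TC.D.HNO.P424
import Cfsg.Agent.Lib.TC.D.HNO.P425
import Cfsg.Agent.Lib.TC.D.HNO.P426
import Cfsg.Agent.Lib.TC.D.HNO.P427
import Cfsg.Agent.Lib.TC.D.HNO.P428
import Cfsg.Agent.Lib.TC.D.HNO.P429
import Cfsg.Agent.Lib.TC.D.HNO.P430
import Cfsg.Agent.Lib.TC.D.HNO.P431
import Cfsg.Agent.Lib.TC.D.HNO.P432
import Cfsg.Agent.Lib.TC.D.HNO.P433
import Cfsg.Agent.Lib.TC.D.HNO.P434
import Cfsg.Agent.Lib.TC.D.HNO.P435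
import Cfsg.Agent.Lib.TC.D.HNO.P436
import Cfsg.Agent.Lib.TC.D.HNO.P437
import Cfsg.Agent.Lib.TC.D.HNO.P438
import Cfsg.Agent.Lib.TC.D.HNO.P439
import Cfsg.Agent.Lib.TC.D.HNO.P440
import Cfsg.Agent.Lib.TC.D.HNO.P441
import Cfsg.Agent.Lib.TC.D.HNO.P442
import Cfsg.Agent.Lib.TC.D.HNO.P443
import Cfsg.Agent.Lib.TC.D.HNO.P444
import Cfsg.Agent.Lib.TC.D.HNO.P445
import Cfsg.Agent.Lib.TC.D.HNO.P446
import Cfsg.Agent.Lib.TC.D.HNO.P447
import Cfsg.Agent.Lib.TC.D.HNO.P448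
import Cfsg.Agent.Lib.TC.D.HNO.P449
import Cfsg.Agent.Lib.TC.D.HNO.P450
import Cfsg.Agent.Lib.TC.D.HNO.P451
import Cfsg.Agent.Lib.TC.D.HNO.P452
import Cfsg.Agent.Lib.TC.D.HNO.P453
import Cfsg.Agent.Lib.TC.D.HNO.P454
import Cfsg.Agent.Lib.TC.D.HNO.P455
import Cfsg.Agent.Lib.TC.D.HNO.P456
import Cfsg.Agent.Lib.TC.D.HNO.P457
import Cfsg.Agent.Lib.TC.D.HNO.P458
import Cfsg.Agent.Lib.TC.D.HNO.P459
import Cfsg.Agent.Lib.TC.D.HNO.P460
import Cfsg.Agent.Lib.TC.D.HNO.P461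
import Cfsg.Agent.Lib.TC.D.HNO.P462
import Cfsg.Agent.Lib.TC.D.HNO.P463
import Cfsg.Agent.Lib.TC.D.HNO.P464
import Cfsg.Agent.Lib.TC.D.HNO.P465
import Cfsg.Agent.Lib.TC.D.HNO.P466
import Cfsg.Agent.Lib.TC.D.HNO.P467
import Cfsg.Agent.Lib.TC.D.HNO.P468
import Cfsg.Agent.Lib.TC.D.HNO.P469
import Cfsg.Agent.Lib.TC.D.HNO.P470
import Cfsg.Agent.Lib.TC.D.HNO.P471
import Cfsg.Agent.Lib.TC.D.HNO.P472
import Cfsg.Agent.Lib.TC.D.HNO.P473
import Cfsg.Agent.Lib.TC.D.HNO.P474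
import Cfsg.Agent.Lib.TC.D.HNO.P475
import Cfsg.Agent.Lib.TC.D.HNO.P476
import Cfsg.Agent.Lib.TC.D.HNO.P477
import Cfsg.Agent.Lib.TC.D.HNO.P478
import Cfsg.Agent.Lib.TC.D.HNO.P479
import Cfsg.Agent.Lib.TC.D.HNO.P480
import Cfsg.Agent.Lib.TC.D.HNO.P481
import Cfsg.Agent.Lib.TC.D.HNO.P482
import Cfsg.Agent.Lib.TC.D.HNO.P483
import Cfsg.Agent.Lib.TC.D.HNO.P484
import Cfsg.Agent.Lib.TC.D.HNO.P485
import Cfsg.Agent.Lib.TC.D.HNO.P486
import Cfsg.Agent.Lib.TC.D.HNO.P487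
import Cfsg.Agent.Lib.TC.D.HNO.P488
import Cfsg.Agent.Lib.TC.D.HNO.P489
import Cfsg.Agent.Lib.TC.D.HNO.P490
import Cfsg.Agent.Lib.TC.D.HNO.P491
import Cfsg.Agent.Lib.TC.D.HNO.P492
import Cfsg.Agent.Lib.TC.D.HNO.P493
import Cfsg.Agent.Lib.TC.D.HNO.P494
import Cfsg.Agent.Lib.TC.D.HNO.P495
import Cfsg.Agent.Lib.TC.D.HNO.P496
import Cfsg.Agent.Lib.TC.D.HNO.P497
import Cfsg.Agent.Lib.TC.D.HNO.P498
import Cfsg.Agent.Lib.TC.D.HNO.P499
import Cfsg.Agent.Lib.TC.D.HNO.P500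
import Cfsg.Agent.Lib.TC.D.HNO.P501
import Cfsg.Agent.Lib.TC.D.HNO.P502
import Cfsg.Agent.Lib.TC.D.HNO.P503
import Cfsg.Agent.Lib.TC.D.HNO.P504
import Cfsg.Agent.Lib.TC.D.HNO.P505
import Cfsg.Agent.Lib.TC.D.HNO.P506
import Cfsg.Agent.Lib.TC.D.HNO.P507
import Cfsg.Agent.Lib.TC.D.HNO.P508
import Cfsg.Agent.Lib.TC.D.HNO.P509
import Cfsg.Agent.Lib.TC.D.HNO.P510
import Cfsg.Agent.Lib.TC.D.HNO.P511
import Cfsg.Agent.Lib.TC.D.HNO.P512
import Cfsg.Agent.Lib.TC.D.HNO.P513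
import Cfsg.Agent.Lib.TC.D.HNO.P514
import Cfsg.Agent.Lib.TC.D.HNO.P515
import Cfsg.Agent.Lib.TC.D.HNO.P516
import Cfsg.Agent.Lib.TC.D.HNO.P517
import Cfsg.Agent.Lib.TC.D.HNO.P518
import Cfsg.Agent.Lib.TC.D.HNO.P519
import Cfsg.Agent.Lib.TC.D.HNO.P520
import Cfsg.Agent.Lib.TC.D.HNO.P521
import Cfsg.Agent.Lib.TC.D.HNO.P522
import Cfsg.Agent.Lib.TC.D.HNO.P523
import Cfsg.Agent.Lib.TC.D.HNO.P524
import Cfsg.Agent.Lib.TC.D.HNO.P525
import Cfsg.Agent.Lib.TC.D.HNO.P526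
import Cfsg.Agent.Lib.TC.D.HNO.P527
import Cfsg.Agent.Lib.TC.D.HNO.P528
import Cfsg.Agent.Lib.TC.D.HNO.P529
import Cfsg.Agent.Lib.TC.D.HNO.P530
import Cfsg.Agent.Lib.TC.D.HNO.P531
import Cfsg.Agent.Lib.TC.D.HNO.P532
import Cfsg.Agent.Lib.TC.D.HNO.P533
import Cfsg.Agent.Lib.TC.D.HNO.P534
import Cfsg.Agent.Lib.TC.D.HNO.P535
import Cfsg.Agent.Lib.TC.D.HNO.P536
import Cfsg.Agent.Lib.TC.D.HNO.P537
import Cfsg.Agent.Lib.TC.D.HNO.P538
import Cfsg.Agent.Lib.TC.D.HNO.P539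
import Cfsg.Agent.Lib.TC.D.HNO.P540
import Cfsg.Agent.Lib.TC.D.HNO.P541
import Cfsg.Agent.Lib.TC.D.HNO.P542
import Cfsg.Agent.Lib.TC.D.HNO.P543
import Cfsg.Agent.Lib.TC.D.HNO.P544
import Cfsg.Agent.Lib.TC.D.HNO.P545
import Cfsg.Agent.Lib.TC.D.HNO.P546
import Cfsg.Agent.Lib.TC.D.HNO.P547
import Cfsg.Agent.Lib.TC.D.HNO.P548
import Cfsg.Agent.Lib.TC.D.HNO.P549
import Cfsg.Agent.Lib.TC.D.HNO.P550
import Cfsg.Agent.Lib.TC.D.HNO.P551
import Cfsg.Agent.Lib.TC.D.HNO.P552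
import Cfsg.Agent.Lib.TC.D.HNO.P553
import Cfsg.Agent.Lib.TC.D.HNO.P554
import Cfsg.Agent.Lib.TC.D.HNO.P555
import Cfsg.Agent.Lib.TC.D.HNO.P556
import Cfsg.Agent.Lib.TC.D.HNO.P557
import Cfsg.Agent.Lib.TC.D.HNO.P558
import Cfsg.Agent.Lib.TC.D.HNO.P559
import Cfsg.Agent.Lib.TC.D.HNO.P560
import Cfsg.Agent.Lib.TC.D.HNO.P561
import Cfsg.Agent.Lib.TC.D.HNO.P562
import Cfsg.Agent.Lib.TC.D.HNO.P563
import Cfsg.Agent.Lib.TC.D.HNO.P564
import Cfsg.Agent.Lib.TC.D.HNO.P565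
import Cfsg.Agent.Lib.TC.D.HNO.P566
import Cfsg.Agent.Lib.TC.D.HNO.P567
import Cfsg.Agent.Lib.TC.D.HNO.P568
import Cfsg.Agent.Lib.TC.D.HNO.P569
import Cfsg.Agent.Lib.TC.D.HNO.P570
import Cfsg.Agent.Lib.TC.D.HNO.P571
import Cfsg.Agent.Lib.TC.D.HNO.P572
import Cfsg.Agent.Lib.TC.D.HNO.P573
import Cfsg.Agent.Lib.TC.D.HNO.P574
import Cfsg.Agent.Lib.TC.D.HNO.P575
import Cfsg.Agent.Lib.TC.D.HNO.P576
import Cfsg.Agent.Lib.TC.D.HNO.P577
import Cfsg.Agent.Lib.TC.D.HNO.P578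
import Cfsg.Agent.Lib.TC.D.HNO.P579
import Cfsg.Agent.Lib.TC.D.HNO.P580
import Cfsg.Agent.Lib.TC.D.HNO.P581
import Cfsg.Agent.Lib.TC.D.HNO.P582
import Cfsg.Agent.Lib.TC.D.HNO.P583
import Cfsg.Agent.Lib.TC.D.HNO.P584
import Cfsg.Agent.Lib.TC.D.HNO.P585
import Cfsg.Agent.Lib.TC.D.HNO.P586
import Cfsg.Agent.Lib.TC.D.HNO.P587
import Cfsg.Agent.Lib.TC.D.HNO.P588
import Cfsg.Agent.Lib.TC.D.HNO.P589
import Cfsg.Agent.Lib.TC.D.HNO.P590
import Cfsg.Agent.Lib.TC.D.HNO.P591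
import Cfsg.Agent.Lib.TC.D.HNO.P592
import Cfsg.Agent.Lib.TC.D.HNO.P593
import Cfsg.Agent.Lib.TC.D.HNO.P594
import Cfsg.Agent.Lib.TC.D.HNO.P595
import Cfsg.Agent.Lib.TC.D.HNO.P596
import Cfsg.Agent.Lib.TC.D.HNO.P597
import Cfsg.Agent.Lib.TC.D.HNO.P598
import Cfsg.Agent.Lib.TC.D.HNO.P599
import Cfsg.Agent.Lib.TC.D.HNO.P600
import Cfsg.Agent.Lib.TC.D.HNO.P601
import Cfsg.Agent.Lib.TC.D.HNO.P602
import Cfsg.Agent.Lib.TC.D.HNO.P603
import Cfsg.Agent.Lib.TC.D.HNO.P604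
import Cfsg.Agent.Lib.TC.D.HNO.P605
import Cfsg.Agent.Lib.TC.D.HNO.P606
import Cfsg.Agent.Lib.TC.D.HNO.P607
import Cfsg.Agent.Lib.TC.D.HNO.P608
import Cfsg.Agent.Lib.TC.D.HNO.P609
import Cfsg.Agent.Lib.TC.D.HNO.P610
import Cfsg.Agent.Lib.TC.D.HNO.P611
import Cfsg.Agent.Lib.TC.D.HNO.P612
import Cfsg.Agent.Lib.TC.D.HNO.P613
import Cfsg.Agent.Lib.TC.D.HNO.P614
import Cfsg.Agent.Lib.TC.D.HNO.P615
import Cfsg.Agent.Lib.TC.D.HNO.P616
import Cfsg.Agent.Lib.TC.D.HNO.P617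
import Cfsg.Agent.Lib.TC.D.HNO.P618
import Cfsg.Agent.Lib.TC.D.HNO.P619
import Cfsg.Agent.Lib.TC.D.HNO.P620
import Cfsg.Agent.Lib.TC.D.HNO.P621
import Cfsg.Agent.Lib.TC.D.HNO.P622
import Cfsg.Agent.Lib.TC.D.HNO.P623
import Cfsg.Agent.Lib.TC.D.HNO.P624
import Cfsg.Agent.Lib.TC.D.HNO.P625
import Cfsg.Agent.Lib.TC.D.HNO.P626
import Cfsg.Agent.Lib.TC.D.HNO.P627
import Cfsg.Agent.Lib.TC.D.HNO.P628
import Cfsg.Agent.Lib.TC.D.HNO.P629
import Cfsg.Agent.Lib.TC.D.HNO.P630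
import Cfsg.Agent.Lib.TC.D.HNO.P631
import Cfsg.Agent.Lib.TC.D.HNO.P632
import Cfsg.Agent.Lib.TC.D.HNO.P633
import Cfsg.Agent.Lib.TC.D.HNO.P634
import Cfsg.Agent.Lib.TC.D.HNO.P635
import Cfsg.Agent.Lib.TC.D.HNO.P636
import Cfsg.Agent.Lib.TC.D.HNO.P637
import Cfsg.Agent.Lib.TC.D.HNO.P638
import Cfsg.Agent.Lib.TC.D.HNO.P639
import Cfsg.Agent.Lib.TC.D.HNO.P640
import Cfsg.Agent.Lib.TC.D.HNO.P641
import Cfsg.Agent.Lib.TC.D.HNO.P642
import Cfsg.Agent.Lib.TC.D.HNO.P643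
import Cfsg.Agent.Lib.TC.D.HNO.P644
import Cfsg.Agent.Lib.TC.D.HNO.P645
import Cfsg.Agent.Lib.TC.D.HNO.P646
import Cfsg.Agent.Lib.TC.D.HNO.P647
import Cfsg.Agent.Lib.TC.D.HNO.P648
import Cfsg.Agent.Lib.TC.D.HNO.P649
import Cfsg.Agent.Lib.TC.D.HNO.P650
import Cfsg.Agent.Lib.TC.D.HNO.P651
import Cfsg.Agent.Lib.TC.D.HNO.P652
import Cfsg.Agent.Lib.TC.D.HNO.P653
import Cfsg.Agent.Lib.TC.D.HNO.P654
import Cfsg.Agent.Lib.TC.D.HNO.P655
import Cfsg.Agent.Lib.TC.D.HNO.P656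
import Cfsg.Agent.Lib.TC.D.HNO.P657
import Cfsg.Agent.Lib.TC.D.HNO.P658
import Cfsg.Agent.Lib.TC.D.HNO.P659
import Cfsg.Agent.Lib.TC.D.HNO.P660
import Cfsg.Agent.Lib.TC.D.HNO.P661
import Cfsg.Agent.Lib.TC.D.HNO.P662
import Cfsg.Agent.Lib.TC.D.HNO.P663
import Cfsg.Agent.Lib.TC.D.HNO.P664
import Cfsg.Agent.Lib.TC.D.HNO.P665
import Cfsg.Agent.Lib.TC.D.HNO.P666
import Cfsg.Agent.Lib.TC.D.HNO.P667
import Cfsg.Agent.Lib.TC.D.HNO.P668
import Cfsg.Agent.Lib.TC.D.HNO.P669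
import Cfsg.Agent.Lib.TC.D.HNO.P670
import Cfsg.Agent.Lib.TC.D.HNO.P671
import Cfsg.Agent.Lib.TC.D.HNO.P672
import Cfsg.Agent.Lib.TC.D.HNO.P673
import Cfsg.Agent.Lib.TC.D.HNO.P674
import Cfsg.Agent.Lib.TC.D.HNO.P675
import Cfsg.Agent.Lib.TC.D.HNO.P676
import Cfsg.Agent.Lib.TC.D.HNO.P677
import Cfsg.Agent.Lib.TC.D.HNO.P678
import Cfsg.Agent.Lib.TC.D.HNO.P679
import Cfsg.Agent.Lib.TC.D.HNO.P680
import Cfsg.Agent.Lib.TC.D.HNO.P681
import Cfsg.Agent.Lib.TC.D.HNO.P682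
import Cfsg.Agent.Lib.TC.D.HNO.P683
import Cfsg.Agent.Lib.TC.D.HNO.P684
import Cfsg.Agent.Lib.TC.D.HNO.P685
import Cfsg.Agent.Lib.TC.D.HNO.P686
import Cfsg.Agent.Lib.TC.D.HNO.P687
import Cfsg.Agent.Lib.TC.D.HNO.P688
import Cfsg.Agent.Lib.TC.D.HNO.P689
import Cfsg.Agent.Lib.TC.D.HNO.P690
import Cfsg.Agent.Lib.TC.D.HNO.P691
import Cfsg.Agent.Lib.TC.D.HNO.P692
import Cfsg.Agent.Lib.TC.D.HNO.P693
import Cfsg.Agent.Lib.TC.D.HNO.P694
import Cfsg.Agent.Lib.TC.D.HNO.P695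
import Cfsg.Agent.Lib.TC.D.HNO.P696
import Cfsg.Agent.Lib.TC.D.HNO.P697
import Cfsg.Agent.Lib.TC.D.HNO.P698
import Cfsg.Agent.Lib.TC.D.HNO.P699
import Cfsg.Agent.Lib.TC.D.HNO.P700
import Cfsg.Agent.Lib.TC.D.HNO.P701
import Cfsg.Agent.Lib.TC.D.HNO.P702
import Cfsg.Agent.Lib.TC.D.HNO.P703
import Cfsg.Agent.Lib.TC.D.HNO.P704
import Cfsg.Agent.Lib.TC.D.HNO.P705
import Cfsg.Agent.Lib.TC.D.HNO.P706
import Cfsg.Agent.Lib.TC.D.HNO.P707
import Cfsg.Agent.Lib.TC.D.HNO.P708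
import Cfsg.Agent.Lib.TC.D.HNO.P709
import Cfsg.Agent.Lib.TC.D.HNO.P710
import Cfsg.Agent.Lib.TC.D.HNO.P711
import Cfsg.Agent.Lib.TC.D.HNO.P712
import Cfsg.Agent.Lib.TC.D.HNO.P713
import Cfsg.Agent.Lib.TC.D.HNO.P714
import Cfsg.Agent.Lib.TC.D.HNO.P715
import Cfsg.Agent.Lib.TC.D.HNO.P716
import Cfsg.Agent.Lib.TC.D.HNO.P717
import Cfsg.Agent.Lib.TC.D.HNO.P718
import Cfsg.Agent.Lib.TC.D.HNO.P719
import Cfsg.Agent.Lib.TC.D.HNO.P720
import Cfsg.Agent.Lib.TC.D.HNO.P721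
import Cfsg.Agent.Lib.TC.D.HNO.P722
import Cfsg.Agent.Lib.TC.D.HNO.P723
import Cfsg.Agent.Lib.TC.D.HNO.P724
import Cfsg.Agent.Lib.TC.D.HNO.P725
import Cfsg.Agent.Lib.TC.D.HNO.P726
import Cfsg.Agent.Lib.TC.D.HNO.P727
import Cfsg.Agent.Lib.TC.D.HNO.P728
import Cfsg.Agent.Lib.TC.D.HNO.P729
import Cfsg.Agent.Lib.TC.D.HNO.P730
import Cfsg.Agent.Lib.TC.D.HNO.P731
import Cfsg.Agent.Lib.TC.D.HNO.P732
import Cfsg.Agent.Lib.TC.D.HNO.P733
import Cfsg.Agent.Lib.TC.D.HNO.P734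
import Cfsg.Agent.Lib.TC.D.HNO.P735
import Cfsg.Agent.Lib.TC.D.HNO.P736
import Cfsg.Agent.Lib.TC.D.HNO.P737
import Cfsg.Agent.Lib.TC.D.HNO.P738
import Cfsg.Agent.Lib.TC.D.HNO.P739
import Cfsg.Agent.Lib.TC.D.HNO.P740
import Cfsg.Agent.Lib.TC.D.HNO.P741
import Cfsg.Agent.Lib.TC.D.HNO.P742
import Cfsg.Agent.Lib.TC.D.HNO.P743
import Cfsg.Agent.Lib.TC.D.HNO.P744
import Cfsg.Agent.Lib.TC.D.HNO.P745
import Cfsg.Agent.Lib.TC.D.HNO.P746
import Cfsg.Agent.Lib.TC.D.HNO.P747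
import Cfsg.Agent.Lib.TC.D.HNO.P748
import Cfsg.Agent.Lib.TC.D.HNO.P749
import Cfsg.Agent.Lib.TC.D.HNO.P750
import Cfsg.Agent.Lib.TC.D.HNO.P751
import Cfsg.Agent.Lib.TC.D.HNO.P752
import Cfsg.Agent.Lib.TC.D.HNO.P753
import Cfsg.Agent.Lib.TC.D.HNO.P754
import Cfsg.Agent.Lib.TC.D.HNO.P755
import Cfsg.Agent.Lib.TC.D.HNO.P756
import Cfsg.Agent.Lib.TC.D.HNO.P757
import Cfsg.Agent.Lib.TC.D.HNO.P758
import Cfsg.Agent.Lib.TC.D.HNO.P759
import Cfsg.Agent.Lib.TC.D.HNO.P760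
import Cfsg.Agent.Lib.TC.D.HNO.P761
import Cfsg.Agent.Lib.TC.D.HNO.P762
import Cfsg.Agent.Lib.TC.D.HNO.P763
import Cfsg.Agent.Lib.TC.D.HNO.P764
import Cfsg.Agent.Lib.TC.D.HNO.P765
import Cfsg.Agent.Lib.TC.D.HNO.P766
import Cfsg.Agent.Lib.TC.D.HNO.P767
import Cfsg.Agent.Lib.TC.D.HNO.P768
import Cfsg.Agent.Lib.TC.D.HNO.P769
import Cfsg.Agent.Lib.TC.D.HNO.P770
import Cfsg.Agent.Lib.TC.D.HNO.P771
import Cfsg.Agent.Lib.TC.D.HNO.P772
import Cfsg.Agent.Lib.TC.D.HNO.P773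
import Cfsg.Agent.Lib.TC.D.HNO.P774
import Cfsg.Agent.Lib.TC.D.HNO.P775
import Cfsg.Agent.Lib.TC.D.HNO.P776
import Cfsg.Agent.Lib.TC.D.HNO.P777
import Cfsg.Agent.Lib.TC.D.HNO.P778
import Cfsg.Agent.Lib.TC.D.HNO.P779
import Cfsg.Agent.Lib.TC.D.HNO.P780
import Cfsg.Agent.Lib.TC.D.HNO.P781
import Cfsg.Agent.Lib.TC.D.HNO.P782
import Cfsg.Agent.Lib.TC.D.HNO.P783
import Cfsg.Agent.Lib.TC.D.HNO.P784
import Cfsg.Agent.Lib.TC.D.HNO.P785
import Cfsg.Agent.Lib.TC.D.HNO.P786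
import Cfsg.Agent.Lib.TC.D.HNO.P787
import Cfsg.Agent.Lib.TC.D.HNO.P788
import Cfsg.Agent.Lib.TC.D.HNO.P789
import Cfsg.Agent.Lib.TC.D.HNO.P790
import Cfsg.Agent.Lib.TC.D.HNO.P791
import Cfsg.Agent.Lib.TC.D.HNO.P792
import Cfsg.Agent.Lib.TC.D.HNO.P793
import Cfsg.Agent.Lib.TC.D.HNO.P794
import Cfsg.Agent.Lib.TC.D.HNO.P795
import Cfsg.Agent.Lib.TC.D.HNO.P796
import Cfsg.Agent.Lib.TC.D.HNO.P797
import Cfsg.Agent.Lib.TC.D.HNO.P798
import Cfsg.Agent.Lib.TC.D.HNO.P799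
import Cfsg.Agent.Lib.TC.D.HNO.P800
import Cfsg.Agent.Lib.TC.D.HNO.P801
import Cfsg.Agent.Lib.TC.D.HNO.P802
import Cfsg.Agent.Lib.TC.D.HNO.P803
import Cfsg.Agent.Lib.TC.D.HNO.P804
import Cfsg.Agent.Lib.TC.D.HNO.P805
import Cfsg.Agent.Lib.TC.D.HNO.P806
import Cfsg.Agent.Lib.TC.D.HNO.P807
import Cfsg.Agent.Lib.TC.D.HNO.P808
import Cfsg.Agent.Lib.TC.D.HNO.P809
import Cfsg.Agent.Lib.TC.D.HNO.P810
import Cfsg.Agent.Lib.TC.D.HNO.P811
import Cfsg.Agent.Lib.TC.D.HNO.P812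
import Cfsg.Agent.Lib.TC.D.HNO.P813
import Cfsg.Agent.Lib.TC.D.HNO.P814
import Cfsg.Agent.Lib.TC.D.HNO.P815
import Cfsg.Agent.Lib.TC.D.HNO.P816
import Cfsg.Agent.Lib.TC.D.HNO.P817
import Cfsg.Agent.Lib.TC.D.HNO.P818
import Cfsg.Agent.Lib.TC.D.HNO.P819
import Cfsg.Agent.Lib.TC.D.HNO.P820
import Cfsg.Agent.Lib.TC.D.HNO.P821
import Cfsg.Agent.Lib.TC.D.HNO.P822
import Cfsg.Agent.Lib.TC.D.HNO.P823
import Cfsg.Agent.Lib.TC.D.HNO.P824
import Cfsg.Agent.Lib.TC.D.HNO.P825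
import Cfsg.Agent.Lib.TC.D.HNO.P826
import Cfsg.Agent.Lib.TC.D.HNO.P827
import Cfsg.Agent.Lib.TC.D.HNO.P828
import Cfsg.Agent.Lib.TC.D.HNO.P829
import Cfsg.Agent.Lib.TC.D.HNO.P830
import Cfsg.Agent.Lib.TC.D.HNO.P831
import Cfsg.Agent.Lib.TC.D.HNO.P832
import Cfsg.Agent.Lib.TC.D.HNO.P833
import Cfsg.Agent.Lib.TC.D.HNO.P834
import Cfsg.Agent.Lib.TC.D.HNO.P835
import Cfsg.Agent.Lib.TC.D.HNO.P836
import Cfsg.Agent.Lib.TC.D.HNO.P837
import Cfsg.Agent.Lib.TC.D.HNO.P838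
import Cfsg.Agent.Lib.TC.D.HNO.P839
import Cfsg.Agent.Lib.TC.D.HNO.P840
import Cfsg.Agent.Lib.TC.D.HNO.P841
import Cfsg.Agent.Lib.TC.D.HNO.P842
import Cfsg.Agent.Lib.TC.D.HNO.P843
import Cfsg.Agent.Lib.TC.D.HNO.P844
import Cfsg.Agent.Lib.TC.D.HNO.P845
import Cfsg.Agent.Lib.TC.D.HNO.P846
import Cfsg.Agent.Lib.TC.D.HNO.P847
import Cfsg.Agent.Lib.TC.D.HNO.P848
import Cfsg.Agent.Lib.TC.D.HNO.P849
import Cfsg.Agent.Lib.TC.D.HNO.P850
import Cfsg.Agent.Lib.TC.D.HNO.P851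
import Cfsg.Agent.Lib.TC.D.HNO.P852
import Cfsg.Agent.Lib.TC.D.HNO.P853
import Cfsg.Agent.Lib.TC.D.HNO.P854
import Cfsg.Agent.Lib.TC.D.HNO.P855
import Cfsg.Agent.Lib.TC.D.HNO.P856
import Cfsg.Agent.Lib.TC.D.HNO.P857
import Cfsg.Agent.Lib.TC.D.HNO.P858
import Cfsg.Agent.Lib.TC.D.HNO.P859
import Cfsg.Agent.Lib.TC.D.HNO.P860
import Cfsg.Agent.Lib.TC.D.HNO.P861
import Cfsg.Agent.Lib.TC.D.HNO.P862
import Cfsg.Agent.Lib.TC.D.HNO.P863
import Cfsg.Agent.Lib.TC.D.HNO.P864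
import Cfsg.Agent.Lib.TC.D.HNO.P865
import Cfsg.Agent.Lib.TC.D.HNO.P866
import Cfsg.Agent.Lib.TC.D.HNO.P867
import Cfsg.Agent.Lib.TC.D.HNO.P868
import Cfsg.Agent.Lib.TC.D.HNO.P869
import Cfsg.Agent.Lib.TC.D.HNO.P870
import Cfsg.Agent.Lib.TC.D.HNO.P871
import Cfsg.Agent.Lib.TC.D.HNO.P872
import Cfsg.Agent.Lib.TC.D.HNO.P873
import Cfsg.Agent.Lib.TC.D.HNO.P874
import Cfsg.Agent.Lib.TC.D.HNO.P875
import Cfsg.Agent.Lib.TC.D.HNO.P876
import Cfsg.Agent.Lib.TC.D.HNO.P877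
import Cfsg.Agent.Lib.TC.D.HNO.P878
import Cfsg.Agent.Lib.TC.D.HNO.P879
import Cfsg.Agent.Lib.TC.D.HNO.P880
import Cfsg.Agent.Lib.TC.D.HNO.P881
import Cfsg.Agent.Lib.TC.D.HNO.P882
import Cfsg.Agent.Lib.TC.D.HNO.P883
import Cfsg.Agent.Lib.TC.D.HNO.P884
import Cfsg.Agent.Lib.TC.D.HNO.P885
import Cfsg.Agent.Lib.TC.D.HNO.P886
import Cfsg.Agent.Lib.TC.D.HNO.P887
import Cfsg.Agent.Lib.TC.D.HNO.P888
import Cfsg.Agent.Lib.TC.D.HNO.P889
import Cfsg.Agent.Lib.TC.D.HNO.P890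
import Cfsg.Agent.Lib.TC.D.HNO.P891
import Cfsg.Agent.Lib.TC.D.HNO.P892
import Cfsg.Agent.Lib.TC.D.HNO.P893
import Cfsg.Agent.Lib.TC.D.HNO.P894
import Cfsg.Agent.Lib.TC.D.HNO.P895
import Cfsg.Agent.Lib.TC.D.HNO.P896
import Cfsg.Agent.Lib.TC.D.HNO.P897
import Cfsg.Agent.Lib.TC.D.HNO.P898
import Cfsg.Agent.Lib.TC.D.HNO.P899
import Cfsg.Agent.Lib.TC.D.HNO.P900
import Cfsg.Agent.Lib.TC.D.HNO.P901
import Cfsg.Agent.Lib.TC.D.HNO.P902
import Cfsg.Agent.Lib.TC.D.HNO.P903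
import Cfsg.Agent.Lib.TC.D.HNO.P904
import Cfsg.Agent.Lib.TC.D.HNO.P905
import Cfsg.Agent.Lib.TC.D.HNO.P906
import Cfsg.Agent.Lib.TC.D.HNO.P907
import Cfsg.Agent.Lib.TC.D.HNO.P908
import Cfsg.Agent.Lib.TC.D.HNO.P909
import Cfsg.Agent.Lib.TC.D.HNO.P910
import Cfsg.Agent.Lib.TC.D.HNO.P911
import Cfsg.Agent.Lib.TC.D.HNO.P912
import Cfsg.Agent.Lib.TC.D.HNO.P913
import Cfsg.Agent.Lib.TC.D.HNO.P914
import Cfsg.Agent.Lib.TC.D.HNO.P915
import Cfsg.Agent.Lib.TC.D.HNO.P916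
import Cfsg.Agent.Lib.TC.D.HNO.P917
import Cfsg.Agent.Lib.TC.D.HNO.P918
import Cfsg.Agent.Lib.TC.D.HNO.P919
import Cfsg.Agent.Lib.TC.D.HNO.P920
import Cfsg.Agent.Lib.TC.D.HNO.P921
import Cfsg.Agent.Lib.TC.D.HNO.P922
import Cfsg.Agent.Lib.TC.D.HNO.P923
import Cfsg.Agent.Lib.TC.D.HNO.P924
import Cfsg.Agent.Lib.TC.D.HNO.P925
import Cfsg.Agent.Lib.TC.D.HNO.P926
import Cfsg.Agent.Lib.TC.D.HNO.P927
import Cfsg.Agent.Lib.TC.D.HNO.P928
import Cfsg.Agent.Lib.TC.D.HNO.P929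
import Cfsg.Agent.Lib.TC.D.HNO.P930
import Cfsg.Agent.Lib.TC.D.HNO.P931
import Cfsg.Agent.Lib.TC.D.HNO.P932
import Cfsg.Agent.Lib.TC.D.HNO.P933
import Cfsg.Agent.Lib.TC.D.HNO.P934
import Cfsg.Agent.Lib.TC.D.HNO.P935
import Cfsg.Agent.Lib.TC.D.HNO.P936
import Cfsg.Agent.Lib.TC.D.HNO.P937
import Cfsg.Agent.Lib.TC.D.HNO.P938
import Cfsg.Agent.Lib.TC.D.HNO.P939
import Cfsg.Agent.Lib.TC.D.HNO.P940
import Cfsg.Agent.Lib.TC.D.HNO.P941
import Cfsg.Agent.Lib.TC.D.HNO.P942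
import Cfsg.Agent.Lib.TC.D.HNO.P943
import Cfsg.Agent.Lib.TC.D.HNO.P944
import Cfsg.Agent.Lib.TC.D.HNO.P945
import Cfsg.Agent.Lib.TC.D.HNO.P946
import Cfsg.Agent.Lib.TC.D.HNO.P947
import Cfsg.Agent.Lib.TC.D.HNO.P948
import Cfsg.Agent.Lib.TC.D.HNO.P949
import Cfsg.Agent.Lib.TC.D.HNO.P950
import Cfsg.Agent.Lib.TC.D.HNO.P951
import Cfsg.Agent.Lib.TC.D.HNO.P952
import Cfsg.Agent.Lib.TC.D.HNO.P953
import Cfsg.Agent.Lib.TC.D.HNO.P954
import Cfsg.Agent.Lib.TC.D.HNO.P955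
import Cfsg.Agent.Lib.TC.D.HNO.P956
import Cfsg.Agent.Lib.TC.D.HNO.P957
import Cfsg.Agent.Lib.TC.D.HNO.P958
import Cfsg.Agent.Lib.TC.D.HNO.P959
import Cfsg.Agent.Lib.TC.D.HNO.P960
import Cfsg.Agent.Lib.TC.D.HNO.P961
import Cfsg.Agent.Lib.TC.D.HNO.P962
import Cfsg.Agent.Lib.TC.D.HNO.P963
import Cfsg.Agent.Lib.TC.D.HNO.P964
import Cfsg.Agent.Lib.TC.D.HNO.P965
import Cfsg.Agent.Lib.TC.D.HNO.P966
import Cfsg.Agent.Lib.TC.D.HNO.P967
import Cfsg.Agent.Lib.TC.D.HNO.P968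
import Cfsg.Agent.Lib.TC.D.HNO.P969
import Cfsg.Agent.Lib.TC.D.HNO.P970
import Cfsg.Agent.Lib.TC.D.HNO.P971
import Cfsg.Agent.Lib.TC.D.HNO.P972
import Cfsg.Agent.Lib.TC.D.HNO.P973
import Cfsg.Agent.Lib.TC.D.HNO.P974
import Cfsg.Agent.Lib.TC.D.HNO.P975
import Cfsg.Agent.Lib.TC.D.HNO.P976
import Cfsg.Agent.Lib.TC.D.HNO.P977
import Cfsg.Agent.Lib.TC.D.HNO.P978
import Cfsg.Agent.Lib.TC.D.HNO.P979
import Cfsg.Agent.Lib.TC.D.HNO.P980
import Cfsg.Agent.Lib.TC.D.HNO.P981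
import Cfsg.Agent.Lib.TC.D.HNO.P982
import Cfsg.Agent.Lib.TC.D.HNO.P983
import Cfsg.Agent.Lib.TC.D.HNO.P984
import Cfsg.Agent.Lib.TC.D.HNO.P985
import Cfsg.Agent.Lib.TC.D.HNO.P986
import Cfsg.Agent.Lib.TC.D.HNO.P987
import Cfsg.Agent.Lib.TC.D.HNO.P988
import Cfsg.Agent.Lib.TC.D.HNO.P989
import Cfsg.Agent.Lib.TC.D.HNO.P990
import Cfsg.Agent.Lib.TC.D.HNO.P991
import Cfsg.Agent.Lib.TC.D.HNO.P992
import Cfsg.Agent.Lib.TC.D.HNO.P993
import Cfsg.Agent.Lib.TC.D.HNO.P994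
import Cfsg.Agent.Lib.TC.D.HNO.P995
import Cfsg.Agent.Lib.TC.D.HNO.P996
import Cfsg.Agent.Lib.TC.D.HNO.P997
import Cfsg.Agent.Lib.TC.D.HNO.P998
import Cfsg.Agent.Lib.TC.D.HNO.P999
import Cfsg.Agent.Lib.TC.D.HNO.P1000
import Cfsg.Agent.Lib.TC.D.HNO.P1001
import Cfsg.Agent.Lib.TC.D.HNO.P1002
import Cfsg.Agent.Lib.TC.D.HNO.P1003
import Cfsg.Agent.Lib.TC.D.HNO.P1004
import Cfsg.Agent.Lib.TC.D.HNO.P1005
import Cfsg.Agent.Lib.TC.D.HNO.P1006
import Cfsg.Agent.Lib.TC.D.HNO.P1007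
import Cfsg.Agent.Lib.TC.D.HNO.P1008
import Cfsg.Agent.Lib.TC.D.HNO.P1009
import Cfsg.Agent.Lib.TC.D.HNO.P1010
import Cfsg.Agent.Lib.TC.D.HNO.P1011
import Cfsg.Agent.Lib.TC.D.HNO.P1012
import Cfsg.Agent.Lib.TC.D.HNO.P1013
import Cfsg.Agent.Lib.TC.D.HNO.P1014
import Cfsg.Agent.Lib.TC.D.HNO.P1015
import Cfsg.Agent.Lib.TC.D.HNO.P1016
import Cfsg.Agent.Lib.TC.D.HNO.P1017
import Cfsg.Agent.Lib.TC.D.HNO.P1018
import Cfsg.Agent.Lib.TC.D.HNO.P1019
import Cfsg.Agent.Lib.TC.D.HNO.P1020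
import Cfsg.Agent.Lib.TC.D.HNO.P1021
import Cfsg.Agent.Lib.TC.D.HNO.P1022
import Cfsg.Agent.Lib.TC.D.HNO.P1023
import Cfsg.Agent.Lib.TC.D.HNO.P1024
import Cfsg.Agent.Lib.TC.D.HNO.P1025
import Cfsg.Agent.Lib.TC.D.HNO.P1026
import Cfsg.Agent.Lib.TC.D.HNO.P1027
import Cfsg.Agent.Lib.TC.D.HNO.P1028
import Cfsg.Agent.Lib.TC.D.HNO.P1029
import Cfsg.Agent.Lib.TC.D.HNO.P1030
import Cfsg.Agent.Lib.TC.D.HNO.P1031
import Cfsg.Agent.Lib.TC.D.HNO.P1032
import Cfsg.Agent.Lib.TC.D.HNO.P1033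
import Cfsg.Agent.Lib.TC.D.HNO.P1034
import Cfsg.Agent.Lib.TC.D.HNO.P1035
import Cfsg.Agent.Lib.TC.D.HNO.P1036
import Cfsg.Agent.Lib.TC.D.HNO.P1037
import Cfsg.Agent.Lib.TC.D.HNO.P1038
import Cfsg.Agent.Lib.TC.D.HNO.P1039
import Cfsg.Agent.Lib.TC.D.HNO.P1040
import Cfsg.Agent.Lib.TC.D.HNO.P1041
import Cfsg.Agent.Lib.TC.D.HNO.P1042
import Cfsg.Agent.Lib.TC.D.HNO.P1043
import Cfsg.Agent.Lib.TC.D.HNO.P1044
import Cfsg.Agent.Lib.TC.D.HNO.P1045
import Cfsg.Agent.Lib.TC.D.HNO.P1046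
import Cfsg.Agent.Lib.TC.D.HNO.P1047
import Cfsg.Agent.Lib.TC.D.HNO.P1048
import Cfsg.Agent.Lib.TC.D.HNO.P1049
import Cfsg.Agent.Lib.TC.D.HNO.P1050
import Cfsg.Agent.Lib.TC.D.HNO.P1051
import Cfsg.Agent.Lib.TC.D.HNO.P1052
import Cfsg.Agent.Lib.TC.D.HNO.P1053
import Cfsg.Agent.Lib.TC.D.HNO.P1054
import Cfsg.Agent.Lib.TC.D.HNO.P1055
import Cfsg.Agent.Lib.TC.D.HNO.P1056
import Cfsg.Agent.Lib.TC.D.HNO.P1057
import Cfsg.Agent.Lib.TC.D.HNO.P1058
import Cfsg.Agent.Lib.TC.D.HNO.P1059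
import Cfsg.Agent.Lib.TC.D.HNO.P1060
import Cfsg.Agent.Lib.TC.D.HNO.P1061
import Cfsg.Agent.Lib.TC.D.HNO.P1062
import Cfsg.Agent.Lib.TC.D.HNO.P1063
import Cfsg.Agent.Lib.TC.D.HNO.P1064
import Cfsg.Agent.Lib.TC.D.HNO.P1065
import Cfsg.Agent.Lib.TC.D.HNO.P1066
import Cfsg.Agent.Lib.TC.D.HNO.P1067
import Cfsg.Agent.Lib.TC.D.HNO.P1068
import Cfsg.Agent.Lib.TC.D.HNO.P1069
import Cfsg.Agent.Lib.TC.D.HNO.P1070
import Cfsg.Agent.Lib.TC.D.HNO.P1071
import Cfsg.Agent.Lib.TC.D.HNO.P1072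
import Cfsg.Agent.Lib.TC.D.HNO.P1073
import Cfsg.Agent.Lib.TC.D.HNO.P1074
import Cfsg.Agent.Lib.TC.D.HNO.P1075
import Cfsg.Agent.Lib.TC.D.HNO.P1076
import Cfsg.Agent.Lib.TC.D.HNO.P1077
import Cfsg.Agent.Lib.TC.D.HNO.P1078
import Cfsg.Agent.Lib.TC.D.HNO.P1079
import Cfsg.Agent.Lib.TC.D.HNO.P1080
import Cfsg.Agent.Lib.TC.D.HNO.P1081
import Cfsg.Agent.Lib.TC.D.HNO.P1082
import Cfsg.Agent.Lib.TC.D.HNO.P1083
import Cfsg.Agent.Lib.TC.D.HNO.P1084
import Cfsg.Agent.Lib.TC.D.HNO.P1085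
import Cfsg.Agent.Lib.TC.D.HNO.P1086
import Cfsg.Agent.Lib.TC.D.HNO.P1087
import Cfsg.Agent.Lib.TC.D.HNO.P1088
import Cfsg.Agent.Lib.TC.D.HNO.P1089
import Cfsg.Agent.Lib.TC.D.HNO.P1090
import Cfsg.Agent.Lib.TC.D.HNO.P1091
import Cfsg.Agent.Lib.TC.D.HNO.P1092
import Cfsg.Agent.Lib.TC.D.HNO.P1093
import Cfsg.Agent.Lib.TC.D.HNO.P1094
import Cfsg.Agent.Lib.TC.D.HNO.P1095
import Cfsg.Agent.Lib.TC.D.HNO.P1096
import Cfsg.Agent.Lib.TC.D.HNO.P1097
import Cfsg.Agent.Lib.TC.D.HNO.P1098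
import Cfsg.Agent.Lib.TC.D.HNO.P1099
import Cfsg.Agent.Lib.TC.D.HNO.P1100
import Cfsg.Agent.Lib.TC.D.HNO.P1101
import Cfsg.Agent.Lib.TC.D.HNO.P1102
import Cfsg.Agent.Lib.TC.D.HNO.P1103
import Cfsg.Agent.Lib.TC.D.HNO.P1104
import Cfsg.Agent.Lib.TC.D.HNO.P1105
import Cfsg.Agent.Lib.TC.D.HNO.P1106
import Cfsg.Agent.Lib.TC.D.HNO.P1107
import Cfsg.Agent.Lib.TC.D.HNO.P1108
import Cfsg.Agent.Lib.TC.D.HNO.P1109
import Cfsg.Agent.Lib.TC.D.HNO.P1110
import Cfsg.Agent.Lib.TC.D.HNO.P1111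
import Cfsg.Agent.Lib.TC.D.HNO.P1112
import Cfsg.Agent.Lib.TC.D.HNO.P1113
import Cfsg.Agent.Lib.TC.D.HNO.P1114
import Cfsg.Agent.Lib.TC.D.HNO.P1115
import Cfsg.Agent.Lib.TC.D.HNO.P1116
import Cfsg.Agent.Lib.TC.D.HNO.P1117
import Cfsg.Agent.Lib.TC.D.HNO.P1118
import Cfsg.Agent.Lib.TC.D.HNO.P1119
import Cfsg.Agent.Lib.TC.D.HNO.P1120
import Cfsg.Agent.Lib.TC.D.HNO.P1121
import Cfsg.Agent.Lib.TC.D.HNO.P1122
import Cfsg.Agent.Lib.TC.D.HNO.P1123
import Cfsg.Agent.Lib.TC.D.HNO.P1124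
import Cfsg.Agent.Lib.TC.D.HNO.P1125
import Cfsg.Agent.Lib.TC.D.HNO.P1126
import Cfsg.Agent.Lib.TC.D.HNO.P1127
import Cfsg.Agent.Lib.TC.D.HNO.P1128
import Cfsg.Agent.Lib.TC.D.HNO.P1129
import Cfsg.Agent.Lib.TC.D.HNO.P1130
import Cfsg.Agent.Lib.TC.D.HNO.P1131
import Cfsg.Agent.Lib.TC.D.HNO.P1132
import Cfsg.Agent.Lib.TC.D.HNO.P1133
import Cfsg.Agent.Lib.TC.D.HNO.P1134
import Cfsg.Agent.Lib.TC.D.HNO.P1135
import Cfsg.Agent.Lib.TC.D.HNO.P1136
import Cfsg.Agent.Lib.TC.D.HNO.P1137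
import Cfsg.Agent.Lib.TC.D.HNO.P1138
import Cfsg.Agent.Lib.TC.D.HNO.P1139
import Cfsg.Agent.Lib.TC.D.HNO.P1140
import Cfsg.Agent.Lib.TC.D.HNO.P1141
import Cfsg.Agent.Lib.TC.D.HNO.P1142
import Cfsg.Agent.Lib.TC.D.HNO.P1143
import Cfsg.Agent.Lib.TC.D.HNO.P1144
import Cfsg.Agent.Lib.TC.D.HNO.P1145
import Cfsg.Agent.Lib.TC.D.HNO.P1146
import Cfsg.Agent.Lib.TC.D.HNO.P1147
import Cfsg.Agent.Lib.TC.D.HNO.P1148
import Cfsg.Agent.Lib.TC.D.HNO.P1149
import Cfsg.Agent.Lib.TC.D.HNO.P1150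
import Cfsg.Agent.Lib.TC.D.HNO.P1151
import Cfsg.Agent.Lib.TC.D.HNO.P1152
import Cfsg.Agent.Lib.TC.D.HNO.P1153
import Cfsg.Agent.Lib.TC.D.HNO.P1154
import Cfsg.Agent.Lib.TC.D.HNO.P1155
import Cfsg.Agent.Lib.TC.D.HNO.P1156
import Cfsg.Agent.Lib.TC.D.HNO.P1157
import Cfsg.Agent.Lib.TC.D.HNO.P1158
import Cfsg.Agent.Lib.TC.D.HNO.P1159
import Cfsg.Agent.Lib.TC.D.HNO.P1160
import Cfsg.Agent.Lib.TC.D.HNO.P1161
import Cfsg.Agent.Lib.TC.D.HNO.P1162
import Cfsg.Agent.Lib.TC.D.HNO.P1163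
import Cfsg.Agent.Lib.TC.D.HNO.P1164
import Cfsg.Agent.Lib.TC.D.HNO.P1165
import Cfsg.Agent.Lib.TC.D.HNO.P1166
import Cfsg.Agent.Lib.TC.D.HNO.P1167
import Cfsg.Agent.Lib.TC.D.HNO.P1168
import Cfsg.Agent.Lib.TC.D.HNO.P1169
import Cfsg.Agent.Lib.TC.D.HNO.P1170
import Cfsg.Agent.Lib.TC.D.HNO.P1171
import Cfsg.Agent.Lib.TC.D.HNO.P1172
import Cfsg.Agent.Lib.TC.D.HNO.P1173
import Cfsg.Agent.Lib.TC.D.HNO.P1174
import Cfsg.Agent.Lib.TC.D.HNO.P1175
import Cfsg.Agent.Lib.TC.D.HNO.P1176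
import Cfsg.Agent.Lib.TC.D.HNO.P1177
import Cfsg.Agent.Lib.TC.D.HNO.P1178
import Cfsg.Agent.Lib.TC.D.HNO.P1179
import Cfsg.Agent.Lib.TC.D.HNO.P1180
import Cfsg.Agent.Lib.TC.D.HNO.P1181
import Cfsg.Agent.Lib.TC.D.HNO.P1182
import Cfsg.Agent.Lib.TC.D.HNO.P1183
import Cfsg.Agent.Lib.TC.D.HNO.P1184
import Cfsg.Agent.Lib.TC.D.HNO.P1185
import Cfsg.Agent.Lib.TC.D.HNO.P1186
import Cfsg.Agent.Lib.TC.D.HNO.P1187
import Cfsg.Agent.Lib.TC.D.HNO.P1188
import Cfsg.Agent.Lib.TC.D.HNO.P1189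
import Cfsg.Agent.Lib.TC.D.HNO.P1190
import Cfsg.Agent.Lib.TC.D.HNO.P1191
import Cfsg.Agent.Lib.TC.D.HNO.P1192
import Cfsg.Agent.Lib.TC.D.HNO.P1193
import Cfsg.Agent.Lib.TC.D.HNO.P1194
import Cfsg.Agent.Lib.TC.D.HNO.P1195
import Cfsg.Agent.Lib.TC.D.HNO.P1196
import Cfsg.Agent.Lib.TC.D.HNO.P1197
import Cfsg.Agent.Lib.TC.D.HNO.P1198
import Cfsg.Agent.Lib.TC.D.HNO.P1199
import Cfsg.Agent.Lib.TC.D.HNO.P1200
import Cfsg.Agent.Lib.TC.D.HNO.P1201
import Cfsg.Agent.Lib.TC.D.HNO.P1202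
import Cfsg.Agent.Lib.TC.D.HNO.P1203
import Cfsg.Agent.Lib.TC.D.HNO.P1204
import Cfsg.Agent.Lib.TC.D.HNO.P1205
import Cfsg.Agent.Lib.TC.D.HNO.P1206
import Cfsg.Agent.Lib.TC.D.HNO.P1207
import Cfsg.Agent.Lib.TC.D.HNO.P1208
import Cfsg.Agent.Lib.TC.D.HNO.P1209
import Cfsg.Agent.Lib.TC.D.HNO.P1210
import Cfsg.Agent.Lib.TC.D.HNO.P1211
import Cfsg.Agent.Lib.TC.D.HNO.P1212
import Cfsg.Agent.Lib.TC.D.HNO.P1213
import Cfsg.Agent.Lib.TC.D.HNO.P1214
import Cfsg.Agent.Lib.TC.D.HNO.P1215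
import Cfsg.Agent.Lib.TC.D.HNO.P1216
import Cfsg.Agent.Lib.TC.D.HNO.P1217
import Cfsg.Agent.Lib.TC.D.HNO.P1218
import Cfsg.Agent.Lib.TC.D.HNO.P1219
import Cfsg.Agent.Lib.TC.D.HNO.P1220
import Cfsg.Agent.Lib.TC.D.HNO.P1221
import Cfsg.Agent.Lib.TC.D.HNO.P1222
import Cfsg.Agent.Lib.TC.D.HNO.P1223
import Cfsg.Agent.Lib.TC.D.HNO.P1224
import Cfsg.Agent.Lib.TC.D.HNO.P1225
import Cfsg.Agent.Lib.TC.D.HNO.P1226
import Cfsg.Agent.Lib.TC.D.HNO.P1227
import Cfsg.Agent.Lib.TC.D.HNO.P1228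
import Cfsg.Agent.Lib.TC.D.HNO.P1229
import Cfsg.Agent.Lib.TC.D.HNO.P1230
import Cfsg.Agent.Lib.TC.D.HNO.P1231
import Cfsg.Agent.Lib.TC.D.HNO.P1232
import Cfsg.Agent.Lib.TC.D.HNO.P1233
import Cfsg.Agent.Lib.TC.D.HNO.P1234
import Cfsg.Agent.Lib.TC.D.HNO.P1235
import Cfsg.Agent.Lib.TC.D.HNO.P1236
import Cfsg.Agent.Lib.TC.D.HNO.P1237
import Cfsg.Agent.Lib.TC.D.HNO.P1238
import Cfsg.Agent.Lib.TC.D.HNO.P1239
import Cfsg.Agent.Lib.TC.D.HNO.P1240
import Cfsg.Agent.Lib.TC.D.HNO.P1241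
import Cfsg.Agent.Lib.TC.D.HNO.P1242
import Cfsg.Agent.Lib.TC.D.HNO.P1243
import Cfsg.Agent.Lib.TC.D.HNO.P1244
import Cfsg.Agent.Lib.TC.D.HNO.P1245
import Cfsg.Agent.Lib.TC.D.HNO.P1246
import Cfsg.Agent.Lib.TC.D.HNO.P1247
import Cfsg.Agent.Lib.TC.D.HNO.P1248
import Cfsg.Agent.Lib.TC.D.HNO.P1249
import Cfsg.Agent.Lib.TC.D.HNO.P1250

namespace Cfsg.Agent.Lib.TC.D.HNO.PtOk

open Cfsg.Agent.Lib.TC.Core Cfsg.Agent.Lib.TC.Enc Cfsg.Agent.Lib.TC.Pres Cfsg.Agent.Lib.TC.Perm Cfsg.Agent.Lib.TC.Main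

set_option maxRecDepth 100000

open Cfsg.Agent.Lib.TC.D.HNO.Tab Cfsg.Agent.Lib.TC.G.HN

theorem allP0 : pt.chkRange rels 0 1231 = true := Cfsg.Agent.Lib.TC.D.HNO.P0.ok
theorem allP1 : pt.chkRange rels 0 2462 = true := PT.chkRange_join (lo := 0) (a := 1231) (b := 1231) _ allP0 Cfsg.Agent.Lib.TC.D.HNO.P1.ok
theorem allP2 : pt.chkRange rels 0 3693 = true := PT.chkRange_join (lo := 0) (a := 2462) (b := 1231) _ allP1 Cfsg.Agent.Lib.TC.D.HNO.P2.ok
theorem allP3 : pt.chkRange rels 0 4924 = true := PT.chkRange_join (lo := 0) (a := 3693) (b := 1231) _ allP2 Cfsg.Agent.Lib.TC.D.HNO.P3.ok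
theorem allP4 : pt.chkRange rels 0 6155 = true := PT.chkRange_join (lo := 0) (a := 4924) (b := 1231) _ allP3 Cfsg.Agent.Lib.TC.D.HNO.P4.ok
theorem allP5 : pt.chkRange rels 0 7386 = true := PT.chkRange_join (lo := 0) (a := 6155) (b := 1231) _ allP4 Cfsg.Agent.Lib.TC.D.HNO.P5.ok
theorem allP6 : pt.chkRange rels 0 8617 = true := PT.chkRange_join (lo := 0) (a := 7386) (b := 1231) _ allP5 Cfsg.Agent.Lib.TC.D.HNO.P6.ok
theorem allP7 : pt.chkRange rels 0 9848 = true := PT.chkRange_join (lo := 0) (a := 8617) (b := 1231) _ allP6 Cfsg.Agent.Lib.TC.D.HNO.P7.ok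
theorem allP8 : pt.chkRange rels 0 11079 = true := PT.chkRange_join (lo := 0) (a := 9848) (b := 1231) _ allP7 Cfsg.Agent.Lib.TC.D.HNO.P8.ok
theorem allP9 : pt.chkRange rels 0 12310 = true := PT.chkRange_join (lo := 0) (a := 11079) (b := 1231) _ allP8 Cfsg.Agent.Lib.TC.D.HNO.P9.ok
theorem allP10 : pt.chkRange rels 0 13541 = true := PT.chkRange_join (lo := 0) (a := 12310) (b := 1231) _ allP9 Cfsg.Agent.Lib.TC.D.HNO.P10.ok
theorem allP11 : pt.chkRange rels 0 14772 = true := PT.chkRange_join (lo := 0) (a := 13541) (b := 1231) _ allP10 Cfsg.Agent.Lib.TC.D.HNO.P11.ok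
theorem allP12 : pt.chkRange rels 0 16003 = true := PT.chkRange_join (lo := 0) (a := 14772) (b := 1231) _ allP11 Cfsg.Agent.Lib.TC.D.HNO.P12.ok
theorem allP13 : pt.chkRange rels 0 17234 = true := PT.chkRange_join (lo := 0) (a := 16003) (b := 1231) _ allP12 Cfsg.Agent.Lib.TC.D.HNO.P13.ok
theorem allP14 : pt.chkRange rels 0 18465 = true := PT.chkRange_join (lo := 0) (a := 17234) (b := 1231) _ allP13 Cfsg.Agent.Lib.TC.D.HNO.P14.ok
theorem allP15 : pt.chkRange rels 0 19696 = true := PT.chkRange_join (lo := 0) (a := 18465) (b := 1231) _ allP14 Cfsg.Agent.Lib.TC.D.HNO.P15.ok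
theorem allP16 : pt.chkRange rels 0 20927 = true := PT.chkRange_join (lo := 0) (a := 19696) (b := 1231) _ allP15 Cfsg.Agent.Lib.TC.D.HNO.P16.ok
theorem allP17 : pt.chkRange rels 0 22158 = true := PT.chkRange_join (lo := 0) (a := 20927) (b := 1231) _ allP16 Cfsg.Agent.Lib.TC.D.HNO.P17.ok
theorem allP18 : pt.chkRange rels 0 23389 = true := PT.chkRange_join (lo := 0) (a := 22158) (b := 1231) _ allP17 Cfsg.Agent.Lib.TC.D.HNO.P18.ok
theorem allP19 : pt.chkRange rels 0 24620 = true := PT.chkRange_join (lo := 0) (a := 23389) (b := 1231) _ allP18 Cfsg.Agent.Lib.TC.D.HNO.P19.ok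
theorem allP20 : pt.chkRange rels 0 25851 = true := PT.chkRange_join (lo := 0) (a := 24620) (b := 1231) _ allP19 Cfsg.Agent.Lib.TC.D.HNO.P20.ok
theorem allP21 : pt.chkRange rels 0 27082 = true := PT.chkRange_join (lo := 0) (a := 25851) (b := 1231) _ allP20 Cfsg.Agent.Lib.TC.D.HNO.P21.ok
theorem allP22 : pt.chkRange rels 0 28313 = true := PT.chkRange_join (lo := 0) (a := 27082) (b := 1231) _ allP21 Cfsg.Agent.Lib.TC.D.HNO.P22.ok
theorem allP23 : pt.chkRange rels 0 29544 = true := PT.chkRange_join (lo := 0) (a := 28313) (b := 1231) _ allP22 Cfsg.Agent.Lib.TC.D.HNO.P23.ok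
theorem allP24 : pt.chkRange rels 0 30775 = true := PT.chkRange_join (lo := 0) (a := 29544) (b := 1231) _ allP23 Cfsg.Agent.Lib.TC.D.HNO.P24.ok
theorem allP25 : pt.chkRange rels 0 32006 = true := PT.chkRange_join (lo := 0) (a := 30775) (b := 1231) _ allP24 Cfsg.Agent.Lib.TC.D.HNO.P25.ok
theorem allP26 : pt.chkRange rels 0 33237 = true := PT.chkRange_join (lo := 0) (a := 32006) (b := 1231) _ allP25 Cfsg.Agent.Lib.TC.D.HNO.P26.ok
theorem allP27 : pt.chkRange rels 0 34468 = true := PT.chkRange_join (lo := 0) (a := 33237) (b := 1231) _ allP26 Cfsg.Agent.Lib.TC.D.HNO.P27.ok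
theorem allP28 : pt.chkRange rels 0 35699 = true := PT.chkRange_join (lo := 0) (a := 34468) (b := 1231) _ allP27 Cfsg.Agent.Lib.TC.D.HNO.P28.ok
theorem allP29 : pt.chkRange rels 0 36930 = true := PT.chkRange_join (lo := 0) (a := 35699) (b := 1231) _ allP28 Cfsg.Agent.Lib.TC.D.HNO.P29.ok
theorem allP30 : pt.chkRange rels 0 38161 = true := PT.chkRange_join (lo := 0) (a := 36930) (b := 1231) _ allP29 Cfsg.Agent.Lib.TC.D.HNO.P30.ok
theorem allP31 : pt.chkRange rels 0 39392 = true := PT.chkRange_join (lo := 0) (a := 38161) (b := 1231) _ allP30 Cfsg.Agent.Lib.TC.D.HNO.P31.ok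
theorem allP32 : pt.chkRange rels 0 40623 = true := PT.chkRange_join (lo := 0) (a := 39392) (b := 1231) _ allP31 Cfsg.Agent.Lib.TC.D.HNO.P32.ok
theorem allP33 : pt.chkRange rels 0 41854 = true := PT.chkRange_join (lo := 0) (a := 40623) (b := 1231) _ allP32 Cfsg.Agent.Lib.TC.D.HNO.P33.ok
theorem allP34 : pt.chkRange rels 0 43085 = true := PT.chkRange_join (lo := 0) (a := 41854) (b := 1231) _ allP33 Cfsg.Agent.Lib.TC.D.HNO.P34.ok
theorem allP35 : pt.chkRange rels 0 44316 = true := PT.chkRange_join (lo := 0) (a := 43085) (b := 1231) _ allP34 Cfsg.Agent.Lib.TC.D.HNO.P35.ok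
theorem allP36 : pt.chkRange rels 0 45547 = true := PT.chkRange_join (lo := 0) (a := 44316) (b := 1231) _ allP35 Cfsg.Agent.Lib.TC.D.HNO.P36.ok
theorem allP37 : pt.chkRange rels 0 46778 = true := PT.chkRange_join (lo := 0) (a := 45547) (b := 1231) _ allP36 Cfsg.Agent.Lib.TC.D.HNO.P37.ok
theorem allP38 : pt.chkRange rels 0 48009 = true := PT.chkRange_join (lo := 0) (a := 46778) (b := 1231) _ allP37 Cfsg.Agent.Lib.TC.D.HNO.P38.ok
theorem allP39 : pt.chkRange rels 0 49240 = true := PT.chkRange_join (lo := 0) (a := 48009) (b := 1231) _ allP38 Cfsg.Agent.Lib.TC.D.HNO.P39.ok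
theorem allP40 : pt.chkRange rels 0 50471 = true := PT.chkRange_join (lo := 0) (a := 49240) (b := 1231) _ allP39 Cfsg.Agent.Lib.TC.D.HNO.P40.ok
theorem allP41 : pt.chkRange rels 0 51702 = true := PT.chkRange_join (lo := 0) (a := 50471) (b := 1231) _ allP40 Cfsg.Agent.Lib.TC.D.HNO.P41.ok
theorem allP42 : pt.chkRange rels 0 52933 = true := PT.chkRange_join (lo := 0) (a := 51702) (b := 1231) _ allP41 Cfsg.Agent.Lib.TC.D.HNO.P42.ok
theorem allP43 : pt.chkRange rels 0 54164 = true := PT.chkRange_join (lo := 0) (a := 52933) (b := 1231) _ allP42 Cfsg.Agent.Lib.TC.D.HNO.P43.ok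
theorem allP44 : pt.chkRange rels 0 55395 = true := PT.chkRange_join (lo := 0) (a := 54164) (b := 1231) _ allP43 Cfsg.Agent.Lib.TC.D.HNO.P44.ok
theorem allP45 : pt.chkRange rels 0 56626 = true := PT.chkRange_join (lo := 0) (a := 55395) (b := 1231) _ allP44 Cfsg.Agent.Lib.TC.D.HNO.P45.ok
theorem allP46 : pt.chkRange rels 0 57857 = true := PT.chkRange_join (lo := 0) (a := 56626) (b := 1231) _ allP45 Cfsg.Agent.Lib.TC.D.HNO.P46.ok
theorem allP47 : pt.chkRange rels 0 59088 = true := PT.chkRange_join (lo := 0) (a := 57857) (b := 1231) _ allP46 Cfsg.Agent.Lib.TC.D.HNO.P47.ok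
theorem allP48 : pt.chkRange rels 0 60319 = true := PT.chkRange_join (lo := 0) (a := 59088) (b := 1231) _ allP47 Cfsg.Agent.Lib.TC.D.HNO.P48.ok
theorem allP49 : pt.chkRange rels 0 61550 = true := PT.chkRange_join (lo := 0) (a := 60319) (b := 1231) _ allP48 Cfsg.Agent.Lib.TC.D.HNO.P49.ok
theorem allP50 : pt.chkRange rels 0 62781 = true := PT.chkRange_join (lo := 0) (a := 61550) (b := 1231) _ allP49 Cfsg.Agent.Lib.TC.D.HNO.P50.ok
theorem allP51 : pt.chkRange rels 0 64012 = true := PT.chkRange_join (lo := 0) (a := 62781) (b := 1231) _ allP50 Cfsg.Agent.Lib.TC.D.HNO.P51.ok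
theorem allP52 : pt.chkRange rels 0 65243 = true := PT.chkRange_join (lo := 0) (a := 64012) (b := 1231) _ allP51 Cfsg.Agent.Lib.TC.D.HNO.P52.ok
theorem allP53 : pt.chkRange rels 0 66474 = true := PT.chkRange_join (lo := 0) (a := 65243) (b := 1231) _ allP52 Cfsg.Agent.Lib.TC.D.HNO.P53.ok
theorem allP54 : pt.chkRange rels 0 67705 = true := PT.chkRange_join (lo := 0) (a := 66474) (b := 1231) _ allP53 Cfsg.Agent.Lib.TC.D.HNO.P54.ok
theorem allP55 : pt.chkRange rels 0 68936 = true := PT.chkRange_join (lo := 0) (a := 67705) (b := 1231) _ allP54 Cfsg.Agent.Lib.TC.D.HNO.P55.ok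
theorem allP56 : pt.chkRange rels 0 70167 = true := PT.chkRange_join (lo := 0) (a := 68936) (b := 1231) _ allP55 Cfsg.Agent.Lib.TC.D.HNO.P56.ok
theorem allP57 : pt.chkRange rels 0 71398 = true := PT.chkRange_join (lo := 0) (a := 70167) (b := 1231) _ allP56 Cfsg.Agent.Lib.TC.D.HNO.P57.ok
theorem allP58 : pt.chkRange rels 0 72629 = true := PT.chkRange_join (lo := 0) (a := 71398) (b := 1231) _ allP57 Cfsg.Agent.Lib.TC.D.HNO.P58.ok
theorem allP59 : pt.chkRange rels 0 73860 = true := PT.chkRange_join (lo := 0) (a := 72629) (b := 1231) _ allP58 Cfsg.Agent.Lib.TC.D.HNO.P59.ok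
theorem allP60 : pt.chkRange rels 0 75091 = true := PT.chkRange_join (lo := 0) (a := 73860) (b := 1231) _ allP59 Cfsg.Agent.Lib.TC.D.HNO.P60.ok
theorem allP61 : pt.chkRange rels 0 76322 = true := PT.chkRange_join (lo := 0) (a := 75091) (b := 1231) _ allP60 Cfsg.Agent.Lib.TC.D.HNO.P61.ok
theorem allP62 : pt.chkRange rels 0 77553 = true := PT.chkRange_join (lo := 0) (a := 76322) (b := 1231) _ allP61 Cfsg.Agent.Lib.TC.D.HNO.P62.ok
theorem allP63 : pt.chkRange rels 0 78784 = true := PT.chkRange_join (lo := 0) (a := 77553) (b := 1231) _ allP62 Cfsg.Agent.Lib.TC.D.HNO.P63.ok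
theorem allP64 : pt.chkRange rels 0 80015 = true := PT.chkRange_join (lo := 0) (a := 78784) (b := 1231) _ allP63 Cfsg.Agent.Lib.TC.D.HNO.P64.ok
theorem allP65 : pt.chkRange rels 0 81246 = true := PT.chkRange_join (lo := 0) (a := 80015) (b := 1231) _ allP64 Cfsg.Agent.Lib.TC.D.HNO.P65.ok
theorem allP66 : pt.chkRange rels 0 82477 = true := PT.chkRange_join (lo := 0) (a := 81246) (b := 1231) _ allP65 Cfsg.Agent.Lib.TC.D.HNO.P66.ok
theorem allP67 : pt.chkRange rels 0 83708 = true := PT.chkRange_join (lo := 0) (a := 82477) (b := 1231) _ allP66 Cfsg.Agent.Lib.TC.D.HNO.P67.ok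
theorem allP68 : pt.chkRange rels 0 84939 = true := PT.chkRange_join (lo := 0) (a := 83708) (b := 1231) _ allP67 Cfsg.Agent.Lib.TC.D.HNO.P68.ok
theorem allP69 : pt.chkRange rels 0 86170 = true := PT.chkRange_join (lo := 0) (a := 84939) (b := 1231) _ allP68 Cfsg.Agent.Lib.TC.D.HNO.P69.ok
theorem allP70 : pt.chkRange rels 0 87401 = true := PT.chkRange_join (lo := 0) (a := 86170) (b := 1231) _ allP69 Cfsg.Agent.Lib.TC.D.HNO.P70.ok
theorem allP71 : pt.chkRange rels 0 88632 = true := PT.chkRange_join (lo := 0) (a := 87401) (b := 1231) _ allP70 Cfsg.Agent.Lib.TC.D.HNO.P71.ok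
theorem allP72 : pt.chkRange rels 0 89863 = true := PT.chkRange_join (lo := 0) (a := 88632) (b := 1231) _ allP71 Cfsg.Agent.Lib.TC.D.HNO.P72.ok
theorem allP73 : pt.chkRange rels 0 91094 = true := PT.chkRange_join (lo := 0) (a := 89863) (b := 1231) _ allP72 Cfsg.Agent.Lib.TC.D.HNO.P73.ok
theorem allP74 : pt.chkRange rels 0 92325 = true := PT.chkRange_join (lo := 0) (a := 91094) (b := 1231) _ allP73 Cfsg.Agent.Lib.TC.D.HNO.P74.ok
theorem allP75 : pt.chkRange rels 0 93556 = true := PT.chkRange_join (lo := 0) (a := 92325) (b := 1231) _ allP74 Cfsg.Agent.Lib.TC.D.HNO.P75.ok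
theorem allP76 : pt.chkRange rels 0 94787 = true := PT.chkRange_join (lo := 0) (a := 93556) (b := 1231) _ allP75 Cfsg.Agent.Lib.TC.D.HNO.P76.ok
theorem allP77 : pt.chkRange rels 0 96018 = true := PT.chkRange_join (lo := 0) (a := 94787) (b := 1231) _ allP76 Cfsg.Agent.Lib.TC.D.HNO.P77.ok
theorem allP78 : pt.chkRange rels 0 97249 = true := PT.chkRange_join (lo := 0) (a := 96018) (b := 1231) _ allP77 Cfsg.Agent.Lib.TC.D.HNO.P78.ok
theorem allP79 : pt.chkRange rels 0 98480 = true := PT.chkRange_join (lo := 0) (a := 97249) (b := 1231) _ allP78 Cfsg.Agent.Lib.TC.D.HNO.P79.ok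
theorem allP80 : pt.chkRange rels 0 99711 = true := PT.chkRange_join (lo := 0) (a := 98480) (b := 1231) _ allP79 Cfsg.Agent.Lib.TC.D.HNO.P80.ok
theorem allP81 : pt.chkRange rels 0 100942 = true := PT.chkRange_join (lo := 0) (a := 99711) (b := 1231) _ allP80 Cfsg.Agent.Lib.TC.D.HNO.P81.ok
theorem allP82 : pt.chkRange rels 0 102173 = true := PT.chkRange_join (lo := 0) (a := 100942) (b := 1231) _ allP81 Cfsg.Agent.Lib.TC.D.HNO.P82.ok
theorem allP83 : pt.chkRange rels 0 103404 = true := PT.chkRange_join (lo := 0) (a := 102173) (b := 1231) _ allP82 Cfsg.Agent.Lib.TC.D.HNO.P83.ok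
theorem allP84 : pt.chkRange rels 0 104635 = true := PT.chkRange_join (lo := 0) (a := 103404) (b := 1231) _ allP83 Cfsg.Agent.Lib.TC.D.HNO.P84.ok
theorem allP85 : pt.chkRange rels 0 105866 = true := PT.chkRange_join (lo := 0) (a := 104635) (b := 1231) _ allP84 Cfsg.Agent.Lib.TC.D.HNO.P85.ok
theorem allP86 : pt.chkRange rels 0 107097 = true := PT.chkRange_join (lo := 0) (a := 105866) (b := 1231) _ allP85 Cfsg.Agent.Lib.TC.D.HNO.P86.ok
theorem allP87 : pt.chkRange rels 0 108328 = true := PT.chkRange_join (lo := 0) (a := 107097) (b := 1231) _ allP86 Cfsg.Agent.Lib.TC.D.HNO.P87.ok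
theorem allP88 : pt.chkRange rels 0 109559 = true := PT.chkRange_join (lo := 0) (a := 108328) (b := 1231) _ allP87 Cfsg.Agent.Lib.TC.D.HNO.P88.ok
theorem allP89 : pt.chkRange rels 0 110790 = true := PT.chkRange_join (lo := 0) (a := 109559) (b := 1231) _ allP88 Cfsg.Agent.Lib.TC.D.HNO.P89.ok
theorem allP90 : pt.chkRange rels 0 112021 = true := PT.chkRange_join (lo := 0) (a := 110790) (b := 1231) _ allP89 Cfsg.Agent.Lib.TC.D.HNO.P90.ok
theorem allP91 : pt.chkRange rels 0 113252 = true := PT.chkRange_join (lo := 0) (a := 112021) (b := 1231) _ allP90 Cfsg.Agent.Lib.TC.D.HNO.P91.ok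
theorem allP92 : pt.chkRange rels 0 114483 = true := PT.chkRange_join (lo := 0) (a := 113252) (b := 1231) _ allP91 Cfsg.Agent.Lib.TC.D.HNO.P92.ok
theorem allP93 : pt.chkRange rels 0 115714 = true := PT.chkRange_join (lo := 0) (a := 114483) (b := 1231) _ allP92 Cfsg.Agent.Lib.TC.D.HNO.P93.ok
theorem allP94 : pt.chkRange rels 0 116945 = true := PT.chkRange_join (lo := 0) (a := 115714) (b := 1231) _ allP93 Cfsg.Agent.Lib.TC.D.HNO.P94.ok
theorem allP95 : pt.chkRange rels 0 118176 = true := PT.chkRange_join (lo := 0) (a := 116945) (b := 1231) _ allP94 Cfsg.Agent.Lib.TC.D.HNO.P95.ok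
theorem allP96 : pt.chkRange rels 0 119407 = true := PT.chkRange_join (lo := 0) (a := 118176) (b := 1231) _ allP95 Cfsg.Agent.Lib.TC.D.HNO.P96.ok
theorem allP97 : pt.chkRange rels 0 120638 = true := PT.chkRange_join (lo := 0) (a := 119407) (b := 1231) _ allP96 Cfsg.Agent.Lib.TC.D.HNO.P97.ok
theorem allP98 : pt.chkRange rels 0 121869 = true := PT.chkRange_join (lo := 0) (a := 120638) (b := 1231) _ allP97 Cfsg.Agent.Lib.TC.D.HNO.P98.ok
theorem allP99 : pt.chkRange rels 0 123100 = true := PT.chkRange_join (lo := 0) (a := 121869) (b := 1231) _ allP98 Cfsg.Agent.Lib.TC.D.HNO.P99.ok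
theorem allP100 : pt.chkRange rels 0 124331 = true := PT.chkRange_join (lo := 0) (a := 123100) (b := 1231) _ allP99 Cfsg.Agent.Lib.TC.D.HNO.P100.ok
theorem allP101 : pt.chkRange rels 0 125562 = true := PT.chkRange_join (lo := 0) (a := 124331) (b := 1231) _ allP100 Cfsg.Agent.Lib.TC.D.HNO.P101.ok
theorem allP102 : pt.chkRange rels 0 126793 = true := PT.chkRange_join (lo := 0) (a := 125562) (b := 1231) _ allP101 Cfsg.Agent.Lib.TC.D.HNO.P102.ok
theorem allP103 : pt.chkRange rels 0 128024 = true := PT.chkRange_join (lo := 0) (a := 126793) (b := 1231) _ allP102 Cfsg.Agent.Lib.TC.D.HNO.P103.ok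
theorem allP104 : pt.chkRange rels 0 129255 = true := PT.chkRange_join (lo := 0) (a := 128024) (b := 1231) _ allP103 Cfsg.Agent.Lib.TC.D.HNO.P104.ok
theorem allP105 : pt.chkRange rels 0 130486 = true := PT.chkRange_join (lo := 0) (a := 129255) (b := 1231) _ allP104 Cfsg.Agent.Lib.TC.D.HNO.P105.ok
theorem allP106 : pt.chkRange rels 0 131717 = true := PT.chkRange_join (lo := 0) (a := 130486) (b := 1231) _ allP105 Cfsg.Agent.Lib.TC.D.HNO.P106.ok
theorem allP107 : pt.chkRange rels 0 132948 = true := PT.chkRange_join (lo := 0) (a := 131717) (b := 1231) _ allP106 Cfsg.Agent.Lib.TC.D.HNO.P107.ok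
theorem allP108 : pt.chkRange rels 0 134179 = true := PT.chkRange_join (lo := 0) (a := 132948) (b := 1231) _ allP107 Cfsg.Agent.Lib.TC.D.HNO.P108.ok
theorem allP109 : pt.chkRange rels 0 135410 = true := PT.chkRange_join (lo := 0) (a := 134179) (b := 1231) _ allP108 Cfsg.Agent.Lib.TC.D.HNO.P109.ok
theorem allP110 : pt.chkRange rels 0 136641 = true := PT.chkRange_join (lo := 0) (a := 135410) (b := 1231) _ allP109 Cfsg.Agent.Lib.TC.D.HNO.P110.ok
theorem allP111 : pt.chkRange rels 0 137872 = true := PT.chkRange_join (lo := 0) (a := 136641) (b := 1231) _ allP110 Cfsg.Agent.Lib.TC.D.HNO.P111.ok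
theorem allP112 : pt.chkRange rels 0 139103 = true := PT.chkRange_join (lo := 0) (a := 137872) (b := 1231) _ allP111 Cfsg.Agent.Lib.TC.D.HNO.P112.ok
theorem allP113 : pt.chkRange rels 0 140334 = true := PT.chkRange_join (lo := 0) (a := 139103) (b := 1231) _ allP112 Cfsg.Agent.Lib.TC.D.HNO.P113.ok
theorem allP114 : pt.chkRange rels 0 141565 = true := PT.chkRange_join (lo := 0) (a := 140334) (b := 1231) _ allP113 Cfsg.Agent.Lib.TC.D.HNO.P114.ok
theorem allP115 : pt.chkRange rels 0 142796 = true := PT.chkRange_join (lo := 0) (a := 141565) (b := 1231) _ allP114 Cfsg.Agent.Lib.TC.D.HNO.P115.ok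
theorem allP116 : pt.chkRange rels 0 144027 = true := PT.chkRange_join (lo := 0) (a := 142796) (b := 1231) _ allP115 Cfsg.Agent.Lib.TC.D.HNO.P116.ok
theorem allP117 : pt.chkRange rels 0 145258 = true := PT.chkRange_join (lo := 0) (a := 144027) (b := 1231) _ allP116 Cfsg.Agent.Lib.TC.D.HNO.P117.ok
theorem allP118 : pt.chkRange rels 0 146489 = true := PT.chkRange_join (lo := 0) (a := 145258) (b := 1231) _ allP117 Cfsg.Agent.Lib.TC.D.HNO.P118.ok
theorem allP119 : pt.chkRange rels 0 147720 = true := PT.chkRange_join (lo := 0) (a := 146489) (b := 1231) _ allP118 Cfsg.Agent.Lib.TC.D.HNO.P119.ok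
theorem allP120 : pt.chkRange rels 0 148951 = true := PT.chkRange_join (lo := 0) (a := 147720) (b := 1231) _ allP119 Cfsg.Agent.Lib.TC.D.HNO.P120.ok
theorem allP121 : pt.chkRange rels 0 150182 = true := PT.chkRange_join (lo := 0) (a := 148951) (b := 1231) _ allP120 Cfsg.Agent.Lib.TC.D.HNO.P121.ok
theorem allP122 : pt.chkRange rels 0 151413 = true := PT.chkRange_join (lo := 0) (a := 150182) (b := 1231) _ allP121 Cfsg.Agent.Lib.TC.D.HNO.P122.ok
theorem allP123 : pt.chkRange rels 0 152644 = true := PT.chkRange_join (lo := 0) (a := 151413) (b := 1231) _ allP122 Cfsg.Agent.Lib.TC.D.HNO.P123.ok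
theorem allP124 : pt.chkRange rels 0 153875 = true := PT.chkRange_join (lo := 0) (a := 152644) (b := 1231) _ allP123 Cfsg.Agent.Lib.TC.D.HNO.P124.ok
theorem allP125 : pt.chkRange rels 0 155106 = true := PT.chkRange_join (lo := 0) (a := 153875) (b := 1231) _ allP124 Cfsg.Agent.Lib.TC.D.HNO.P125.ok
theorem allP126 : pt.chkRange rels 0 156337 = true := PT.chkRange_join (lo := 0) (a := 155106) (b := 1231) _ allP125 Cfsg.Agent.Lib.TC.D.HNO.P126.ok
theorem allP127 : pt.chkRange rels 0 157568 = true := PT.chkRange_join (lo := 0) (a := 156337) (b := 1231) _ allP126 Cfsg.Agent.Lib.TC.D.HNO.P127.ok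
theorem allP128 : pt.chkRange rels 0 158799 = true := PT.chkRange_join (lo := 0) (a := 157568) (b := 1231) _ allP127 Cfsg.Agent.Lib.TC.D.HNO.P128.ok
theorem allP129 : pt.chkRange rels 0 160030 = true := PT.chkRange_join (lo := 0) (a := 158799) (b := 1231) _ allP128 Cfsg.Agent.Lib.TC.D.HNO.P129.ok
theorem allP130 : pt.chkRange rels 0 161261 = true := PT.chkRange_join (lo := 0) (a := 160030) (b := 1231) _ allP129 Cfsg.Agent.Lib.TC.D.HNO.P130.ok
theorem allP131 : pt.chkRange rels 0 162492 = true := PT.chkRange_join (lo := 0) (a := 161261) (b := 1231) _ allP130 Cfsg.Agent.Lib.TC.D.HNO.P131.ok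
theorem allP132 : pt.chkRange rels 0 163723 = true := PT.chkRange_join (lo := 0) (a := 162492) (b := 1231) _ allP131 Cfsg.Agent.Lib.TC.D.HNO.P132.ok
theorem allP133 : pt.chkRange rels 0 164954 = true := PT.chkRange_join (lo := 0) (a := 163723) (b := 1231) _ allP132 Cfsg.Agent.Lib.TC.D.HNO.P133.ok
theorem allP134 : pt.chkRange rels 0 166185 = true := PT.chkRange_join (lo := 0) (a := 164954) (b := 1231) _ allP133 Cfsg.Agent.Lib.TC.D.HNO.P134.ok
theorem allP135 : pt.chkRange rels 0 167416 = true := PT.chkRange_join (lo := 0) (a := 166185) (b := 1231) _ allP134 Cfsg.Agent.Lib.TC.D.HNO.P135.ok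
theorem allP136 : pt.chkRange rels 0 168647 = true := PT.chkRange_join (lo := 0) (a := 167416) (b := 1231) _ allP135 Cfsg.Agent.Lib.TC.D.HNO.P136.ok
theorem allP137 : pt.chkRange rels 0 169878 = true := PT.chkRange_join (lo := 0) (a := 168647) (b := 1231) _ allP136 Cfsg.Agent.Lib.TC.D.HNO.P137.ok
theorem allP138 : pt.chkRange rels 0 171109 = true := PT.chkRange_join (lo := 0) (a := 169878) (b := 1231) _ allP137 Cfsg.Agent.Lib.TC.D.HNO.P138.ok
theorem allP139 : pt.chkRange rels 0 172340 = true := PT.chkRange_join (lo := 0) (a := 171109) (b := 1231) _ allP138 Cfsg.Agent.Lib.TC.D.HNO.P139.ok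
theorem allP140 : pt.chkRange rels 0 173571 = true := PT.chkRange_join (lo := 0) (a := 172340) (b := 1231) _ allP139 Cfsg.Agent.Lib.TC.D.HNO.P140.ok
theorem allP141 : pt.chkRange rels 0 174802 = true := PT.chkRange_join (lo := 0) (a := 173571) (b := 1231) _ allP140 Cfsg.Agent.Lib.TC.D.HNO.P141.ok
theorem allP142 : pt.chkRange rels 0 176033 = true := PT.chkRange_join (lo := 0) (a := 174802) (b := 1231) _ allP141 Cfsg.Agent.Lib.TC.D.HNO.P142.ok
theorem allP143 : pt.chkRange rels 0 177264 = true := PT.chkRange_join (lo := 0) (a := 176033) (b := 1231) _ allP142 Cfsg.Agent.Lib.TC.D.HNO.P143.ok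
theorem allP144 : pt.chkRange rels 0 178495 = true := PT.chkRange_join (lo := 0) (a := 177264) (b := 1231) _ allP143 Cfsg.Agent.Lib.TC.D.HNO.P144.ok
theorem allP145 : pt.chkRange rels 0 179726 = true := PT.chkRange_join (lo := 0) (a := 178495) (b := 1231) _ allP144 Cfsg.Agent.Lib.TC.D.HNO.P145.ok
theorem allP146 : pt.chkRange rels 0 180957 = true := PT.chkRange_join (lo := 0) (a := 179726) (b := 1231) _ allP145 Cfsg.Agent.Lib.TC.D.HNO.P146.ok
theorem allP147 : pt.chkRange rels 0 182188 = true := PT.chkRange_join (lo := 0) (a := 180957) (b := 1231) _ allP146 Cfsg.Agent.Lib.TC.D.HNO.P147.ok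
theorem allP148 : pt.chkRange rels 0 183419 = true := PT.chkRange_join (lo := 0) (a := 182188) (b := 1231) _ allP147 Cfsg.Agent.Lib.TC.D.HNO.P148.ok
theorem allP149 : pt.chkRange rels 0 184650 = true := PT.chkRange_join (lo := 0) (a := 183419) (b := 1231) _ allP148 Cfsg.Agent.Lib.TC.D.HNO.P149.ok
theorem allP150 : pt.chkRange rels 0 185881 = true := PT.chkRange_join (lo := 0) (a := 184650) (b := 1231) _ allP149 Cfsg.Agent.Lib.TC.D.HNO.P150.ok
theorem allP151 : pt.chkRange rels 0 187112 = true := PT.chkRange_join (lo := 0) (a := 185881) (b := 1231) _ allP150 Cfsg.Agent.Lib.TC.D.HNO.P151.ok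
theorem allP152 : pt.chkRange rels 0 188343 = true := PT.chkRange_join (lo := 0) (a := 187112) (b := 1231) _ allP151 Cfsg.Agent.Lib.TC.D.HNO.P152.ok
theorem allP153 : pt.chkRange rels 0 189574 = true := PT.chkRange_join (lo := 0) (a := 188343) (b := 1231) _ allP152 Cfsg.Agent.Lib.TC.D.HNO.P153.ok
theorem allP154 : pt.chkRange rels 0 190805 = true := PT.chkRange_join (lo := 0) (a := 189574) (b := 1231) _ allP153 Cfsg.Agent.Lib.TC.D.HNO.P154.ok
theorem allP155 : pt.chkRange rels 0 192036 = true := PT.chkRange_join (lo := 0) (a := 190805) (b := 1231) _ allP154 Cfsg.Agent.Lib.TC.D.HNO.P155.ok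
theorem allP156 : pt.chkRange rels 0 193267 = true := PT.chkRange_join (lo := 0) (a := 192036) (b := 1231) _ allP155 Cfsg.Agent.Lib.TC.D.HNO.P156.ok
theorem allP157 : pt.chkRange rels 0 194498 = true := PT.chkRange_join (lo := 0) (a := 193267) (b := 1231) _ allP156 Cfsg.Agent.Lib.TC.D.HNO.P157.ok
theorem allP158 : pt.chkRange rels 0 195729 = true := PT.chkRange_join (lo := 0) (a := 194498) (b := 1231) _ allP157 Cfsg.Agent.Lib.TC.D.HNO.P158.ok
theorem allP159 : pt.chkRange rels 0 196960 = true := PT.chkRange_join (lo := 0) (a := 195729) (b := 1231) _ allP158 Cfsg.Agent.Lib.TC.D.HNO.P159.ok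
theorem allP160 : pt.chkRange rels 0 198191 = true := PT.chkRange_join (lo := 0) (a := 196960) (b := 1231) _ allP159 Cfsg.Agent.Lib.TC.D.HNO.P160.ok
theorem allP161 : pt.chkRange rels 0 199422 = true := PT.chkRange_join (lo := 0) (a := 198191) (b := 1231) _ allP160 Cfsg.Agent.Lib.TC.D.HNO.P161.ok
theorem allP162 : pt.chkRange rels 0 200653 = true := PT.chkRange_join (lo := 0) (a := 199422) (b := 1231) _ allP161 Cfsg.Agent.Lib.TC.D.HNO.P162.ok
theorem allP163 : pt.chkRange rels 0 201884 = true := PT.chkRange_join (lo := 0) (a := 200653) (b := 1231) _ allP162 Cfsg.Agent.Lib.TC.D.HNO.P163.ok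
theorem allP164 : pt.chkRange rels 0 203115 = true := PT.chkRange_join (lo := 0) (a := 201884) (b := 1231) _ allP163 Cfsg.Agent.Lib.TC.D.HNO.P164.ok
theorem allP165 : pt.chkRange rels 0 204346 = true := PT.chkRange_join (lo := 0) (a := 203115) (b := 1231) _ allP164 Cfsg.Agent.Lib.TC.D.HNO.P165.ok
theorem allP166 : pt.chkRange rels 0 205577 = true := PT.chkRange_join (lo := 0) (a := 204346) (b := 1231) _ allP165 Cfsg.Agent.Lib.TC.D.HNO.P166.ok
theorem allP167 : pt.chkRange rels 0 206808 = true := PT.chkRange_join (lo := 0) (a := 205577) (b := 1231) _ allP166 Cfsg.Agent.Lib.TC.D.HNO.P167.ok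
theorem allP168 : pt.chkRange rels 0 208039 = true := PT.chkRange_join (lo := 0) (a := 206808) (b := 1231) _ allP167 Cfsg.Agent.Lib.TC.D.HNO.P168.ok
theorem allP169 : pt.chkRange rels 0 209270 = true := PT.chkRange_join (lo := 0) (a := 208039) (b := 1231) _ allP168 Cfsg.Agent.Lib.TC.D.HNO.P169.ok
theorem allP170 : pt.chkRange rels 0 210501 = true := PT.chkRange_join (lo := 0) (a := 209270) (b := 1231) _ allP169 Cfsg.Agent.Lib.TC.D.HNO.P170.ok
theorem allP171 : pt.chkRange rels 0 211732 = true := PT.chkRange_join (lo := 0) (a := 210501) (b := 1231) _ allP170 Cfsg.Agent.Lib.TC.D.HNO.P171.ok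
theorem allP172 : pt.chkRange rels 0 212963 = true := PT.chkRange_join (lo := 0) (a := 211732) (b := 1231) _ allP171 Cfsg.Agent.Lib.TC.D.HNO.P172.ok
theorem allP173 : pt.chkRange rels 0 214194 = true := PT.chkRange_join (lo := 0) (a := 212963) (b := 1231) _ allP172 Cfsg.Agent.Lib.TC.D.HNO.P173.ok
theorem allP174 : pt.chkRange rels 0 215425 = true := PT.chkRange_join (lo := 0) (a := 214194) (b := 1231) _ allP173 Cfsg.Agent.Lib.TC.D.HNO.P174.ok
theorem allP175 : pt.chkRange rels 0 216656 = true := PT.chkRange_join (lo := 0) (a := 215425) (b := 1231) _ allP174 Cfsg.Agent.Lib.TC.D.HNO.P175.ok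
theorem allP176 : pt.chkRange rels 0 217887 = true := PT.chkRange_join (lo := 0) (a := 216656) (b := 1231) _ allP175 Cfsg.Agent.Lib.TC.D.HNO.P176.ok
theorem allP177 : pt.chkRange rels 0 219118 = true := PT.chkRange_join (lo := 0) (a := 217887) (b := 1231) _ allP176 Cfsg.Agent.Lib.TC.D.HNO.P177.ok
theorem allP178 : pt.chkRange rels 0 220349 = true := PT.chkRange_join (lo := 0) (a := 219118) (b := 1231) _ allP177 Cfsg.Agent.Lib.TC.D.HNO.P178.ok
theorem allP179 : pt.chkRange rels 0 221580 = true := PT.chkRange_join (lo := 0) (a := 220349) (b := 1231) _ allP178 Cfsg.Agent.Lib.TC.D.HNO.P179.ok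
theorem allP180 : pt.chkRange rels 0 222811 = true := PT.chkRange_join (lo := 0) (a := 221580) (b := 1231) _ allP179 Cfsg.Agent.Lib.TC.D.HNO.P180.ok
theorem allP181 : pt.chkRange rels 0 224042 = true := PT.chkRange_join (lo := 0) (a := 222811) (b := 1231) _ allP180 Cfsg.Agent.Lib.TC.D.HNO.P181.ok
theorem allP182 : pt.chkRange rels 0 225273 = true := PT.chkRange_join (lo := 0) (a := 224042) (b := 1231) _ allP181 Cfsg.Agent.Lib.TC.D.HNO.P182.ok
theorem allP183 : pt.chkRange rels 0 226504 = true := PT.chkRange_join (lo := 0) (a := 225273) (b := 1231) _ allP182 Cfsg.Agent.Lib.TC.D.HNO.P183.ok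
theorem allP184 : pt.chkRange rels 0 227735 = true := PT.chkRange_join (lo := 0) (a := 226504) (b := 1231) _ allP183 Cfsg.Agent.Lib.TC.D.HNO.P184.ok
theorem allP185 : pt.chkRange rels 0 228966 = true := PT.chkRange_join (lo := 0) (a := 227735) (b := 1231) _ allP184 Cfsg.Agent.Lib.TC.D.HNO.P185.ok
theorem allP186 : pt.chkRange rels 0 230197 = true := PT.chkRange_join (lo := 0) (a := 228966) (b := 1231) _ allP185 Cfsg.Agent.Lib.TC.D.HNO.P186.ok
theorem allP187 : pt.chkRange rels 0 231428 = true := PT.chkRange_join (lo := 0) (a := 230197) (b := 1231) _ allP186 Cfsg.Agent.Lib.TC.D.HNO.P187.ok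
theorem allP188 : pt.chkRange rels 0 232659 = true := PT.chkRange_join (lo := 0) (a := 231428) (b := 1231) _ allP187 Cfsg.Agent.Lib.TC.D.HNO.P188.ok
theorem allP189 : pt.chkRange rels 0 233890 = true := PT.chkRange_join (lo := 0) (a := 232659) (b := 1231) _ allP188 Cfsg.Agent.Lib.TC.D.HNO.P189.ok
theorem allP190 : pt.chkRange rels 0 235121 = true := PT.chkRange_join (lo := 0) (a := 233890) (b := 1231) _ allP189 Cfsg.Agent.Lib.TC.D.HNO.P190.ok
theorem allP191 : pt.chkRange rels 0 236352 = true := PT.chkRange_join (lo := 0) (a := 235121) (b := 1231) _ allP190 Cfsg.Agent.Lib.TC.D.HNO.P191.ok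
theorem allP192 : pt.chkRange rels 0 237583 = true := PT.chkRange_join (lo := 0) (a := 236352) (b := 1231) _ allP191 Cfsg.Agent.Lib.TC.D.HNO.P192.ok
theorem allP193 : pt.chkRange rels 0 238814 = true := PT.chkRange_join (lo := 0) (a := 237583) (b := 1231) _ allP192 Cfsg.Agent.Lib.TC.D.HNO.P193.ok
theorem allP194 : pt.chkRange rels 0 240045 = true := PT.chkRange_join (lo := 0) (a := 238814) (b := 1231) _ allP193 Cfsg.Agent.Lib.TC.D.HNO.P194.ok
theorem allP195 : pt.chkRange rels 0 241276 = true := PT.chkRange_join (lo := 0) (a := 240045) (b := 1231) _ allP194 Cfsg.Agent.Lib.TC.D.HNO.P195.ok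
theorem allP196 : pt.chkRange rels 0 242507 = true := PT.chkRange_join (lo := 0) (a := 241276) (b := 1231) _ allP195 Cfsg.Agent.Lib.TC.D.HNO.P196.ok
theorem allP197 : pt.chkRange rels 0 243738 = true := PT.chkRange_join (lo := 0) (a := 242507) (b := 1231) _ allP196 Cfsg.Agent.Lib.TC.D.HNO.P197.ok
theorem allP198 : pt.chkRange rels 0 244969 = true := PT.chkRange_join (lo := 0) (a := 243738) (b := 1231) _ allP197 Cfsg.Agent.Lib.TC.D.HNO.P198.ok
theorem allP199 : pt.chkRange rels 0 246200 = true := PT.chkRange_join (lo := 0) (a := 244969) (b := 1231) _ allP198 Cfsg.Agent.Lib.TC.D.HNO.P199.ok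
theorem allP200 : pt.chkRange rels 0 247431 = true := PT.chkRange_join (lo := 0) (a := 246200) (b := 1231) _ allP199 Cfsg.Agent.Lib.TC.D.HNO.P200.ok
theorem allP201 : pt.chkRange rels 0 248662 = true := PT.chkRange_join (lo := 0) (a := 247431) (b := 1231) _ allP200 Cfsg.Agent.Lib.TC.D.HNO.P201.ok
theorem allP202 : pt.chkRange rels 0 249893 = true := PT.chkRange_join (lo := 0) (a := 248662) (b := 1231) _ allP201 Cfsg.Agent.Lib.TC.D.HNO.P202.ok
theorem allP203 : pt.chkRange rels 0 251124 = true := PT.chkRange_join (lo := 0) (a := 249893) (b := 1231) _ allP202 Cfsg.Agent.Lib.TC.D.HNO.P203.ok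
theorem allP204 : pt.chkRange rels 0 252355 = true := PT.chkRange_join (lo := 0) (a := 251124) (b := 1231) _ allP203 Cfsg.Agent.Lib.TC.D.HNO.P204.ok
theorem allP205 : pt.chkRange rels 0 253586 = true := PT.chkRange_join (lo := 0) (a := 252355) (b := 1231) _ allP204 Cfsg.Agent.Lib.TC.D.HNO.P205.ok
theorem allP206 : pt.chkRange rels 0 254817 = true := PT.chkRange_join (lo := 0) (a := 253586) (b := 1231) _ allP205 Cfsg.Agent.Lib.TC.D.HNO.P206.ok
theorem allP207 : pt.chkRange rels 0 256048 = true := PT.chkRange_join (lo := 0) (a := 254817) (b := 1231) _ allP206 Cfsg.Agent.Lib.TC.D.HNO.P207.ok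
theorem allP208 : pt.chkRange rels 0 257279 = true := PT.chkRange_join (lo := 0) (a := 256048) (b := 1231) _ allP207 Cfsg.Agent.Lib.TC.D.HNO.P208.ok
theorem allP209 : pt.chkRange rels 0 258510 = true := PT.chkRange_join (lo := 0) (a := 257279) (b := 1231) _ allP208 Cfsg.Agent.Lib.TC.D.HNO.P209.ok
theorem allP210 : pt.chkRange rels 0 259741 = true := PT.chkRange_join (lo := 0) (a := 258510) (b := 1231) _ allP209 Cfsg.Agent.Lib.TC.D.HNO.P210.ok
theorem allP211 : pt.chkRange rels 0 260972 = true := PT.chkRange_join (lo := 0) (a := 259741) (b := 1231) _ allP210 Cfsg.Agent.Lib.TC.D.HNO.P211.ok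
theorem allP212 : pt.chkRange rels 0 262203 = true := PT.chkRange_join (lo := 0) (a := 260972) (b := 1231) _ allP211 Cfsg.Agent.Lib.TC.D.HNO.P212.ok
theorem allP213 : pt.chkRange rels 0 263434 = true := PT.chkRange_join (lo := 0) (a := 262203) (b := 1231) _ allP212 Cfsg.Agent.Lib.TC.D.HNO.P213.ok
theorem allP214 : pt.chkRange rels 0 264665 = true := PT.chkRange_join (lo := 0) (a := 263434) (b := 1231) _ allP213 Cfsg.Agent.Lib.TC.D.HNO.P214.ok
theorem allP215 : pt.chkRange rels 0 265896 = true := PT.chkRange_join (lo := 0) (a := 264665) (b := 1231) _ allP214 Cfsg.Agent.Lib.TC.D.HNO.P215.ok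
theorem allP216 : pt.chkRange rels 0 267127 = true := PT.chkRange_join (lo := 0) (a := 265896) (b := 1231) _ allP215 Cfsg.Agent.Lib.TC.D.HNO.P216.ok
theorem allP217 : pt.chkRange rels 0 268358 = true := PT.chkRange_join (lo := 0) (a := 267127) (b := 1231) _ allP216 Cfsg.Agent.Lib.TC.D.HNO.P217.ok
theorem allP218 : pt.chkRange rels 0 269589 = true := PT.chkRange_join (lo := 0) (a := 268358) (b := 1231) _ allP217 Cfsg.Agent.Lib.TC.D.HNO.P218.ok
theorem allP219 : pt.chkRange rels 0 270820 = true := PT.chkRange_join (lo := 0) (a := 269589) (b := 1231) _ allP218 Cfsg.Agent.Lib.TC.D.HNO.P219.ok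
theorem allP220 : pt.chkRange rels 0 272051 = true := PT.chkRange_join (lo := 0) (a := 270820) (b := 1231) _ allP219 Cfsg.Agent.Lib.TC.D.HNO.P220.ok
theorem allP221 : pt.chkRange rels 0 273282 = true := PT.chkRange_join (lo := 0) (a := 272051) (b := 1231) _ allP220 Cfsg.Agent.Lib.TC.D.HNO.P221.ok
theorem allP222 : pt.chkRange rels 0 274513 = true := PT.chkRange_join (lo := 0) (a := 273282) (b := 1231) _ allP221 Cfsg.Agent.Lib.TC.D.HNO.P222.ok
theorem allP223 : pt.chkRange rels 0 275744 = true := PT.chkRange_join (lo := 0) (a := 274513) (b := 1231) _ allP222 Cfsg.Agent.Lib.TC.D.HNO.P223.ok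
theorem allP224 : pt.chkRange rels 0 276975 = true := PT.chkRange_join (lo := 0) (a := 275744) (b := 1231) _ allP223 Cfsg.Agent.Lib.TC.D.HNO.P224.ok
theorem allP225 : pt.chkRange rels 0 278206 = true := PT.chkRange_join (lo := 0) (a := 276975) (b := 1231) _ allP224 Cfsg.Agent.Lib.TC.D.HNO.P225.ok
theorem allP226 : pt.chkRange rels 0 279437 = true := PT.chkRange_join (lo := 0) (a := 278206) (b := 1231) _ allP225 Cfsg.Agent.Lib.TC.D.HNO.P226.ok
theorem allP227 : pt.chkRange rels 0 280668 = true := PT.chkRange_join (lo := 0) (a := 279437) (b := 1231) _ allP226 Cfsg.Agent.Lib.TC.D.HNO.P227.ok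
theorem allP228 : pt.chkRange rels 0 281899 = true := PT.chkRange_join (lo := 0) (a := 280668) (b := 1231) _ allP227 Cfsg.Agent.Lib.TC.D.HNO.P228.ok
theorem allP229 : pt.chkRange rels 0 283130 = true := PT.chkRange_join (lo := 0) (a := 281899) (b := 1231) _ allP228 Cfsg.Agent.Lib.TC.D.HNO.P229.ok
theorem allP230 : pt.chkRange rels 0 284361 = true := PT.chkRange_join (lo := 0) (a := 283130) (b := 1231) _ allP229 Cfsg.Agent.Lib.TC.D.HNO.P230.ok
theorem allP231 : pt.chkRange rels 0 285592 = true := PT.chkRange_join (lo := 0) (a := 284361) (b := 1231) _ allP230 Cfsg.Agent.Lib.TC.D.HNO.P231.ok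
theorem allP232 : pt.chkRange rels 0 286823 = true := PT.chkRange_join (lo := 0) (a := 285592) (b := 1231) _ allP231 Cfsg.Agent.Lib.TC.D.HNO.P232.ok
theorem allP233 : pt.chkRange rels 0 288054 = true := PT.chkRange_join (lo := 0) (a := 286823) (b := 1231) _ allP232 Cfsg.Agent.Lib.TC.D.HNO.P233.ok
theorem allP234 : pt.chkRange rels 0 289285 = true := PT.chkRange_join (lo := 0) (a := 288054) (b := 1231) _ allP233 Cfsg.Agent.Lib.TC.D.HNO.P234.ok
theorem allP235 : pt.chkRange rels 0 290516 = true := PT.chkRange_join (lo := 0) (a := 289285) (b := 1231) _ allP234 Cfsg.Agent.Lib.TC.D.HNO.P235.ok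
theorem allP236 : pt.chkRange rels 0 291747 = true := PT.chkRange_join (lo := 0) (a := 290516) (b := 1231) _ allP235 Cfsg.Agent.Lib.TC.D.HNO.P236.ok
theorem allP237 : pt.chkRange rels 0 292978 = true := PT.chkRange_join (lo := 0) (a := 291747) (b := 1231) _ allP236 Cfsg.Agent.Lib.TC.D.HNO.P237.ok
theorem allP238 : pt.chkRange rels 0 294209 = true := PT.chkRange_join (lo := 0) (a := 292978) (b := 1231) _ allP237 Cfsg.Agent.Lib.TC.D.HNO.P238.ok
theorem allP239 : pt.chkRange rels 0 295440 = true := PT.chkRange_join (lo := 0) (a := 294209) (b := 1231) _ allP238 Cfsg.Agent.Lib.TC.D.HNO.P239.ok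
theorem allP240 : pt.chkRange rels 0 296671 = true := PT.chkRange_join (lo := 0) (a := 295440) (b := 1231) _ allP239 Cfsg.Agent.Lib.TC.D.HNO.P240.ok
theorem allP241 : pt.chkRange rels 0 297902 = true := PT.chkRange_join (lo := 0) (a := 296671) (b := 1231) _ allP240 Cfsg.Agent.Lib.TC.D.HNO.P241.ok
theorem allP242 : pt.chkRange rels 0 299133 = true := PT.chkRange_join (lo := 0) (a := 297902) (b := 1231) _ allP241 Cfsg.Agent.Lib.TC.D.HNO.P242.ok
theorem allP243 : pt.chkRange rels 0 300364 = true := PT.chkRange_join (lo := 0) (a := 299133) (b := 1231) _ allP242 Cfsg.Agent.Lib.TC.D.HNO.P243.ok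
theorem allP244 : pt.chkRange rels 0 301595 = true := PT.chkRange_join (lo := 0) (a := 300364) (b := 1231) _ allP243 Cfsg.Agent.Lib.TC.D.HNO.P244.ok
theorem allP245 : pt.chkRange rels 0 302826 = true := PT.chkRange_join (lo := 0) (a := 301595) (b := 1231) _ allP244 Cfsg.Agent.Lib.TC.D.HNO.P245.ok
theorem allP246 : pt.chkRange rels 0 304057 = true := PT.chkRange_join (lo := 0) (a := 302826) (b := 1231) _ allP245 Cfsg.Agent.Lib.TC.D.HNO.P246.ok
theorem allP247 : pt.chkRange rels 0 305288 = true := PT.chkRange_join (lo := 0) (a := 304057) (b := 1231) _ allP246 Cfsg.Agent.Lib.TC.D.HNO.P247.ok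
theorem allP248 : pt.chkRange rels 0 306519 = true := PT.chkRange_join (lo := 0) (a := 305288) (b := 1231) _ allP247 Cfsg.Agent.Lib.TC.D.HNO.P248.ok
theorem allP249 : pt.chkRange rels 0 307750 = true := PT.chkRange_join (lo := 0) (a := 306519) (b := 1231) _ allP248 Cfsg.Agent.Lib.TC.D.HNO.P249.ok
theorem allP250 : pt.chkRange rels 0 308981 = true := PT.chkRange_join (lo := 0) (a := 307750) (b := 1231) _ allP249 Cfsg.Agent.Lib.TC.D.HNO.P250.ok
theorem allP251 : pt.chkRange rels 0 310212 = true := PT.chkRange_join (lo := 0) (a := 308981) (b := 1231) _ allP250 Cfsg.Agent.Lib.TC.D.HNO.P251.ok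
theorem allP252 : pt.chkRange rels 0 311443 = true := PT.chkRange_join (lo := 0) (a := 310212) (b := 1231) _ allP251 Cfsg.Agent.Lib.TC.D.HNO.P252.ok
theorem allP253 : pt.chkRange rels 0 312674 = true := PT.chkRange_join (lo := 0) (a := 311443) (b := 1231) _ allP252 Cfsg.Agent.Lib.TC.D.HNO.P253.ok
theorem allP254 : pt.chkRange rels 0 313905 = true := PT.chkRange_join (lo := 0) (a := 312674) (b := 1231) _ allP253 Cfsg.Agent.Lib.TC.D.HNO.P254.ok
theorem allP255 : pt.chkRange rels 0 315136 = true := PT.chkRange_join (lo := 0) (a := 313905) (b := 1231) _ allP254 Cfsg.Agent.Lib.TC.D.HNO.P255.ok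
theorem allP256 : pt.chkRange rels 0 316367 = true := PT.chkRange_join (lo := 0) (a := 315136) (b := 1231) _ allP255 Cfsg.Agent.Lib.TC.D.HNO.P256.ok
theorem allP257 : pt.chkRange rels 0 317598 = true := PT.chkRange_join (lo := 0) (a := 316367) (b := 1231) _ allP256 Cfsg.Agent.Lib.TC.D.HNO.P257.ok
theorem allP258 : pt.chkRange rels 0 318829 = true := PT.chkRange_join (lo := 0) (a := 317598) (b := 1231) _ allP257 Cfsg.Agent.Lib.TC.D.HNO.P258.ok
theorem allP259 : pt.chkRange rels 0 320060 = true := PT.chkRange_join (lo := 0) (a := 318829) (b := 1231) _ allP258 Cfsg.Agent.Lib.TC.D.HNO.P259.ok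
theorem allP260 : pt.chkRange rels 0 321291 = true := PT.chkRange_join (lo := 0) (a := 320060) (b := 1231) _ allP259 Cfsg.Agent.Lib.TC.D.HNO.P260.ok
theorem allP261 : pt.chkRange rels 0 322522 = true := PT.chkRange_join (lo := 0) (a := 321291) (b := 1231) _ allP260 Cfsg.Agent.Lib.TC.D.HNO.P261.ok
theorem allP262 : pt.chkRange rels 0 323753 = true := PT.chkRange_join (lo := 0) (a := 322522) (b := 1231) _ allP261 Cfsg.Agent.Lib.TC.D.HNO.P262.ok
theorem allP263 : pt.chkRange rels 0 324984 = true := PT.chkRange_join (lo := 0) (a := 323753) (b := 1231) _ allP262 Cfsg.Agent.Lib.TC.D.HNO.P263.ok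
theorem allP264 : pt.chkRange rels 0 326215 = true := PT.chkRange_join (lo := 0) (a := 324984) (b := 1231) _ allP263 Cfsg.Agent.Lib.TC.D.HNO.P264.ok
theorem allP265 : pt.chkRange rels 0 327446 = true := PT.chkRange_join (lo := 0) (a := 326215) (b := 1231) _ allP264 Cfsg.Agent.Lib.TC.D.HNO.P265.ok
theorem allP266 : pt.chkRange rels 0 328677 = true := PT.chkRange_join (lo := 0) (a := 327446) (b := 1231) _ allP265 Cfsg.Agent.Lib.TC.D.HNO.P266.ok
theorem allP267 : pt.chkRange rels 0 329908 = true := PT.chkRange_join (lo := 0) (a := 328677) (b := 1231) _ allP266 Cfsg.Agent.Lib.TC.D.HNO.P267.ok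
theorem allP268 : pt.chkRange rels 0 331139 = true := PT.chkRange_join (lo := 0) (a := 329908) (b := 1231) _ allP267 Cfsg.Agent.Lib.TC.D.HNO.P268.ok
theorem allP269 : pt.chkRange rels 0 332370 = true := PT.chkRange_join (lo := 0) (a := 331139) (b := 1231) _ allP268 Cfsg.Agent.Lib.TC.D.HNO.P269.ok
theorem allP270 : pt.chkRange rels 0 333601 = true := PT.chkRange_join (lo := 0) (a := 332370) (b := 1231) _ allP269 Cfsg.Agent.Lib.TC.D.HNO.P270.ok
theorem allP271 : pt.chkRange rels 0 334832 = true := PT.chkRange_join (lo := 0) (a := 333601) (b := 1231) _ allP270 Cfsg.Agent.Lib.TC.D.HNO.P271.ok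
theorem allP272 : pt.chkRange rels 0 336063 = true := PT.chkRange_join (lo := 0) (a := 334832) (b := 1231) _ allP271 Cfsg.Agent.Lib.TC.D.HNO.P272.ok
theorem allP273 : pt.chkRange rels 0 337294 = true := PT.chkRange_join (lo := 0) (a := 336063) (b := 1231) _ allP272 Cfsg.Agent.Lib.TC.D.HNO.P273.ok
theorem allP274 : pt.chkRange rels 0 338525 = true := PT.chkRange_join (lo := 0) (a := 337294) (b := 1231) _ allP273 Cfsg.Agent.Lib.TC.D.HNO.P274.ok
theorem allP275 : pt.chkRange rels 0 339756 = true := PT.chkRange_join (lo := 0) (a := 338525) (b := 1231) _ allP274 Cfsg.Agent.Lib.TC.D.HNO.P275.ok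
theorem allP276 : pt.chkRange rels 0 340987 = true := PT.chkRange_join (lo := 0) (a := 339756) (b := 1231) _ allP275 Cfsg.Agent.Lib.TC.D.HNO.P276.ok
theorem allP277 : pt.chkRange rels 0 342218 = true := PT.chkRange_join (lo := 0) (a := 340987) (b := 1231) _ allP276 Cfsg.Agent.Lib.TC.D.HNO.P277.ok
theorem allP278 : pt.chkRange rels 0 343449 = true := PT.chkRange_join (lo := 0) (a := 342218) (b := 1231) _ allP277 Cfsg.Agent.Lib.TC.D.HNO.P278.ok
theorem allP279 : pt.chkRange rels 0 344680 = true := PT.chkRange_join (lo := 0) (a := 343449) (b := 1231) _ allP278 Cfsg.Agent.Lib.TC.D.HNO.P279.ok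
theorem allP280 : pt.chkRange rels 0 345911 = true := PT.chkRange_join (lo := 0) (a := 344680) (b := 1231) _ allP279 Cfsg.Agent.Lib.TC.D.HNO.P280.ok
theorem allP281 : pt.chkRange rels 0 347142 = true := PT.chkRange_join (lo := 0) (a := 345911) (b := 1231) _ allP280 Cfsg.Agent.Lib.TC.D.HNO.P281.ok
theorem allP282 : pt.chkRange rels 0 348373 = true := PT.chkRange_join (lo := 0) (a := 347142) (b := 1231) _ allP281 Cfsg.Agent.Lib.TC.D.HNO.P282.ok
theorem allP283 : pt.chkRange rels 0 349604 = true := PT.chkRange_join (lo := 0) (a := 348373) (b := 1231) _ allP282 Cfsg.Agent.Lib.TC.D.HNO.P283.ok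
theorem allP284 : pt.chkRange rels 0 350835 = true := PT.chkRange_join (lo := 0) (a := 349604) (b := 1231) _ allP283 Cfsg.Agent.Lib.TC.D.HNO.P284.ok
theorem allP285 : pt.chkRange rels 0 352066 = true := PT.chkRange_join (lo := 0) (a := 350835) (b := 1231) _ allP284 Cfsg.Agent.Lib.TC.D.HNO.P285.ok
theorem allP286 : pt.chkRange rels 0 353297 = true := PT.chkRange_join (lo := 0) (a := 352066) (b := 1231) _ allP285 Cfsg.Agent.Lib.TC.D.HNO.P286.ok
theorem allP287 : pt.chkRange rels 0 354528 = true := PT.chkRange_join (lo := 0) (a := 353297) (b := 1231) _ allP286 Cfsg.Agent.Lib.TC.D.HNO.P287.ok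
theorem allP288 : pt.chkRange rels 0 355759 = true := PT.chkRange_join (lo := 0) (a := 354528) (b := 1231) _ allP287 Cfsg.Agent.Lib.TC.D.HNO.P288.ok
theorem allP289 : pt.chkRange rels 0 356990 = true := PT.chkRange_join (lo := 0) (a := 355759) (b := 1231) _ allP288 Cfsg.Agent.Lib.TC.D.HNO.P289.ok
theorem allP290 : pt.chkRange rels 0 358221 = true := PT.chkRange_join (lo := 0) (a := 356990) (b := 1231) _ allP289 Cfsg.Agent.Lib.TC.D.HNO.P290.ok
theorem allP291 : pt.chkRange rels 0 359452 = true := PT.chkRange_join (lo := 0) (a := 358221) (b := 1231) _ allP290 Cfsg.Agent.Lib.TC.D.HNO.P291.ok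
theorem allP292 : pt.chkRange rels 0 360683 = true := PT.chkRange_join (lo := 0) (a := 359452) (b := 1231) _ allP291 Cfsg.Agent.Lib.TC.D.HNO.P292.ok
theorem allP293 : pt.chkRange rels 0 361914 = true := PT.chkRange_join (lo := 0) (a := 360683) (b := 1231) _ allP292 Cfsg.Agent.Lib.TC.D.HNO.P293.ok
theorem allP294 : pt.chkRange rels 0 363145 = true := PT.chkRange_join (lo := 0) (a := 361914) (b := 1231) _ allP293 Cfsg.Agent.Lib.TC.D.HNO.P294.ok
theorem allP295 : pt.chkRange rels 0 364376 = true := PT.chkRange_join (lo := 0) (a := 363145) (b := 1231) _ allP294 Cfsg.Agent.Lib.TC.D.HNO.P295.ok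
theorem allP296 : pt.chkRange rels 0 365607 = true := PT.chkRange_join (lo := 0) (a := 364376) (b := 1231) _ allP295 Cfsg.Agent.Lib.TC.D.HNO.P296.ok
theorem allP297 : pt.chkRange rels 0 366838 = true := PT.chkRange_join (lo := 0) (a := 365607) (b := 1231) _ allP296 Cfsg.Agent.Lib.TC.D.HNO.P297.ok
theorem allP298 : pt.chkRange rels 0 368069 = true := PT.chkRange_join (lo := 0) (a := 366838) (b := 1231) _ allP297 Cfsg.Agent.Lib.TC.D.HNO.P298.ok
theorem allP299 : pt.chkRange rels 0 369300 = true := PT.chkRange_join (lo := 0) (a := 368069) (b := 1231) _ allP298 Cfsg.Agent.Lib.TC.D.HNO.P299.ok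
theorem allP300 : pt.chkRange rels 0 370531 = true := PT.chkRange_join (lo := 0) (a := 369300) (b := 1231) _ allP299 Cfsg.Agent.Lib.TC.D.HNO.P300.ok
theorem allP301 : pt.chkRange rels 0 371762 = true := PT.chkRange_join (lo := 0) (a := 370531) (b := 1231) _ allP300 Cfsg.Agent.Lib.TC.D.HNO.P301.ok
theorem allP302 : pt.chkRange rels 0 372993 = true := PT.chkRange_join (lo := 0) (a := 371762) (b := 1231) _ allP301 Cfsg.Agent.Lib.TC.D.HNO.P302.ok
theorem allP303 : pt.chkRange rels 0 374224 = true := PT.chkRange_join (lo := 0) (a := 372993) (b := 1231) _ allP302 Cfsg.Agent.Lib.TC.D.HNO.P303.ok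
theorem allP304 : pt.chkRange rels 0 375455 = true := PT.chkRange_join (lo := 0) (a := 374224) (b := 1231) _ allP303 Cfsg.Agent.Lib.TC.D.HNO.P304.ok
theorem allP305 : pt.chkRange rels 0 376686 = true := PT.chkRange_join (lo := 0) (a := 375455) (b := 1231) _ allP304 Cfsg.Agent.Lib.TC.D.HNO.P305.ok
theorem allP306 : pt.chkRange rels 0 377917 = true := PT.chkRange_join (lo := 0) (a := 376686) (b := 1231) _ allP305 Cfsg.Agent.Lib.TC.D.HNO.P306.ok
theorem allP307 : pt.chkRange rels 0 379148 = true := PT.chkRange_join (lo := 0) (a := 377917) (b := 1231) _ allP306 Cfsg.Agent.Lib.TC.D.HNO.P307.ok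
theorem allP308 : pt.chkRange rels 0 380379 = true := PT.chkRange_join (lo := 0) (a := 379148) (b := 1231) _ allP307 Cfsg.Agent.Lib.TC.D.HNO.P308.ok
theorem allP309 : pt.chkRange rels 0 381610 = true := PT.chkRange_join (lo := 0) (a := 380379) (b := 1231) _ allP308 Cfsg.Agent.Lib.TC.D.HNO.P309.ok
theorem allP310 : pt.chkRange rels 0 382841 = true := PT.chkRange_join (lo := 0) (a := 381610) (b := 1231) _ allP309 Cfsg.Agent.Lib.TC.D.HNO.P310.ok
theorem allP311 : pt.chkRange rels 0 384072 = true := PT.chkRange_join (lo := 0) (a := 382841) (b := 1231) _ allP310 Cfsg.Agent.Lib.TC.D.HNO.P311.ok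
theorem allP312 : pt.chkRange rels 0 385303 = true := PT.chkRange_join (lo := 0) (a := 384072) (b := 1231) _ allP311 Cfsg.Agent.Lib.TC.D.HNO.P312.ok
theorem allP313 : pt.chkRange rels 0 386534 = true := PT.chkRange_join (lo := 0) (a := 385303) (b := 1231) _ allP312 Cfsg.Agent.Lib.TC.D.HNO.P313.ok
theorem allP314 : pt.chkRange rels 0 387765 = true := PT.chkRange_join (lo := 0) (a := 386534) (b := 1231) _ allP313 Cfsg.Agent.Lib.TC.D.HNO.P314.ok
theorem allP315 : pt.chkRange rels 0 388996 = true := PT.chkRange_join (lo := 0) (a := 387765) (b := 1231) _ allP314 Cfsg.Agent.Lib.TC.D.HNO.P315.ok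
theorem allP316 : pt.chkRange rels 0 390227 = true := PT.chkRange_join (lo := 0) (a := 388996) (b := 1231) _ allP315 Cfsg.Agent.Lib.TC.D.HNO.P316.ok
theorem allP317 : pt.chkRange rels 0 391458 = true := PT.chkRange_join (lo := 0) (a := 390227) (b := 1231) _ allP316 Cfsg.Agent.Lib.TC.D.HNO.P317.ok
theorem allP318 : pt.chkRange rels 0 392689 = true := PT.chkRange_join (lo := 0) (a := 391458) (b := 1231) _ allP317 Cfsg.Agent.Lib.TC.D.HNO.P318.ok
theorem allP319 : pt.chkRange rels 0 393920 = true := PT.chkRange_join (lo := 0) (a := 392689) (b := 1231) _ allP318 Cfsg.Agent.Lib.TC.D.HNO.P319.ok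
theorem allP320 : pt.chkRange rels 0 395151 = true := PT.chkRange_join (lo := 0) (a := 393920) (b := 1231) _ allP319 Cfsg.Agent.Lib.TC.D.HNO.P320.ok
theorem allP321 : pt.chkRange rels 0 396382 = true := PT.chkRange_join (lo := 0) (a := 395151) (b := 1231) _ allP320 Cfsg.Agent.Lib.TC.D.HNO.P321.ok
theorem allP322 : pt.chkRange rels 0 397613 = true := PT.chkRange_join (lo := 0) (a := 396382) (b := 1231) _ allP321 Cfsg.Agent.Lib.TC.D.HNO.P322.ok
theorem allP323 : pt.chkRange rels 0 398844 = true := PT.chkRange_join (lo := 0) (a := 397613) (b := 1231) _ allP322 Cfsg.Agent.Lib.TC.D.HNO.P323.ok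
theorem allP324 : pt.chkRange rels 0 400075 = true := PT.chkRange_join (lo := 0) (a := 398844) (b := 1231) _ allP323 Cfsg.Agent.Lib.TC.D.HNO.P324.ok
theorem allP325 : pt.chkRange rels 0 401306 = true := PT.chkRange_join (lo := 0) (a := 400075) (b := 1231) _ allP324 Cfsg.Agent.Lib.TC.D.HNO.P325.ok
theorem allP326 : pt.chkRange rels 0 402537 = true := PT.chkRange_join (lo := 0) (a := 401306) (b := 1231) _ allP325 Cfsg.Agent.Lib.TC.D.HNO.P326.ok
theorem allP327 : pt.chkRange rels 0 403768 = true := PT.chkRange_join (lo := 0) (a := 402537) (b := 1231) _ allP326 Cfsg.Agent.Lib.TC.D.HNO.P327.ok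
theorem allP328 : pt.chkRange rels 0 404999 = true := PT.chkRange_join (lo := 0) (a := 403768) (b := 1231) _ allP327 Cfsg.Agent.Lib.TC.D.HNO.P328.ok
theorem allP329 : pt.chkRange rels 0 406230 = true := PT.chkRange_join (lo := 0) (a := 404999) (b := 1231) _ allP328 Cfsg.Agent.Lib.TC.D.HNO.P329.ok
theorem allP330 : pt.chkRange rels 0 407461 = true := PT.chkRange_join (lo := 0) (a := 406230) (b := 1231) _ allP329 Cfsg.Agent.Lib.TC.D.HNO.P330.ok
theorem allP331 : pt.chkRange rels 0 408692 = true := PT.chkRange_join (lo := 0) (a := 407461) (b := 1231) _ allP330 Cfsg.Agent.Lib.TC.D.HNO.P331.ok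
theorem allP332 : pt.chkRange rels 0 409923 = true := PT.chkRange_join (lo := 0) (a := 408692) (b := 1231) _ allP331 Cfsg.Agent.Lib.TC.D.HNO.P332.ok
theorem allP333 : pt.chkRange rels 0 411154 = true := PT.chkRange_join (lo := 0) (a := 409923) (b := 1231) _ allP332 Cfsg.Agent.Lib.TC.D.HNO.P333.ok
theorem allP334 : pt.chkRange rels 0 412385 = true := PT.chkRange_join (lo := 0) (a := 411154) (b := 1231) _ allP333 Cfsg.Agent.Lib.TC.D.HNO.P334.ok
theorem allP335 : pt.chkRange rels 0 413616 = true := PT.chkRange_join (lo := 0) (a := 412385) (b := 1231) _ allP334 Cfsg.Agent.Lib.TC.D.HNO.P335.ok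
theorem allP336 : pt.chkRange rels 0 414847 = true := PT.chkRange_join (lo := 0) (a := 413616) (b := 1231) _ allP335 Cfsg.Agent.Lib.TC.D.HNO.P336.ok
theorem allP337 : pt.chkRange rels 0 416078 = true := PT.chkRange_join (lo := 0) (a := 414847) (b := 1231) _ allP336 Cfsg.Agent.Lib.TC.D.HNO.P337.ok
theorem allP338 : pt.chkRange rels 0 417309 = true := PT.chkRange_join (lo := 0) (a := 416078) (b := 1231) _ allP337 Cfsg.Agent.Lib.TC.D.HNO.P338.ok
theorem allP339 : pt.chkRange rels 0 418540 = true := PT.chkRange_join (lo := 0) (a := 417309) (b := 1231) _ allP338 Cfsg.Agent.Lib.TC.D.HNO.P339.ok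
theorem allP340 : pt.chkRange rels 0 419771 = true := PT.chkRange_join (lo := 0) (a := 418540) (b := 1231) _ allP339 Cfsg.Agent.Lib.TC.D.HNO.P340.ok
theorem allP341 : pt.chkRange rels 0 421002 = true := PT.chkRange_join (lo := 0) (a := 419771) (b := 1231) _ allP340 Cfsg.Agent.Lib.TC.D.HNO.P341.ok
theorem allP342 : pt.chkRange rels 0 422233 = true := PT.chkRange_join (lo := 0) (a := 421002) (b := 1231) _ allP341 Cfsg.Agent.Lib.TC.D.HNO.P342.ok
theorem allP343 : pt.chkRange rels 0 423464 = true := PT.chkRange_join (lo := 0) (a := 422233) (b := 1231) _ allP342 Cfsg.Agent.Lib.TC.D.HNO.P343.ok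
theorem allP344 : pt.chkRange rels 0 424695 = true := PT.chkRange_join (lo := 0) (a := 423464) (b := 1231) _ allP343 Cfsg.Agent.Lib.TC.D.HNO.P344.ok
theorem allP345 : pt.chkRange rels 0 425926 = true := PT.chkRange_join (lo := 0) (a := 424695) (b := 1231) _ allP344 Cfsg.Agent.Lib.TC.D.HNO.P345.ok
theorem allP346 : pt.chkRange rels 0 427157 = true := PT.chkRange_join (lo := 0) (a := 425926) (b := 1231) _ allP345 Cfsg.Agent.Lib.TC.D.HNO.P346.ok
theorem allP347 : pt.chkRange rels 0 428388 = true := PT.chkRange_join (lo := 0) (a := 427157) (b := 1231) _ allP346 Cfsg.Agent.Lib.TC.D.HNO.P347.ok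
theorem allP348 : pt.chkRange rels 0 429619 = true := PT.chkRange_join (lo := 0) (a := 428388) (b := 1231) _ allP347 Cfsg.Agent.Lib.TC.D.HNO.P348.ok
theorem allP349 : pt.chkRange rels 0 430850 = true := PT.chkRange_join (lo := 0) (a := 429619) (b := 1231) _ allP348 Cfsg.Agent.Lib.TC.D.HNO.P349.ok
theorem allP350 : pt.chkRange rels 0 432081 = true := PT.chkRange_join (lo := 0) (a := 430850) (b := 1231) _ allP349 Cfsg.Agent.Lib.TC.D.HNO.P350.ok
theorem allP351 : pt.chkRange rels 0 433312 = true := PT.chkRange_join (lo := 0) (a := 432081) (b := 1231) _ allP350 Cfsg.Agent.Lib.TC.D.HNO.P351.ok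
theorem allP352 : pt.chkRange rels 0 434543 = true := PT.chkRange_join (lo := 0) (a := 433312) (b := 1231) _ allP351 Cfsg.Agent.Lib.TC.D.HNO.P352.ok
theorem allP353 : pt.chkRange rels 0 435774 = true := PT.chkRange_join (lo := 0) (a := 434543) (b := 1231) _ allP352 Cfsg.Agent.Lib.TC.D.HNO.P353.ok
theorem allP354 : pt.chkRange rels 0 437005 = true := PT.chkRange_join (lo := 0) (a := 435774) (b := 1231) _ allP353 Cfsg.Agent.Lib.TC.D.HNO.P354.ok
theorem allP355 : pt.chkRange rels 0 438236 = true := PT.chkRange_join (lo := 0) (a := 437005) (b := 1231) _ allP354 Cfsg.Agent.Lib.TC.D.HNO.P355.ok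
theorem allP356 : pt.chkRange rels 0 439467 = true := PT.chkRange_join (lo := 0) (a := 438236) (b := 1231) _ allP355 Cfsg.Agent.Lib.TC.D.HNO.P356.ok
theorem allP357 : pt.chkRange rels 0 440698 = true := PT.chkRange_join (lo := 0) (a := 439467) (b := 1231) _ allP356 Cfsg.Agent.Lib.TC.D.HNO.P357.ok
theorem allP358 : pt.chkRange rels 0 441929 = true := PT.chkRange_join (lo := 0) (a := 440698) (b := 1231) _ allP357 Cfsg.Agent.Lib.TC.D.HNO.P358.ok
theorem allP359 : pt.chkRange rels 0 443160 = true := PT.chkRange_join (lo := 0) (a := 441929) (b := 1231) _ allP358 Cfsg.Agent.Lib.TC.D.HNO.P359.ok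
theorem allP360 : pt.chkRange rels 0 444391 = true := PT.chkRange_join (lo := 0) (a := 443160) (b := 1231) _ allP359 Cfsg.Agent.Lib.TC.D.HNO.P360.ok
theorem allP361 : pt.chkRange rels 0 445622 = true := PT.chkRange_join (lo := 0) (a := 444391) (b := 1231) _ allP360 Cfsg.Agent.Lib.TC.D.HNO.P361.ok
theorem allP362 : pt.chkRange rels 0 446853 = true := PT.chkRange_join (lo := 0) (a := 445622) (b := 1231) _ allP361 Cfsg.Agent.Lib.TC.D.HNO.P362.ok
theorem allP363 : pt.chkRange rels 0 448084 = true := PT.chkRange_join (lo := 0) (a := 446853) (b := 1231) _ allP362 Cfsg.Agent.Lib.TC.D.HNO.P363.ok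
theorem allP364 : pt.chkRange rels 0 449315 = true := PT.chkRange_join (lo := 0) (a := 448084) (b := 1231) _ allP363 Cfsg.Agent.Lib.TC.D.HNO.P364.ok
theorem allP365 : pt.chkRange rels 0 450546 = true := PT.chkRange_join (lo := 0) (a := 449315) (b := 1231) _ allP364 Cfsg.Agent.Lib.TC.D.HNO.P365.ok
theorem allP366 : pt.chkRange rels 0 451777 = true := PT.chkRange_join (lo := 0) (a := 450546) (b := 1231) _ allP365 Cfsg.Agent.Lib.TC.D.HNO.P366.ok
theorem allP367 : pt.chkRange rels 0 453008 = true := PT.chkRange_join (lo := 0) (a := 451777) (b := 1231) _ allP366 Cfsg.Agent.Lib.TC.D.HNO.P367.ok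
theorem allP368 : pt.chkRange rels 0 454239 = true := PT.chkRange_join (lo := 0) (a := 453008) (b := 1231) _ allP367 Cfsg.Agent.Lib.TC.D.HNO.P368.ok
theorem allP369 : pt.chkRange rels 0 455470 = true := PT.chkRange_join (lo := 0) (a := 454239) (b := 1231) _ allP368 Cfsg.Agent.Lib.TC.D.HNO.P369.ok
theorem allP370 : pt.chkRange rels 0 456701 = true := PT.chkRange_join (lo := 0) (a := 455470) (b := 1231) _ allP369 Cfsg.Agent.Lib.TC.D.HNO.P370.ok
theorem allP371 : pt.chkRange rels 0 457932 = true := PT.chkRange_join (lo := 0) (a := 456701) (b := 1231) _ allP370 Cfsg.Agent.Lib.TC.D.HNO.P371.ok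
theorem allP372 : pt.chkRange rels 0 459163 = true := PT.chkRange_join (lo := 0) (a := 457932) (b := 1231) _ allP371 Cfsg.Agent.Lib.TC.D.HNO.P372.ok
theorem allP373 : pt.chkRange rels 0 460394 = true := PT.chkRange_join (lo := 0) (a := 459163) (b := 1231) _ allP372 Cfsg.Agent.Lib.TC.D.HNO.P373.ok
theorem allP374 : pt.chkRange rels 0 461625 = true := PT.chkRange_join (lo := 0) (a := 460394) (b := 1231) _ allP373 Cfsg.Agent.Lib.TC.D.HNO.P374.ok
theorem allP375 : pt.chkRange rels 0 462856 = true := PT.chkRange_join (lo := 0) (a := 461625) (b := 1231) _ allP374 Cfsg.Agent.Lib.TC.D.HNO.P375.ok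
theorem allP376 : pt.chkRange rels 0 464087 = true := PT.chkRange_join (lo := 0) (a := 462856) (b := 1231) _ allP375 Cfsg.Agent.Lib.TC.D.HNO.P376.ok
theorem allP377 : pt.chkRange rels 0 465318 = true := PT.chkRange_join (lo := 0) (a := 464087) (b := 1231) _ allP376 Cfsg.Agent.Lib.TC.D.HNO.P377.ok
theorem allP378 : pt.chkRange rels 0 466549 = true := PT.chkRange_join (lo := 0) (a := 465318) (b := 1231) _ allP377 Cfsg.Agent.Lib.TC.D.HNO.P378.ok
theorem allP379 : pt.chkRange rels 0 467780 = true := PT.chkRange_join (lo := 0) (a := 466549) (b := 1231) _ allP378 Cfsg.Agent.Lib.TC.D.HNO.P379.ok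
theorem allP380 : pt.chkRange rels 0 469011 = true := PT.chkRange_join (lo := 0) (a := 467780) (b := 1231) _ allP379 Cfsg.Agent.Lib.TC.D.HNO.P380.ok
theorem allP381 : pt.chkRange rels 0 470242 = true := PT.chkRange_join (lo := 0) (a := 469011) (b := 1231) _ allP380 Cfsg.Agent.Lib.TC.D.HNO.P381.ok
theorem allP382 : pt.chkRange rels 0 471473 = true := PT.chkRange_join (lo := 0) (a := 470242) (b := 1231) _ allP381 Cfsg.Agent.Lib.TC.D.HNO.P382.ok
theorem allP383 : pt.chkRange rels 0 472704 = true := PT.chkRange_join (lo := 0) (a := 471473) (b := 1231) _ allP382 Cfsg.Agent.Lib.TC.D.HNO.P383.ok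
theorem allP384 : pt.chkRange rels 0 473935 = true := PT.chkRange_join (lo := 0) (a := 472704) (b := 1231) _ allP383 Cfsg.Agent.Lib.TC.D.HNO.P384.ok
theorem allP385 : pt.chkRange rels 0 475166 = true := PT.chkRange_join (lo := 0) (a := 473935) (b := 1231) _ allP384 Cfsg.Agent.Lib.TC.D.HNO.P385.ok
theorem allP386 : pt.chkRange rels 0 476397 = true := PT.chkRange_join (lo := 0) (a := 475166) (b := 1231) _ allP385 Cfsg.Agent.Lib.TC.D.HNO.P386.ok
theorem allP387 : pt.chkRange rels 0 477628 = true := PT.chkRange_join (lo := 0) (a := 476397) (b := 1231) _ allP386 Cfsg.Agent.Lib.TC.D.HNO.P387.ok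
theorem allP388 : pt.chkRange rels 0 478859 = true := PT.chkRange_join (lo := 0) (a := 477628) (b := 1231) _ allP387 Cfsg.Agent.Lib.TC.D.HNO.P388.ok
theorem allP389 : pt.chkRange rels 0 480090 = true := PT.chkRange_join (lo := 0) (a := 478859) (b := 1231) _ allP388 Cfsg.Agent.Lib.TC.D.HNO.P389.ok
theorem allP390 : pt.chkRange rels 0 481321 = true := PT.chkRange_join (lo := 0) (a := 480090) (b := 1231) _ allP389 Cfsg.Agent.Lib.TC.D.HNO.P390.ok
theorem allP391 : pt.chkRange rels 0 482552 = true := PT.chkRange_join (lo := 0) (a := 481321) (b := 1231) _ allP390 Cfsg.Agent.Lib.TC.D.HNO.P391.ok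
theorem allP392 : pt.chkRange rels 0 483783 = true := PT.chkRange_join (lo := 0) (a := 482552) (b := 1231) _ allP391 Cfsg.Agent.Lib.TC.D.HNO.P392.ok
theorem allP393 : pt.chkRange rels 0 485014 = true := PT.chkRange_join (lo := 0) (a := 483783) (b := 1231) _ allP392 Cfsg.Agent.Lib.TC.D.HNO.P393.ok
theorem allP394 : pt.chkRange rels 0 486245 = true := PT.chkRange_join (lo := 0) (a := 485014) (b := 1231) _ allP393 Cfsg.Agent.Lib.TC.D.HNO.P394.ok
theorem allP395 : pt.chkRange rels 0 487476 = true := PT.chkRange_join (lo := 0) (a := 486245) (b := 1231) _ allP394 Cfsg.Agent.Lib.TC.D.HNO.P395.ok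
theorem allP396 : pt.chkRange rels 0 488707 = true := PT.chkRange_join (lo := 0) (a := 487476) (b := 1231) _ allP395 Cfsg.Agent.Lib.TC.D.HNO.P396.ok
theorem allP397 : pt.chkRange rels 0 489938 = true := PT.chkRange_join (lo := 0) (a := 488707) (b := 1231) _ allP396 Cfsg.Agent.Lib.TC.D.HNO.P397.ok
theorem allP398 : pt.chkRange rels 0 491169 = true := PT.chkRange_join (lo := 0) (a := 489938) (b := 1231) _ allP397 Cfsg.Agent.Lib.TC.D.HNO.P398.ok
theorem allP399 : pt.chkRange rels 0 492400 = true := PT.chkRange_join (lo := 0) (a := 491169) (b := 1231) _ allP398 Cfsg.Agent.Lib.TC.D.HNO.P399.ok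
theorem allP400 : pt.chkRange rels 0 493631 = true := PT.chkRange_join (lo := 0) (a := 492400) (b := 1231) _ allP399 Cfsg.Agent.Lib.TC.D.HNO.P400.ok
theorem allP401 : pt.chkRange rels 0 494862 = true := PT.chkRange_join (lo := 0) (a := 493631) (b := 1231) _ allP400 Cfsg.Agent.Lib.TC.D.HNO.P401.ok
theorem allP402 : pt.chkRange rels 0 496093 = true := PT.chkRange_join (lo := 0) (a := 494862) (b := 1231) _ allP401 Cfsg.Agent.Lib.TC.D.HNO.P402.ok
theorem allP403 : pt.chkRange rels 0 497324 = true := PT.chkRange_join (lo := 0) (a := 496093) (b := 1231) _ allP402 Cfsg.Agent.Lib.TC.D.HNO.P403.ok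
theorem allP404 : pt.chkRange rels 0 498555 = true := PT.chkRange_join (lo := 0) (a := 497324) (b := 1231) _ allP403 Cfsg.Agent.Lib.TC.D.HNO.P404.ok
theorem allP405 : pt.chkRange rels 0 499786 = true := PT.chkRange_join (lo := 0) (a := 498555) (b := 1231) _ allP404 Cfsg.Agent.Lib.TC.D.HNO.P405.ok
theorem allP406 : pt.chkRange rels 0 501017 = true := PT.chkRange_join (lo := 0) (a := 499786) (b := 1231) _ allP405 Cfsg.Agent.Lib.TC.D.HNO.P406.ok
theorem allP407 : pt.chkRange rels 0 502248 = true := PT.chkRange_join (lo := 0) (a := 501017) (b := 1231) _ allP406 Cfsg.Agent.Lib.TC.D.HNO.P407.ok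
theorem allP408 : pt.chkRange rels 0 503479 = true := PT.chkRange_join (lo := 0) (a := 502248) (b := 1231) _ allP407 Cfsg.Agent.Lib.TC.D.HNO.P408.ok
theorem allP409 : pt.chkRange rels 0 504710 = true := PT.chkRange_join (lo := 0) (a := 503479) (b := 1231) _ allP408 Cfsg.Agent.Lib.TC.D.HNO.P409.ok
theorem allP410 : pt.chkRange rels 0 505941 = true := PT.chkRange_join (lo := 0) (a := 504710) (b := 1231) _ allP409 Cfsg.Agent.Lib.TC.D.HNO.P410.ok
theorem allP411 : pt.chkRange rels 0 507172 = true := PT.chkRange_join (lo := 0) (a := 505941) (b := 1231) _ allP410 Cfsg.Agent.Lib.TC.D.HNO.P411.ok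
theorem allP412 : pt.chkRange rels 0 508403 = true := PT.chkRange_join (lo := 0) (a := 507172) (b := 1231) _ allP411 Cfsg.Agent.Lib.TC.D.HNO.P412.ok
theorem allP413 : pt.chkRange rels 0 509634 = true := PT.chkRange_join (lo := 0) (a := 508403) (b := 1231) _ allP412 Cfsg.Agent.Lib.TC.D.HNO.P413.ok
theorem allP414 : pt.chkRange rels 0 510865 = true := PT.chkRange_join (lo := 0) (a := 509634) (b := 1231) _ allP413 Cfsg.Agent.Lib.TC.D.HNO.P414.ok
theorem allP415 : pt.chkRange rels 0 512096 = true := PT.chkRange_join (lo := 0) (a := 510865) (b := 1231) _ allP414 Cfsg.Agent.Lib.TC.D.HNO.P415.ok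
theorem allP416 : pt.chkRange rels 0 513327 = true := PT.chkRange_join (lo := 0) (a := 512096) (b := 1231) _ allP415 Cfsg.Agent.Lib.TC.D.HNO.P416.ok
theorem allP417 : pt.chkRange rels 0 514558 = true := PT.chkRange_join (lo := 0) (a := 513327) (b := 1231) _ allP416 Cfsg.Agent.Lib.TC.D.HNO.P417.ok
theorem allP418 : pt.chkRange rels 0 515789 = true := PT.chkRange_join (lo := 0) (a := 514558) (b := 1231) _ allP417 Cfsg.Agent.Lib.TC.D.HNO.P418.ok
theorem allP419 : pt.chkRange rels 0 517020 = true := PT.chkRange_join (lo := 0) (a := 515789) (b := 1231) _ allP418 Cfsg.Agent.Lib.TC.D.HNO.P419.ok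
theorem allP420 : pt.chkRange rels 0 518251 = true := PT.chkRange_join (lo := 0) (a := 517020) (b := 1231) _ allP419 Cfsg.Agent.Lib.TC.D.HNO.P420.ok
theorem allP421 : pt.chkRange rels 0 519482 = true := PT.chkRange_join (lo := 0) (a := 518251) (b := 1231) _ allP420 Cfsg.Agent.Lib.TC.D.HNO.P421.ok
theorem allP422 : pt.chkRange rels 0 520713 = true := PT.chkRange_join (lo := 0) (a := 519482) (b := 1231) _ allP421 Cfsg.Agent.Lib.TC.D.HNO.P422.ok
theorem allP423 : pt.chkRange rels 0 521944 = true := PT.chkRange_join (lo := 0) (a := 520713) (b := 1231) _ allP422 Cfsg.Agent.Lib.TC.D.HNO.P423.ok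
theorem allP424 : pt.chkRange rels 0 523175 = true := PT.chkRange_join (lo := 0) (a := 521944) (b := 1231) _ allP423 Cfsg.Agent.Lib.TC.D.HNO.P424.ok
theorem allP425 : pt.chkRange rels 0 524406 = true := PT.chkRange_join (lo := 0) (a := 523175) (b := 1231) _ allP424 Cfsg.Agent.Lib.TC.D.HNO.P425.ok
theorem allP426 : pt.chkRange rels 0 525637 = true := PT.chkRange_join (lo := 0) (a := 524406) (b := 1231) _ allP425 Cfsg.Agent.Lib.TC.D.HNO.P426.ok
theorem allP427 : pt.chkRange rels 0 526868 = true := PT.chkRange_join (lo := 0) (a := 525637) (b := 1231) _ allP426 Cfsg.Agent.Lib.TC.D.HNO.P427.ok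
theorem allP428 : pt.chkRange rels 0 528099 = true := PT.chkRange_join (lo := 0) (a := 526868) (b := 1231) _ allP427 Cfsg.Agent.Lib.TC.D.HNO.P428.ok
theorem allP429 : pt.chkRange rels 0 529330 = true := PT.chkRange_join (lo := 0) (a := 528099) (b := 1231) _ allP428 Cfsg.Agent.Lib.TC.D.HNO.P429.ok
theorem allP430 : pt.chkRange rels 0 530561 = true := PT.chkRange_join (lo := 0) (a := 529330) (b := 1231) _ allP429 Cfsg.Agent.Lib.TC.D.HNO.P430.ok
theorem allP431 : pt.chkRange rels 0 531792 = true := PT.chkRange_join (lo := 0) (a := 530561) (b := 1231) _ allP430 Cfsg.Agent.Lib.TC.D.HNO.P431.ok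
theorem allP432 : pt.chkRange rels 0 533023 = true := PT.chkRange_join (lo := 0) (a := 531792) (b := 1231) _ allP431 Cfsg.Agent.Lib.TC.D.HNO.P432.ok
theorem allP433 : pt.chkRange rels 0 534254 = true := PT.chkRange_join (lo := 0) (a := 533023) (b := 1231) _ allP432 Cfsg.Agent.Lib.TC.D.HNO.P433.ok
theorem allP434 : pt.chkRange rels 0 535485 = true := PT.chkRange_join (lo := 0) (a := 534254) (b := 1231) _ allP433 Cfsg.Agent.Lib.TC.D.HNO.P434.ok
theorem allP435 : pt.chkRange rels 0 536716 = true := PT.chkRange_join (lo := 0) (a := 535485) (b := 1231) _ allP434 Cfsg.Agent.Lib.TC.D.HNO.P435.ok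
theorem allP436 : pt.chkRange rels 0 537947 = true := PT.chkRange_join (lo := 0) (a := 536716) (b := 1231) _ allP435 Cfsg.Agent.Lib.TC.D.HNO.P436.ok
theorem allP437 : pt.chkRange rels 0 539178 = true := PT.chkRange_join (lo := 0) (a := 537947) (b := 1231) _ allP436 Cfsg.Agent.Lib.TC.D.HNO.P437.ok
theorem allP438 : pt.chkRange rels 0 540409 = true := PT.chkRange_join (lo := 0) (a := 539178) (b := 1231) _ allP437 Cfsg.Agent.Lib.TC.D.HNO.P438.ok
theorem allP439 : pt.chkRange rels 0 541640 = true := PT.chkRange_join (lo := 0) (a := 540409) (b := 1231) _ allP438 Cfsg.Agent.Lib.TC.D.HNO.P439.ok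
theorem allP440 : pt.chkRange rels 0 542871 = true := PT.chkRange_join (lo := 0) (a := 541640) (b := 1231) _ allP439 Cfsg.Agent.Lib.TC.D.HNO.P440.ok
theorem allP441 : pt.chkRange rels 0 544102 = true := PT.chkRange_join (lo := 0) (a := 542871) (b := 1231) _ allP440 Cfsg.Agent.Lib.TC.D.HNO.P441.ok
theorem allP442 : pt.chkRange rels 0 545333 = true := PT.chkRange_join (lo := 0) (a := 544102) (b := 1231) _ allP441 Cfsg.Agent.Lib.TC.D.HNO.P442.ok
theorem allP443 : pt.chkRange rels 0 546564 = true := PT.chkRange_join (lo := 0) (a := 545333) (b := 1231) _ allP442 Cfsg.Agent.Lib.TC.D.HNO.P443.ok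
theorem allP444 : pt.chkRange rels 0 547795 = true := PT.chkRange_join (lo := 0) (a := 546564) (b := 1231) _ allP443 Cfsg.Agent.Lib.TC.D.HNO.P444.ok
theorem allP445 : pt.chkRange rels 0 549026 = true := PT.chkRange_join (lo := 0) (a := 547795) (b := 1231) _ allP444 Cfsg.Agent.Lib.TC.D.HNO.P445.ok
theorem allP446 : pt.chkRange rels 0 550257 = true := PT.chkRange_join (lo := 0) (a := 549026) (b := 1231) _ allP445 Cfsg.Agent.Lib.TC.D.HNO.P446.ok
theorem allP447 : pt.chkRange rels 0 551488 = true := PT.chkRange_join (lo := 0) (a := 550257) (b := 1231) _ allP446 Cfsg.Agent.Lib.TC.D.HNO.P447.ok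
theorem allP448 : pt.chkRange rels 0 552719 = true := PT.chkRange_join (lo := 0) (a := 551488) (b := 1231) _ allP447 Cfsg.Agent.Lib.TC.D.HNO.P448.ok
theorem allP449 : pt.chkRange rels 0 553950 = true := PT.chkRange_join (lo := 0) (a := 552719) (b := 1231) _ allP448 Cfsg.Agent.Lib.TC.D.HNO.P449.ok
theorem allP450 : pt.chkRange rels 0 555181 = true := PT.chkRange_join (lo := 0) (a := 553950) (b := 1231) _ allP449 Cfsg.Agent.Lib.TC.D.HNO.P450.ok
theorem allP451 : pt.chkRange rels 0 556412 = true := PT.chkRange_join (lo := 0) (a := 555181) (b := 1231) _ allP450 Cfsg.Agent.Lib.TC.D.HNO.P451.ok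
theorem allP452 : pt.chkRange rels 0 557643 = true := PT.chkRange_join (lo := 0) (a := 556412) (b := 1231) _ allP451 Cfsg.Agent.Lib.TC.D.HNO.P452.ok
theorem allP453 : pt.chkRange rels 0 558874 = true := PT.chkRange_join (lo := 0) (a := 557643) (b := 1231) _ allP452 Cfsg.Agent.Lib.TC.D.HNO.P453.ok
theorem allP454 : pt.chkRange rels 0 560105 = true := PT.chkRange_join (lo := 0) (a := 558874) (b := 1231) _ allP453 Cfsg.Agent.Lib.TC.D.HNO.P454.ok
theorem allP455 : pt.chkRange rels 0 561336 = true := PT.chkRange_join (lo := 0) (a := 560105) (b := 1231) _ allP454 Cfsg.Agent.Lib.TC.D.HNO.P455.ok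
theorem allP456 : pt.chkRange rels 0 562567 = true := PT.chkRange_join (lo := 0) (a := 561336) (b := 1231) _ allP455 Cfsg.Agent.Lib.TC.D.HNO.P456.ok
theorem allP457 : pt.chkRange rels 0 563798 = true := PT.chkRange_join (lo := 0) (a := 562567) (b := 1231) _ allP456 Cfsg.Agent.Lib.TC.D.HNO.P457.ok
theorem allP458 : pt.chkRange rels 0 565029 = true := PT.chkRange_join (lo := 0) (a := 563798) (b := 1231) _ allP457 Cfsg.Agent.Lib.TC.D.HNO.P458.ok
theorem allP459 : pt.chkRange rels 0 566260 = true := PT.chkRange_join (lo := 0) (a := 565029) (b := 1231) _ allP458 Cfsg.Agent.Lib.TC.D.HNO.P459.ok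
theorem allP460 : pt.chkRange rels 0 567491 = true := PT.chkRange_join (lo := 0) (a := 566260) (b := 1231) _ allP459 Cfsg.Agent.Lib.TC.D.HNO.P460.ok
theorem allP461 : pt.chkRange rels 0 568722 = true := PT.chkRange_join (lo := 0) (a := 567491) (b := 1231) _ allP460 Cfsg.Agent.Lib.TC.D.HNO.P461.ok
theorem allP462 : pt.chkRange rels 0 569953 = true := PT.chkRange_join (lo := 0) (a := 568722) (b := 1231) _ allP461 Cfsg.Agent.Lib.TC.D.HNO.P462.ok
theorem allP463 : pt.chkRange rels 0 571184 = true := PT.chkRange_join (lo := 0) (a := 569953) (b := 1231) _ allP462 Cfsg.Agent.Lib.TC.D.HNO.P463.ok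
theorem allP464 : pt.chkRange rels 0 572415 = true := PT.chkRange_join (lo := 0) (a := 571184) (b := 1231) _ allP463 Cfsg.Agent.Lib.TC.D.HNO.P464.ok
theorem allP465 : pt.chkRange rels 0 573646 = true := PT.chkRange_join (lo := 0) (a := 572415) (b := 1231) _ allP464 Cfsg.Agent.Lib.TC.D.HNO.P465.ok
theorem allP466 : pt.chkRange rels 0 574877 = true := PT.chkRange_join (lo := 0) (a := 573646) (b := 1231) _ allP465 Cfsg.Agent.Lib.TC.D.HNO.P466.ok
theorem allP467 : pt.chkRange rels 0 576108 = true := PT.chkRange_join (lo := 0) (a := 574877) (b := 1231) _ allP466 Cfsg.Agent.Lib.TC.D.HNO.P467.ok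
theorem allP468 : pt.chkRange rels 0 577339 = true := PT.chkRange_join (lo := 0) (a := 576108) (b := 1231) _ allP467 Cfsg.Agent.Lib.TC.D.HNO.P468.ok
theorem allP469 : pt.chkRange rels 0 578570 = true := PT.chkRange_join (lo := 0) (a := 577339) (b := 1231) _ allP468 Cfsg.Agent.Lib.TC.D.HNO.P469.ok
theorem allP470 : pt.chkRange rels 0 579801 = true := PT.chkRange_join (lo := 0) (a := 578570) (b := 1231) _ allP469 Cfsg.Agent.Lib.TC.D.HNO.P470.ok
theorem allP471 : pt.chkRange rels 0 581032 = true := PT.chkRange_join (lo := 0) (a := 579801) (b := 1231) _ allP470 Cfsg.Agent.Lib.TC.D.HNO.P471.ok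
theorem allP472 : pt.chkRange rels 0 582263 = true := PT.chkRange_join (lo := 0) (a := 581032) (b := 1231) _ allP471 Cfsg.Agent.Lib.TC.D.HNO.P472.ok
theorem allP473 : pt.chkRange rels 0 583494 = true := PT.chkRange_join (lo := 0) (a := 582263) (b := 1231) _ allP472 Cfsg.Agent.Lib.TC.D.HNO.P473.ok
theorem allP474 : pt.chkRange rels 0 584725 = true := PT.chkRange_join (lo := 0) (a := 583494) (b := 1231) _ allP473 Cfsg.Agent.Lib.TC.D.HNO.P474.ok
theorem allP475 : pt.chkRange rels 0 585956 = true := PT.chkRange_join (lo := 0) (a := 584725) (b := 1231) _ allP474 Cfsg.Agent.Lib.TC.D.HNO.P475.ok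
theorem allP476 : pt.chkRange rels 0 587187 = true := PT.chkRange_join (lo := 0) (a := 585956) (b := 1231) _ allP475 Cfsg.Agent.Lib.TC.D.HNO.P476.ok
theorem allP477 : pt.chkRange rels 0 588418 = true := PT.chkRange_join (lo := 0) (a := 587187) (b := 1231) _ allP476 Cfsg.Agent.Lib.TC.D.HNO.P477.ok
theorem allP478 : pt.chkRange rels 0 589649 = true := PT.chkRange_join (lo := 0) (a := 588418) (b := 1231) _ allP477 Cfsg.Agent.Lib.TC.D.HNO.P478.ok
theorem allP479 : pt.chkRange rels 0 590880 = true := PT.chkRange_join (lo := 0) (a := 589649) (b := 1231) _ allP478 Cfsg.Agent.Lib.TC.D.HNO.P479.ok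
theorem allP480 : pt.chkRange rels 0 592111 = true := PT.chkRange_join (lo := 0) (a := 590880) (b := 1231) _ allP479 Cfsg.Agent.Lib.TC.D.HNO.P480.ok
theorem allP481 : pt.chkRange rels 0 593342 = true := PT.chkRange_join (lo := 0) (a := 592111) (b := 1231) _ allP480 Cfsg.Agent.Lib.TC.D.HNO.P481.ok
theorem allP482 : pt.chkRange rels 0 594573 = true := PT.chkRange_join (lo := 0) (a := 593342) (b := 1231) _ allP481 Cfsg.Agent.Lib.TC.D.HNO.P482.ok
theorem allP483 : pt.chkRange rels 0 595804 = true := PT.chkRange_join (lo := 0) (a := 594573) (b := 1231) _ allP482 Cfsg.Agent.Lib.TC.D.HNO.P483.ok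
theorem allP484 : pt.chkRange rels 0 597035 = true := PT.chkRange_join (lo := 0) (a := 595804) (b := 1231) _ allP483 Cfsg.Agent.Lib.TC.D.HNO.P484.ok
theorem allP485 : pt.chkRange rels 0 598266 = true := PT.chkRange_join (lo := 0) (a := 597035) (b := 1231) _ allP484 Cfsg.Agent.Lib.TC.D.HNO.P485.ok
theorem allP486 : pt.chkRange rels 0 599497 = true := PT.chkRange_join (lo := 0) (a := 598266) (b := 1231) _ allP485 Cfsg.Agent.Lib.TC.D.HNO.P486.ok
theorem allP487 : pt.chkRange rels 0 600728 = true := PT.chkRange_join (lo := 0) (a := 599497) (b := 1231) _ allP486 Cfsg.Agent.Lib.TC.D.HNO.P487.ok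
theorem allP488 : pt.chkRange rels 0 601959 = true := PT.chkRange_join (lo := 0) (a := 600728) (b := 1231) _ allP487 Cfsg.Agent.Lib.TC.D.HNO.P488.ok
theorem allP489 : pt.chkRange rels 0 603190 = true := PT.chkRange_join (lo := 0) (a := 601959) (b := 1231) _ allP488 Cfsg.Agent.Lib.TC.D.HNO.P489.ok
theorem allP490 : pt.chkRange rels 0 604421 = true := PT.chkRange_join (lo := 0) (a := 603190) (b := 1231) _ allP489 Cfsg.Agent.Lib.TC.D.HNO.P490.ok
theorem allP491 : pt.chkRange rels 0 605652 = true := PT.chkRange_join (lo := 0) (a := 604421) (b := 1231) _ allP490 Cfsg.Agent.Lib.TC.D.HNO.P491.ok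
theorem allP492 : pt.chkRange rels 0 606883 = true := PT.chkRange_join (lo := 0) (a := 605652) (b := 1231) _ allP491 Cfsg.Agent.Lib.TC.D.HNO.P492.ok
theorem allP493 : pt.chkRange rels 0 608114 = true := PT.chkRange_join (lo := 0) (a := 606883) (b := 1231) _ allP492 Cfsg.Agent.Lib.TC.D.HNO.P493.ok
theorem allP494 : pt.chkRange rels 0 609345 = true := PT.chkRange_join (lo := 0) (a := 608114) (b := 1231) _ allP493 Cfsg.Agent.Lib.TC.D.HNO.P494.ok
theorem allP495 : pt.chkRange rels 0 610576 = true := PT.chkRange_join (lo := 0) (a := 609345) (b := 1231) _ allP494 Cfsg.Agent.Lib.TC.D.HNO.P495.ok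
theorem allP496 : pt.chkRange rels 0 611807 = true := PT.chkRange_join (lo := 0) (a := 610576) (b := 1231) _ allP495 Cfsg.Agent.Lib.TC.D.HNO.P496.ok
theorem allP497 : pt.chkRange rels 0 613038 = true := PT.chkRange_join (lo := 0) (a := 611807) (b := 1231) _ allP496 Cfsg.Agent.Lib.TC.D.HNO.P497.ok
theorem allP498 : pt.chkRange rels 0 614269 = true := PT.chkRange_join (lo := 0) (a := 613038) (b := 1231) _ allP497 Cfsg.Agent.Lib.TC.D.HNO.P498.ok
theorem allP499 : pt.chkRange rels 0 615500 = true := PT.chkRange_join (lo := 0) (a := 614269) (b := 1231) _ allP498 Cfsg.Agent.Lib.TC.D.HNO.P499.ok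
theorem allP500 : pt.chkRange rels 0 616731 = true := PT.chkRange_join (lo := 0) (a := 615500) (b := 1231) _ allP499 Cfsg.Agent.Lib.TC.D.HNO.P500.ok
theorem allP501 : pt.chkRange rels 0 617962 = true := PT.chkRange_join (lo := 0) (a := 616731) (b := 1231) _ allP500 Cfsg.Agent.Lib.TC.D.HNO.P501.ok
theorem allP502 : pt.chkRange rels 0 619193 = true := PT.chkRange_join (lo := 0) (a := 617962) (b := 1231) _ allP501 Cfsg.Agent.Lib.TC.D.HNO.P502.ok
theorem allP503 : pt.chkRange rels 0 620424 = true := PT.chkRange_join (lo := 0) (a := 619193) (b := 1231) _ allP502 Cfsg.Agent.Lib.TC.D.HNO.P503.ok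
theorem allP504 : pt.chkRange rels 0 621655 = true := PT.chkRange_join (lo := 0) (a := 620424) (b := 1231) _ allP503 Cfsg.Agent.Lib.TC.D.HNO.P504.ok
theorem allP505 : pt.chkRange rels 0 622886 = true := PT.chkRange_join (lo := 0) (a := 621655) (b := 1231) _ allP504 Cfsg.Agent.Lib.TC.D.HNO.P505.ok
theorem allP506 : pt.chkRange rels 0 624117 = true := PT.chkRange_join (lo := 0) (a := 622886) (b := 1231) _ allP505 Cfsg.Agent.Lib.TC.D.HNO.P506.ok
theorem allP507 : pt.chkRange rels 0 625348 = true := PT.chkRange_join (lo := 0) (a := 624117) (b := 1231) _ allP506 Cfsg.Agent.Lib.TC.D.HNO.P507.ok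
theorem allP508 : pt.chkRange rels 0 626579 = true := PT.chkRange_join (lo := 0) (a := 625348) (b := 1231) _ allP507 Cfsg.Agent.Lib.TC.D.HNO.P508.ok
theorem allP509 : pt.chkRange rels 0 627810 = true := PT.chkRange_join (lo := 0) (a := 626579) (b := 1231) _ allP508 Cfsg.Agent.Lib.TC.D.HNO.P509.ok
theorem allP510 : pt.chkRange rels 0 629041 = true := PT.chkRange_join (lo := 0) (a := 627810) (b := 1231) _ allP509 Cfsg.Agent.Lib.TC.D.HNO.P510.ok
theorem allP511 : pt.chkRange rels 0 630272 = true := PT.chkRange_join (lo := 0) (a := 629041) (b := 1231) _ allP510 Cfsg.Agent.Lib.TC.D.HNO.P511.ok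
theorem allP512 : pt.chkRange rels 0 631503 = true := PT.chkRange_join (lo := 0) (a := 630272) (b := 1231) _ allP511 Cfsg.Agent.Lib.TC.D.HNO.P512.ok
theorem allP513 : pt.chkRange rels 0 632734 = true := PT.chkRange_join (lo := 0) (a := 631503) (b := 1231) _ allP512 Cfsg.Agent.Lib.TC.D.HNO.P513.ok
theorem allP514 : pt.chkRange rels 0 633965 = true := PT.chkRange_join (lo := 0) (a := 632734) (b := 1231) _ allP513 Cfsg.Agent.Lib.TC.D.HNO.P514.ok
theorem allP515 : pt.chkRange rels 0 635196 = true := PT.chkRange_join (lo := 0) (a := 633965) (b := 1231) _ allP514 Cfsg.Agent.Lib.TC.D.HNO.P515.ok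
theorem allP516 : pt.chkRange rels 0 636427 = true := PT.chkRange_join (lo := 0) (a := 635196) (b := 1231) _ allP515 Cfsg.Agent.Lib.TC.D.HNO.P516.ok
theorem allP517 : pt.chkRange rels 0 637658 = true := PT.chkRange_join (lo := 0) (a := 636427) (b := 1231) _ allP516 Cfsg.Agent.Lib.TC.D.HNO.P517.ok
theorem allP518 : pt.chkRange rels 0 638889 = true := PT.chkRange_join (lo := 0) (a := 637658) (b := 1231) _ allP517 Cfsg.Agent.Lib.TC.D.HNO.P518.ok
theorem allP519 : pt.chkRange rels 0 640120 = true := PT.chkRange_join (lo := 0) (a := 638889) (b := 1231) _ allP518 Cfsg.Agent.Lib.TC.D.HNO.P519.ok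
theorem allP520 : pt.chkRange rels 0 641351 = true := PT.chkRange_join (lo := 0) (a := 640120) (b := 1231) _ allP519 Cfsg.Agent.Lib.TC.D.HNO.P520.ok
theorem allP521 : pt.chkRange rels 0 642582 = true := PT.chkRange_join (lo := 0) (a := 641351) (b := 1231) _ allP520 Cfsg.Agent.Lib.TC.D.HNO.P521.ok
theorem allP522 : pt.chkRange rels 0 643813 = true := PT.chkRange_join (lo := 0) (a := 642582) (b := 1231) _ allP521 Cfsg.Agent.Lib.TC.D.HNO.P522.ok
theorem allP523 : pt.chkRange rels 0 645044 = true := PT.chkRange_join (lo := 0) (a := 643813) (b := 1231) _ allP522 Cfsg.Agent.Lib.TC.D.HNO.P523.ok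
theorem allP524 : pt.chkRange rels 0 646275 = true := PT.chkRange_join (lo := 0) (a := 645044) (b := 1231) _ allP523 Cfsg.Agent.Lib.TC.D.HNO.P524.ok
theorem allP525 : pt.chkRange rels 0 647506 = true := PT.chkRange_join (lo := 0) (a := 646275) (b := 1231) _ allP524 Cfsg.Agent.Lib.TC.D.HNO.P525.ok
theorem allP526 : pt.chkRange rels 0 648737 = true := PT.chkRange_join (lo := 0) (a := 647506) (b := 1231) _ allP525 Cfsg.Agent.Lib.TC.D.HNO.P526.ok
theorem allP527 : pt.chkRange rels 0 649968 = true := PT.chkRange_join (lo := 0) (a := 648737) (b := 1231) _ allP526 Cfsg.Agent.Lib.TC.D.HNO.P527.ok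
theorem allP528 : pt.chkRange rels 0 651199 = true := PT.chkRange_join (lo := 0) (a := 649968) (b := 1231) _ allP527 Cfsg.Agent.Lib.TC.D.HNO.P528.ok
theorem allP529 : pt.chkRange rels 0 652430 = true := PT.chkRange_join (lo := 0) (a := 651199) (b := 1231) _ allP528 Cfsg.Agent.Lib.TC.D.HNO.P529.ok
theorem allP530 : pt.chkRange rels 0 653661 = true := PT.chkRange_join (lo := 0) (a := 652430) (b := 1231) _ allP529 Cfsg.Agent.Lib.TC.D.HNO.P530.ok
theorem allP531 : pt.chkRange rels 0 654892 = true := PT.chkRange_join (lo := 0) (a := 653661) (b := 1231) _ allP530 Cfsg.Agent.Lib.TC.D.HNO.P531.ok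
theorem allP532 : pt.chkRange rels 0 656123 = true := PT.chkRange_join (lo := 0) (a := 654892) (b := 1231) _ allP531 Cfsg.Agent.Lib.TC.D.HNO.P532.ok
theorem allP533 : pt.chkRange rels 0 657354 = true := PT.chkRange_join (lo := 0) (a := 656123) (b := 1231) _ allP532 Cfsg.Agent.Lib.TC.D.HNO.P533.ok
theorem allP534 : pt.chkRange rels 0 658585 = true := PT.chkRange_join (lo := 0) (a := 657354) (b := 1231) _ allP533 Cfsg.Agent.Lib.TC.D.HNO.P534.ok
theorem allP535 : pt.chkRange rels 0 659816 = true := PT.chkRange_join (lo := 0) (a := 658585) (b := 1231) _ allP534 Cfsg.Agent.Lib.TC.D.HNO.P535.ok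
theorem allP536 : pt.chkRange rels 0 661047 = true := PT.chkRange_join (lo := 0) (a := 659816) (b := 1231) _ allP535 Cfsg.Agent.Lib.TC.D.HNO.P536.ok
theorem allP537 : pt.chkRange rels 0 662278 = true := PT.chkRange_join (lo := 0) (a := 661047) (b := 1231) _ allP536 Cfsg.Agent.Lib.TC.D.HNO.P537.ok
theorem allP538 : pt.chkRange rels 0 663509 = true := PT.chkRange_join (lo := 0) (a := 662278) (b := 1231) _ allP537 Cfsg.Agent.Lib.TC.D.HNO.P538.ok
theorem allP539 : pt.chkRange rels 0 664740 = true := PT.chkRange_join (lo := 0) (a := 663509) (b := 1231) _ allP538 Cfsg.Agent.Lib.TC.D.HNO.P539.ok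
theorem allP540 : pt.chkRange rels 0 665971 = true := PT.chkRange_join (lo := 0) (a := 664740) (b := 1231) _ allP539 Cfsg.Agent.Lib.TC.D.HNO.P540.ok
theorem allP541 : pt.chkRange rels 0 667202 = true := PT.chkRange_join (lo := 0) (a := 665971) (b := 1231) _ allP540 Cfsg.Agent.Lib.TC.D.HNO.P541.ok
theorem allP542 : pt.chkRange rels 0 668433 = true := PT.chkRange_join (lo := 0) (a := 667202) (b := 1231) _ allP541 Cfsg.Agent.Lib.TC.D.HNO.P542.ok
theorem allP543 : pt.chkRange rels 0 669664 = true := PT.chkRange_join (lo := 0) (a := 668433) (b := 1231) _ allP542 Cfsg.Agent.Lib.TC.D.HNO.P543.ok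
theorem allP544 : pt.chkRange rels 0 670895 = true := PT.chkRange_join (lo := 0) (a := 669664) (b := 1231) _ allP543 Cfsg.Agent.Lib.TC.D.HNO.P544.ok
theorem allP545 : pt.chkRange rels 0 672126 = true := PT.chkRange_join (lo := 0) (a := 670895) (b := 1231) _ allP544 Cfsg.Agent.Lib.TC.D.HNO.P545.ok
theorem allP546 : pt.chkRange rels 0 673357 = true := PT.chkRange_join (lo := 0) (a := 672126) (b := 1231) _ allP545 Cfsg.Agent.Lib.TC.D.HNO.P546.ok
theorem allP547 : pt.chkRange rels 0 674588 = true := PT.chkRange_join (lo := 0) (a := 673357) (b := 1231) _ allP546 Cfsg.Agent.Lib.TC.D.HNO.P547.ok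
theorem allP548 : pt.chkRange rels 0 675819 = true := PT.chkRange_join (lo := 0) (a := 674588) (b := 1231) _ allP547 Cfsg.Agent.Lib.TC.D.HNO.P548.ok
theorem allP549 : pt.chkRange rels 0 677050 = true := PT.chkRange_join (lo := 0) (a := 675819) (b := 1231) _ allP548 Cfsg.Agent.Lib.TC.D.HNO.P549.ok
theorem allP550 : pt.chkRange rels 0 678281 = true := PT.chkRange_join (lo := 0) (a := 677050) (b := 1231) _ allP549 Cfsg.Agent.Lib.TC.D.HNO.P550.ok
theorem allP551 : pt.chkRange rels 0 679512 = true := PT.chkRange_join (lo := 0) (a := 678281) (b := 1231) _ allP550 Cfsg.Agent.Lib.TC.D.HNO.P551.ok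
theorem allP552 : pt.chkRange rels 0 680743 = true := PT.chkRange_join (lo := 0) (a := 679512) (b := 1231) _ allP551 Cfsg.Agent.Lib.TC.D.HNO.P552.ok
theorem allP553 : pt.chkRange rels 0 681974 = true := PT.chkRange_join (lo := 0) (a := 680743) (b := 1231) _ allP552 Cfsg.Agent.Lib.TC.D.HNO.P553.ok
theorem allP554 : pt.chkRange rels 0 683205 = true := PT.chkRange_join (lo := 0) (a := 681974) (b := 1231) _ allP553 Cfsg.Agent.Lib.TC.D.HNO.P554.ok
theorem allP555 : pt.chkRange rels 0 684436 = true := PT.chkRange_join (lo := 0) (a := 683205) (b := 1231) _ allP554 Cfsg.Agent.Lib.TC.D.HNO.P555.ok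
theorem allP556 : pt.chkRange rels 0 685667 = true := PT.chkRange_join (lo := 0) (a := 684436) (b := 1231) _ allP555 Cfsg.Agent.Lib.TC.D.HNO.P556.ok
theorem allP557 : pt.chkRange rels 0 686898 = true := PT.chkRange_join (lo := 0) (a := 685667) (b := 1231) _ allP556 Cfsg.Agent.Lib.TC.D.HNO.P557.ok
theorem allP558 : pt.chkRange rels 0 688129 = true := PT.chkRange_join (lo := 0) (a := 686898) (b := 1231) _ allP557 Cfsg.Agent.Lib.TC.D.HNO.P558.ok
theorem allP559 : pt.chkRange rels 0 689360 = true := PT.chkRange_join (lo := 0) (a := 688129) (b := 1231) _ allP558 Cfsg.Agent.Lib.TC.D.HNO.P559.ok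
theorem allP560 : pt.chkRange rels 0 690591 = true := PT.chkRange_join (lo := 0) (a := 689360) (b := 1231) _ allP559 Cfsg.Agent.Lib.TC.D.HNO.P560.ok
theorem allP561 : pt.chkRange rels 0 691822 = true := PT.chkRange_join (lo := 0) (a := 690591) (b := 1231) _ allP560 Cfsg.Agent.Lib.TC.D.HNO.P561.ok
theorem allP562 : pt.chkRange rels 0 693053 = true := PT.chkRange_join (lo := 0) (a := 691822) (b := 1231) _ allP561 Cfsg.Agent.Lib.TC.D.HNO.P562.ok
theorem allP563 : pt.chkRange rels 0 694284 = true := PT.chkRange_join (lo := 0) (a := 693053) (b := 1231) _ allP562 Cfsg.Agent.Lib.TC.D.HNO.P563.ok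
theorem allP564 : pt.chkRange rels 0 695515 = true := PT.chkRange_join (lo := 0) (a := 694284) (b := 1231) _ allP563 Cfsg.Agent.Lib.TC.D.HNO.P564.ok
theorem allP565 : pt.chkRange rels 0 696746 = true := PT.chkRange_join (lo := 0) (a := 695515) (b := 1231) _ allP564 Cfsg.Agent.Lib.TC.D.HNO.P565.ok
theorem allP566 : pt.chkRange rels 0 697977 = true := PT.chkRange_join (lo := 0) (a := 696746) (b := 1231) _ allP565 Cfsg.Agent.Lib.TC.D.HNO.P566.ok
theorem allP567 : pt.chkRange rels 0 699208 = true := PT.chkRange_join (lo := 0) (a := 697977) (b := 1231) _ allP566 Cfsg.Agent.Lib.TC.D.HNO.P567.ok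
theorem allP568 : pt.chkRange rels 0 700439 = true := PT.chkRange_join (lo := 0) (a := 699208) (b := 1231) _ allP567 Cfsg.Agent.Lib.TC.D.HNO.P568.ok
theorem allP569 : pt.chkRange rels 0 701670 = true := PT.chkRange_join (lo := 0) (a := 700439) (b := 1231) _ allP568 Cfsg.Agent.Lib.TC.D.HNO.P569.ok
theorem allP570 : pt.chkRange rels 0 702901 = true := PT.chkRange_join (lo := 0) (a := 701670) (b := 1231) _ allP569 Cfsg.Agent.Lib.TC.D.HNO.P570.ok
theorem allP571 : pt.chkRange rels 0 704132 = true := PT.chkRange_join (lo := 0) (a := 702901) (b := 1231) _ allP570 Cfsg.Agent.Lib.TC.D.HNO.P571.ok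
theorem allP572 : pt.chkRange rels 0 705363 = true := PT.chkRange_join (lo := 0) (a := 704132) (b := 1231) _ allP571 Cfsg.Agent.Lib.TC.D.HNO.P572.ok
theorem allP573 : pt.chkRange rels 0 706594 = true := PT.chkRange_join (lo := 0) (a := 705363) (b := 1231) _ allP572 Cfsg.Agent.Lib.TC.D.HNO.P573.ok
theorem allP574 : pt.chkRange rels 0 707825 = true := PT.chkRange_join (lo := 0) (a := 706594) (b := 1231) _ allP573 Cfsg.Agent.Lib.TC.D.HNO.P574.ok
theorem allP575 : pt.chkRange rels 0 709056 = true := PT.chkRange_join (lo := 0) (a := 707825) (b := 1231) _ allP574 Cfsg.Agent.Lib.TC.D.HNO.P575.ok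
theorem allP576 : pt.chkRange rels 0 710287 = true := PT.chkRange_join (lo := 0) (a := 709056) (b := 1231) _ allP575 Cfsg.Agent.Lib.TC.D.HNO.P576.ok
theorem allP577 : pt.chkRange rels 0 711518 = true := PT.chkRange_join (lo := 0) (a := 710287) (b := 1231) _ allP576 Cfsg.Agent.Lib.TC.D.HNO.P577.ok
theorem allP578 : pt.chkRange rels 0 712749 = true := PT.chkRange_join (lo := 0) (a := 711518) (b := 1231) _ allP577 Cfsg.Agent.Lib.TC.D.HNO.P578.ok
theorem allP579 : pt.chkRange rels 0 713980 = true := PT.chkRange_join (lo := 0) (a := 712749) (b := 1231) _ allP578 Cfsg.Agent.Lib.TC.D.HNO.P579.ok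
theorem allP580 : pt.chkRange rels 0 715211 = true := PT.chkRange_join (lo := 0) (a := 713980) (b := 1231) _ allP579 Cfsg.Agent.Lib.TC.D.HNO.P580.ok
theorem allP581 : pt.chkRange rels 0 716442 = true := PT.chkRange_join (lo := 0) (a := 715211) (b := 1231) _ allP580 Cfsg.Agent.Lib.TC.D.HNO.P581.ok
theorem allP582 : pt.chkRange rels 0 717673 = true := PT.chkRange_join (lo := 0) (a := 716442) (b := 1231) _ allP581 Cfsg.Agent.Lib.TC.D.HNO.P582.ok
theorem allP583 : pt.chkRange rels 0 718904 = true := PT.chkRange_join (lo := 0) (a := 717673) (b := 1231) _ allP582 Cfsg.Agent.Lib.TC.D.HNO.P583.ok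
theorem allP584 : pt.chkRange rels 0 720135 = true := PT.chkRange_join (lo := 0) (a := 718904) (b := 1231) _ allP583 Cfsg.Agent.Lib.TC.D.HNO.P584.ok
theorem allP585 : pt.chkRange rels 0 721366 = true := PT.chkRange_join (lo := 0) (a := 720135) (b := 1231) _ allP584 Cfsg.Agent.Lib.TC.D.HNO.P585.ok
theorem allP586 : pt.chkRange rels 0 722597 = true := PT.chkRange_join (lo := 0) (a := 721366) (b := 1231) _ allP585 Cfsg.Agent.Lib.TC.D.HNO.P586.ok
theorem allP587 : pt.chkRange rels 0 723828 = true := PT.chkRange_join (lo := 0) (a := 722597) (b := 1231) _ allP586 Cfsg.Agent.Lib.TC.D.HNO.P587.ok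
theorem allP588 : pt.chkRange rels 0 725059 = true := PT.chkRange_join (lo := 0) (a := 723828) (b := 1231) _ allP587 Cfsg.Agent.Lib.TC.D.HNO.P588.ok
theorem allP589 : pt.chkRange rels 0 726290 = true := PT.chkRange_join (lo := 0) (a := 725059) (b := 1231) _ allP588 Cfsg.Agent.Lib.TC.D.HNO.P589.ok
theorem allP590 : pt.chkRange rels 0 727521 = true := PT.chkRange_join (lo := 0) (a := 726290) (b := 1231) _ allP589 Cfsg.Agent.Lib.TC.D.HNO.P590.ok
theorem allP591 : pt.chkRange rels 0 728752 = true := PT.chkRange_join (lo := 0) (a := 727521) (b := 1231) _ allP590 Cfsg.Agent.Lib.TC.D.HNO.P591.ok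
theorem allP592 : pt.chkRange rels 0 729983 = true := PT.chkRange_join (lo := 0) (a := 728752) (b := 1231) _ allP591 Cfsg.Agent.Lib.TC.D.HNO.P592.ok
theorem allP593 : pt.chkRange rels 0 731214 = true := PT.chkRange_join (lo := 0) (a := 729983) (b := 1231) _ allP592 Cfsg.Agent.Lib.TC.D.HNO.P593.ok
theorem allP594 : pt.chkRange rels 0 732445 = true := PT.chkRange_join (lo := 0) (a := 731214) (b := 1231) _ allP593 Cfsg.Agent.Lib.TC.D.HNO.P594.ok
theorem allP595 : pt.chkRange rels 0 733676 = true := PT.chkRange_join (lo := 0) (a := 732445) (b := 1231) _ allP594 Cfsg.Agent.Lib.TC.D.HNO.P595.ok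
theorem allP596 : pt.chkRange rels 0 734907 = true := PT.chkRange_join (lo := 0) (a := 733676) (b := 1231) _ allP595 Cfsg.Agent.Lib.TC.D.HNO.P596.ok
theorem allP597 : pt.chkRange rels 0 736138 = true := PT.chkRange_join (lo := 0) (a := 734907) (b := 1231) _ allP596 Cfsg.Agent.Lib.TC.D.HNO.P597.ok
theorem allP598 : pt.chkRange rels 0 737369 = true := PT.chkRange_join (lo := 0) (a := 736138) (b := 1231) _ allP597 Cfsg.Agent.Lib.TC.D.HNO.P598.ok
theorem allP599 : pt.chkRange rels 0 738600 = true := PT.chkRange_join (lo := 0) (a := 737369) (b := 1231) _ allP598 Cfsg.Agent.Lib.TC.D.HNO.P599.ok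
theorem allP600 : pt.chkRange rels 0 739831 = true := PT.chkRange_join (lo := 0) (a := 738600) (b := 1231) _ allP599 Cfsg.Agent.Lib.TC.D.HNO.P600.ok
theorem allP601 : pt.chkRange rels 0 741062 = true := PT.chkRange_join (lo := 0) (a := 739831) (b := 1231) _ allP600 Cfsg.Agent.Lib.TC.D.HNO.P601.ok
theorem allP602 : pt.chkRange rels 0 742293 = true := PT.chkRange_join (lo := 0) (a := 741062) (b := 1231) _ allP601 Cfsg.Agent.Lib.TC.D.HNO.P602.ok
theorem allP603 : pt.chkRange rels 0 743524 = true := PT.chkRange_join (lo := 0) (a := 742293) (b := 1231) _ allP602 Cfsg.Agent.Lib.TC.D.HNO.P603.ok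
theorem allP604 : pt.chkRange rels 0 744755 = true := PT.chkRange_join (lo := 0) (a := 743524) (b := 1231) _ allP603 Cfsg.Agent.Lib.TC.D.HNO.P604.ok
theorem allP605 : pt.chkRange rels 0 745986 = true := PT.chkRange_join (lo := 0) (a := 744755) (b := 1231) _ allP604 Cfsg.Agent.Lib.TC.D.HNO.P605.ok
theorem allP606 : pt.chkRange rels 0 747217 = true := PT.chkRange_join (lo := 0) (a := 745986) (b := 1231) _ allP605 Cfsg.Agent.Lib.TC.D.HNO.P606.ok
theorem allP607 : pt.chkRange rels 0 748448 = true := PT.chkRange_join (lo := 0) (a := 747217) (b := 1231) _ allP606 Cfsg.Agent.Lib.TC.D.HNO.P607.ok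
theorem allP608 : pt.chkRange rels 0 749679 = true := PT.chkRange_join (lo := 0) (a := 748448) (b := 1231) _ allP607 Cfsg.Agent.Lib.TC.D.HNO.P608.ok
theorem allP609 : pt.chkRange rels 0 750910 = true := PT.chkRange_join (lo := 0) (a := 749679) (b := 1231) _ allP608 Cfsg.Agent.Lib.TC.D.HNO.P609.ok
theorem allP610 : pt.chkRange rels 0 752141 = true := PT.chkRange_join (lo := 0) (a := 750910) (b := 1231) _ allP609 Cfsg.Agent.Lib.TC.D.HNO.P610.ok
theorem allP611 : pt.chkRange rels 0 753372 = true := PT.chkRange_join (lo := 0) (a := 752141) (b := 1231) _ allP610 Cfsg.Agent.Lib.TC.D.HNO.P611.ok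
theorem allP612 : pt.chkRange rels 0 754603 = true := PT.chkRange_join (lo := 0) (a := 753372) (b := 1231) _ allP611 Cfsg.Agent.Lib.TC.D.HNO.P612.ok
theorem allP613 : pt.chkRange rels 0 755834 = true := PT.chkRange_join (lo := 0) (a := 754603) (b := 1231) _ allP612 Cfsg.Agent.Lib.TC.D.HNO.P613.ok
theorem allP614 : pt.chkRange rels 0 757065 = true := PT.chkRange_join (lo := 0) (a := 755834) (b := 1231) _ allP613 Cfsg.Agent.Lib.TC.D.HNO.P614.ok
theorem allP615 : pt.chkRange rels 0 758296 = true := PT.chkRange_join (lo := 0) (a := 757065) (b := 1231) _ allP614 Cfsg.Agent.Lib.TC.D.HNO.P615.ok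
theorem allP616 : pt.chkRange rels 0 759527 = true := PT.chkRange_join (lo := 0) (a := 758296) (b := 1231) _ allP615 Cfsg.Agent.Lib.TC.D.HNO.P616.ok
theorem allP617 : pt.chkRange rels 0 760758 = true := PT.chkRange_join (lo := 0) (a := 759527) (b := 1231) _ allP616 Cfsg.Agent.Lib.TC.D.HNO.P617.ok
theorem allP618 : pt.chkRange rels 0 761989 = true := PT.chkRange_join (lo := 0) (a := 760758) (b := 1231) _ allP617 Cfsg.Agent.Lib.TC.D.HNO.P618.ok
theorem allP619 : pt.chkRange rels 0 763220 = true := PT.chkRange_join (lo := 0) (a := 761989) (b := 1231) _ allP618 Cfsg.Agent.Lib.TC.D.HNO.P619.ok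
theorem allP620 : pt.chkRange rels 0 764451 = true := PT.chkRange_join (lo := 0) (a := 763220) (b := 1231) _ allP619 Cfsg.Agent.Lib.TC.D.HNO.P620.ok
theorem allP621 : pt.chkRange rels 0 765682 = true := PT.chkRange_join (lo := 0) (a := 764451) (b := 1231) _ allP620 Cfsg.Agent.Lib.TC.D.HNO.P621.ok
theorem allP622 : pt.chkRange rels 0 766913 = true := PT.chkRange_join (lo := 0) (a := 765682) (b := 1231) _ allP621 Cfsg.Agent.Lib.TC.D.HNO.P622.ok
theorem allP623 : pt.chkRange rels 0 768144 = true := PT.chkRange_join (lo := 0) (a := 766913) (b := 1231) _ allP622 Cfsg.Agent.Lib.TC.D.HNO.P623.ok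
theorem allP624 : pt.chkRange rels 0 769375 = true := PT.chkRange_join (lo := 0) (a := 768144) (b := 1231) _ allP623 Cfsg.Agent.Lib.TC.D.HNO.P624.ok
theorem allP625 : pt.chkRange rels 0 770606 = true := PT.chkRange_join (lo := 0) (a := 769375) (b := 1231) _ allP624 Cfsg.Agent.Lib.TC.D.HNO.P625.ok
theorem allP626 : pt.chkRange rels 0 771837 = true := PT.chkRange_join (lo := 0) (a := 770606) (b := 1231) _ allP625 Cfsg.Agent.Lib.TC.D.HNO.P626.ok
theorem allP627 : pt.chkRange rels 0 773068 = true := PT.chkRange_join (lo := 0) (a := 771837) (b := 1231) _ allP626 Cfsg.Agent.Lib.TC.D.HNO.P627.ok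
theorem allP628 : pt.chkRange rels 0 774299 = true := PT.chkRange_join (lo := 0) (a := 773068) (b := 1231) _ allP627 Cfsg.Agent.Lib.TC.D.HNO.P628.ok
theorem allP629 : pt.chkRange rels 0 775530 = true := PT.chkRange_join (lo := 0) (a := 774299) (b := 1231) _ allP628 Cfsg.Agent.Lib.TC.D.HNO.P629.ok
theorem allP630 : pt.chkRange rels 0 776761 = true := PT.chkRange_join (lo := 0) (a := 775530) (b := 1231) _ allP629 Cfsg.Agent.Lib.TC.D.HNO.P630.ok
theorem allP631 : pt.chkRange rels 0 777992 = true := PT.chkRange_join (lo := 0) (a := 776761) (b := 1231) _ allP630 Cfsg.Agent.Lib.TC.D.HNO.P631.ok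
theorem allP632 : pt.chkRange rels 0 779223 = true := PT.chkRange_join (lo := 0) (a := 777992) (b := 1231) _ allP631 Cfsg.Agent.Lib.TC.D.HNO.P632.ok
theorem allP633 : pt.chkRange rels 0 780454 = true := PT.chkRange_join (lo := 0) (a := 779223) (b := 1231) _ allP632 Cfsg.Agent.Lib.TC.D.HNO.P633.ok
theorem allP634 : pt.chkRange rels 0 781685 = true := PT.chkRange_join (lo := 0) (a := 780454) (b := 1231) _ allP633 Cfsg.Agent.Lib.TC.D.HNO.P634.ok
theorem allP635 : pt.chkRange rels 0 782916 = true := PT.chkRange_join (lo := 0) (a := 781685) (b := 1231) _ allP634 Cfsg.Agent.Lib.TC.D.HNO.P635.ok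
theorem allP636 : pt.chkRange rels 0 784147 = true := PT.chkRange_join (lo := 0) (a := 782916) (b := 1231) _ allP635 Cfsg.Agent.Lib.TC.D.HNO.P636.ok
theorem allP637 : pt.chkRange rels 0 785378 = true := PT.chkRange_join (lo := 0) (a := 784147) (b := 1231) _ allP636 Cfsg.Agent.Lib.TC.D.HNO.P637.ok
theorem allP638 : pt.chkRange rels 0 786609 = true := PT.chkRange_join (lo := 0) (a := 785378) (b := 1231) _ allP637 Cfsg.Agent.Lib.TC.D.HNO.P638.ok
theorem allP639 : pt.chkRange rels 0 787840 = true := PT.chkRange_join (lo := 0) (a := 786609) (b := 1231) _ allP638 Cfsg.Agent.Lib.TC.D.HNO.P639.ok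
theorem allP640 : pt.chkRange rels 0 789071 = true := PT.chkRange_join (lo := 0) (a := 787840) (b := 1231) _ allP639 Cfsg.Agent.Lib.TC.D.HNO.P640.ok
theorem allP641 : pt.chkRange rels 0 790302 = true := PT.chkRange_join (lo := 0) (a := 789071) (b := 1231) _ allP640 Cfsg.Agent.Lib.TC.D.HNO.P641.ok
theorem allP642 : pt.chkRange rels 0 791533 = true := PT.chkRange_join (lo := 0) (a := 790302) (b := 1231) _ allP641 Cfsg.Agent.Lib.TC.D.HNO.P642.ok
theorem allP643 : pt.chkRange rels 0 792764 = true := PT.chkRange_join (lo := 0) (a := 791533) (b := 1231) _ allP642 Cfsg.Agent.Lib.TC.D.HNO.P643.ok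
theorem allP644 : pt.chkRange rels 0 793995 = true := PT.chkRange_join (lo := 0) (a := 792764) (b := 1231) _ allP643 Cfsg.Agent.Lib.TC.D.HNO.P644.ok
theorem allP645 : pt.chkRange rels 0 795226 = true := PT.chkRange_join (lo := 0) (a := 793995) (b := 1231) _ allP644 Cfsg.Agent.Lib.TC.D.HNO.P645.ok
theorem allP646 : pt.chkRange rels 0 796457 = true := PT.chkRange_join (lo := 0) (a := 795226) (b := 1231) _ allP645 Cfsg.Agent.Lib.TC.D.HNO.P646.ok
theorem allP647 : pt.chkRange rels 0 797688 = true := PT.chkRange_join (lo := 0) (a := 796457) (b := 1231) _ allP646 Cfsg.Agent.Lib.TC.D.HNO.P647.ok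
theorem allP648 : pt.chkRange rels 0 798919 = true := PT.chkRange_join (lo := 0) (a := 797688) (b := 1231) _ allP647 Cfsg.Agent.Lib.TC.D.HNO.P648.ok
theorem allP649 : pt.chkRange rels 0 800150 = true := PT.chkRange_join (lo := 0) (a := 798919) (b := 1231) _ allP648 Cfsg.Agent.Lib.TC.D.HNO.P649.ok
theorem allP650 : pt.chkRange rels 0 801381 = true := PT.chkRange_join (lo := 0) (a := 800150) (b := 1231) _ allP649 Cfsg.Agent.Lib.TC.D.HNO.P650.ok
theorem allP651 : pt.chkRange rels 0 802612 = true := PT.chkRange_join (lo := 0) (a := 801381) (b := 1231) _ allP650 Cfsg.Agent.Lib.TC.D.HNO.P651.ok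
theorem allP652 : pt.chkRange rels 0 803843 = true := PT.chkRange_join (lo := 0) (a := 802612) (b := 1231) _ allP651 Cfsg.Agent.Lib.TC.D.HNO.P652.ok
theorem allP653 : pt.chkRange rels 0 805074 = true := PT.chkRange_join (lo := 0) (a := 803843) (b := 1231) _ allP652 Cfsg.Agent.Lib.TC.D.HNO.P653.ok
theorem allP654 : pt.chkRange rels 0 806305 = true := PT.chkRange_join (lo := 0) (a := 805074) (b := 1231) _ allP653 Cfsg.Agent.Lib.TC.D.HNO.P654.ok
theorem allP655 : pt.chkRange rels 0 807536 = true := PT.chkRange_join (lo := 0) (a := 806305) (b := 1231) _ allP654 Cfsg.Agent.Lib.TC.D.HNO.P655.ok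
theorem allP656 : pt.chkRange rels 0 808767 = true := PT.chkRange_join (lo := 0) (a := 807536) (b := 1231) _ allP655 Cfsg.Agent.Lib.TC.D.HNO.P656.ok
theorem allP657 : pt.chkRange rels 0 809998 = true := PT.chkRange_join (lo := 0) (a := 808767) (b := 1231) _ allP656 Cfsg.Agent.Lib.TC.D.HNO.P657.ok
theorem allP658 : pt.chkRange rels 0 811229 = true := PT.chkRange_join (lo := 0) (a := 809998) (b := 1231) _ allP657 Cfsg.Agent.Lib.TC.D.HNO.P658.ok
theorem allP659 : pt.chkRange rels 0 812460 = true := PT.chkRange_join (lo := 0) (a := 811229) (b := 1231) _ allP658 Cfsg.Agent.Lib.TC.D.HNO.P659.ok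
theorem allP660 : pt.chkRange rels 0 813691 = true := PT.chkRange_join (lo := 0) (a := 812460) (b := 1231) _ allP659 Cfsg.Agent.Lib.TC.D.HNO.P660.ok
theorem allP661 : pt.chkRange rels 0 814922 = true := PT.chkRange_join (lo := 0) (a := 813691) (b := 1231) _ allP660 Cfsg.Agent.Lib.TC.D.HNO.P661.ok
theorem allP662 : pt.chkRange rels 0 816153 = true := PT.chkRange_join (lo := 0) (a := 814922) (b := 1231) _ allP661 Cfsg.Agent.Lib.TC.D.HNO.P662.ok
theorem allP663 : pt.chkRange rels 0 817384 = true := PT.chkRange_join (lo := 0) (a := 816153) (b := 1231) _ allP662 Cfsg.Agent.Lib.TC.D.HNO.P663.ok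
theorem allP664 : pt.chkRange rels 0 818615 = true := PT.chkRange_join (lo := 0) (a := 817384) (b := 1231) _ allP663 Cfsg.Agent.Lib.TC.D.HNO.P664.ok
theorem allP665 : pt.chkRange rels 0 819846 = true := PT.chkRange_join (lo := 0) (a := 818615) (b := 1231) _ allP664 Cfsg.Agent.Lib.TC.D.HNO.P665.ok
theorem allP666 : pt.chkRange rels 0 821077 = true := PT.chkRange_join (lo := 0) (a := 819846) (b := 1231) _ allP665 Cfsg.Agent.Lib.TC.D.HNO.P666.ok
theorem allP667 : pt.chkRange rels 0 822308 = true := PT.chkRange_join (lo := 0) (a := 821077) (b := 1231) _ allP666 Cfsg.Agent.Lib.TC.D.HNO.P667.ok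
theorem allP668 : pt.chkRange rels 0 823539 = true := PT.chkRange_join (lo := 0) (a := 822308) (b := 1231) _ allP667 Cfsg.Agent.Lib.TC.D.HNO.P668.ok
theorem allP669 : pt.chkRange rels 0 824770 = true := PT.chkRange_join (lo := 0) (a := 823539) (b := 1231) _ allP668 Cfsg.Agent.Lib.TC.D.HNO.P669.ok
theorem allP670 : pt.chkRange rels 0 826001 = true := PT.chkRange_join (lo := 0) (a := 824770) (b := 1231) _ allP669 Cfsg.Agent.Lib.TC.D.HNO.P670.ok
theorem allP671 : pt.chkRange rels 0 827232 = true := PT.chkRange_join (lo := 0) (a := 826001) (b := 1231) _ allP670 Cfsg.Agent.Lib.TC.D.HNO.P671.ok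
theorem allP672 : pt.chkRange rels 0 828463 = true := PT.chkRange_join (lo := 0) (a := 827232) (b := 1231) _ allP671 Cfsg.Agent.Lib.TC.D.HNO.P672.ok
theorem allP673 : pt.chkRange rels 0 829694 = true := PT.chkRange_join (lo := 0) (a := 828463) (b := 1231) _ allP672 Cfsg.Agent.Lib.TC.D.HNO.P673.ok
theorem allP674 : pt.chkRange rels 0 830925 = true := PT.chkRange_join (lo := 0) (a := 829694) (b := 1231) _ allP673 Cfsg.Agent.Lib.TC.D.HNO.P674.ok
theorem allP675 : pt.chkRange rels 0 832156 = true := PT.chkRange_join (lo := 0) (a := 830925) (b := 1231) _ allP674 Cfsg.Agent.Lib.TC.D.HNO.P675.ok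
theorem allP676 : pt.chkRange rels 0 833387 = true := PT.chkRange_join (lo := 0) (a := 832156) (b := 1231) _ allP675 Cfsg.Agent.Lib.TC.D.HNO.P676.ok
theorem allP677 : pt.chkRange rels 0 834618 = true := PT.chkRange_join (lo := 0) (a := 833387) (b := 1231) _ allP676 Cfsg.Agent.Lib.TC.D.HNO.P677.ok
theorem allP678 : pt.chkRange rels 0 835849 = true := PT.chkRange_join (lo := 0) (a := 834618) (b := 1231) _ allP677 Cfsg.Agent.Lib.TC.D.HNO.P678.ok
theorem allP679 : pt.chkRange rels 0 837080 = true := PT.chkRange_join (lo := 0) (a := 835849) (b := 1231) _ allP678 Cfsg.Agent.Lib.TC.D.HNO.P679.ok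
theorem allP680 : pt.chkRange rels 0 838311 = true := PT.chkRange_join (lo := 0) (a := 837080) (b := 1231) _ allP679 Cfsg.Agent.Lib.TC.D.HNO.P680.ok
theorem allP681 : pt.chkRange rels 0 839542 = true := PT.chkRange_join (lo := 0) (a := 838311) (b := 1231) _ allP680 Cfsg.Agent.Lib.TC.D.HNO.P681.ok
theorem allP682 : pt.chkRange rels 0 840773 = true := PT.chkRange_join (lo := 0) (a := 839542) (b := 1231) _ allP681 Cfsg.Agent.Lib.TC.D.HNO.P682.ok
theorem allP683 : pt.chkRange rels 0 842004 = true := PT.chkRange_join (lo := 0) (a := 840773) (b := 1231) _ allP682 Cfsg.Agent.Lib.TC.D.HNO.P683.ok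
theorem allP684 : pt.chkRange rels 0 843235 = true := PT.chkRange_join (lo := 0) (a := 842004) (b := 1231) _ allP683 Cfsg.Agent.Lib.TC.D.HNO.P684.ok
theorem allP685 : pt.chkRange rels 0 844466 = true := PT.chkRange_join (lo := 0) (a := 843235) (b := 1231) _ allP684 Cfsg.Agent.Lib.TC.D.HNO.P685.ok
theorem allP686 : pt.chkRange rels 0 845697 = true := PT.chkRange_join (lo := 0) (a := 844466) (b := 1231) _ allP685 Cfsg.Agent.Lib.TC.D.HNO.P686.ok
theorem allP687 : pt.chkRange rels 0 846928 = true := PT.chkRange_join (lo := 0) (a := 845697) (b := 1231) _ allP686 Cfsg.Agent.Lib.TC.D.HNO.P687.ok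
theorem allP688 : pt.chkRange rels 0 848159 = true := PT.chkRange_join (lo := 0) (a := 846928) (b := 1231) _ allP687 Cfsg.Agent.Lib.TC.D.HNO.P688.ok
theorem allP689 : pt.chkRange rels 0 849390 = true := PT.chkRange_join (lo := 0) (a := 848159) (b := 1231) _ allP688 Cfsg.Agent.Lib.TC.D.HNO.P689.ok
theorem allP690 : pt.chkRange rels 0 850621 = true := PT.chkRange_join (lo := 0) (a := 849390) (b := 1231) _ allP689 Cfsg.Agent.Lib.TC.D.HNO.P690.ok
theorem allP691 : pt.chkRange rels 0 851852 = true := PT.chkRange_join (lo := 0) (a := 850621) (b := 1231) _ allP690 Cfsg.Agent.Lib.TC.D.HNO.P691.ok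
theorem allP692 : pt.chkRange rels 0 853083 = true := PT.chkRange_join (lo := 0) (a := 851852) (b := 1231) _ allP691 Cfsg.Agent.Lib.TC.D.HNO.P692.ok
theorem allP693 : pt.chkRange rels 0 854314 = true := PT.chkRange_join (lo := 0) (a := 853083) (b := 1231) _ allP692 Cfsg.Agent.Lib.TC.D.HNO.P693.ok
theorem allP694 : pt.chkRange rels 0 855545 = true := PT.chkRange_join (lo := 0) (a := 854314) (b := 1231) _ allP693 Cfsg.Agent.Lib.TC.D.HNO.P694.ok
theorem allP695 : pt.chkRange rels 0 856776 = true := PT.chkRange_join (lo := 0) (a := 855545) (b := 1231) _ allP694 Cfsg.Agent.Lib.TC.D.HNO.P695.ok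
theorem allP696 : pt.chkRange rels 0 858007 = true := PT.chkRange_join (lo := 0) (a := 856776) (b := 1231) _ allP695 Cfsg.Agent.Lib.TC.D.HNO.P696.ok
theorem allP697 : pt.chkRange rels 0 859238 = true := PT.chkRange_join (lo := 0) (a := 858007) (b := 1231) _ allP696 Cfsg.Agent.Lib.TC.D.HNO.P697.ok
theorem allP698 : pt.chkRange rels 0 860469 = true := PT.chkRange_join (lo := 0) (a := 859238) (b := 1231) _ allP697 Cfsg.Agent.Lib.TC.D.HNO.P698.ok
theorem allP699 : pt.chkRange rels 0 861700 = true := PT.chkRange_join (lo := 0) (a := 860469) (b := 1231) _ allP698 Cfsg.Agent.Lib.TC.D.HNO.P699.ok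
theorem allP700 : pt.chkRange rels 0 862931 = true := PT.chkRange_join (lo := 0) (a := 861700) (b := 1231) _ allP699 Cfsg.Agent.Lib.TC.D.HNO.P700.ok
theorem allP701 : pt.chkRange rels 0 864162 = true := PT.chkRange_join (lo := 0) (a := 862931) (b := 1231) _ allP700 Cfsg.Agent.Lib.TC.D.HNO.P701.ok
theorem allP702 : pt.chkRange rels 0 865393 = true := PT.chkRange_join (lo := 0) (a := 864162) (b := 1231) _ allP701 Cfsg.Agent.Lib.TC.D.HNO.P702.ok
theorem allP703 : pt.chkRange rels 0 866624 = true := PT.chkRange_join (lo := 0) (a := 865393) (b := 1231) _ allP702 Cfsg.Agent.Lib.TC.D.HNO.P703.ok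
theorem allP704 : pt.chkRange rels 0 867855 = true := PT.chkRange_join (lo := 0) (a := 866624) (b := 1231) _ allP703 Cfsg.Agent.Lib.TC.D.HNO.P704.ok
theorem allP705 : pt.chkRange rels 0 869086 = true := PT.chkRange_join (lo := 0) (a := 867855) (b := 1231) _ allP704 Cfsg.Agent.Lib.TC.D.HNO.P705.ok
theorem allP706 : pt.chkRange rels 0 870317 = true := PT.chkRange_join (lo := 0) (a := 869086) (b := 1231) _ allP705 Cfsg.Agent.Lib.TC.D.HNO.P706.ok
theorem allP707 : pt.chkRange rels 0 871548 = true := PT.chkRange_join (lo := 0) (a := 870317) (b := 1231) _ allP706 Cfsg.Agent.Lib.TC.D.HNO.P707.ok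
theorem allP708 : pt.chkRange rels 0 872779 = true := PT.chkRange_join (lo := 0) (a := 871548) (b := 1231) _ allP707 Cfsg.Agent.Lib.TC.D.HNO.P708.ok
theorem allP709 : pt.chkRange rels 0 874010 = true := PT.chkRange_join (lo := 0) (a := 872779) (b := 1231) _ allP708 Cfsg.Agent.Lib.TC.D.HNO.P709.ok
theorem allP710 : pt.chkRange rels 0 875241 = true := PT.chkRange_join (lo := 0) (a := 874010) (b := 1231) _ allP709 Cfsg.Agent.Lib.TC.D.HNO.P710.ok
theorem allP711 : pt.chkRange rels 0 876472 = true := PT.chkRange_join (lo := 0) (a := 875241) (b := 1231) _ allP710 Cfsg.Agent.Lib.TC.D.HNO.P711.ok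
theorem allP712 : pt.chkRange rels 0 877703 = true := PT.chkRange_join (lo := 0) (a := 876472) (b := 1231) _ allP711 Cfsg.Agent.Lib.TC.D.HNO.P712.ok
theorem allP713 : pt.chkRange rels 0 878934 = true := PT.chkRange_join (lo := 0) (a := 877703) (b := 1231) _ allP712 Cfsg.Agent.Lib.TC.D.HNO.P713.ok
theorem allP714 : pt.chkRange rels 0 880165 = true := PT.chkRange_join (lo := 0) (a := 878934) (b := 1231) _ allP713 Cfsg.Agent.Lib.TC.D.HNO.P714.ok
theorem allP715 : pt.chkRange rels 0 881396 = true := PT.chkRange_join (lo := 0) (a := 880165) (b := 1231) _ allP714 Cfsg.Agent.Lib.TC.D.HNO.P715.ok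
theorem allP716 : pt.chkRange rels 0 882627 = true := PT.chkRange_join (lo := 0) (a := 881396) (b := 1231) _ allP715 Cfsg.Agent.Lib.TC.D.HNO.P716.ok
theorem allP717 : pt.chkRange rels 0 883858 = true := PT.chkRange_join (lo := 0) (a := 882627) (b := 1231) _ allP716 Cfsg.Agent.Lib.TC.D.HNO.P717.ok
theorem allP718 : pt.chkRange rels 0 885089 = true := PT.chkRange_join (lo := 0) (a := 883858) (b := 1231) _ allP717 Cfsg.Agent.Lib.TC.D.HNO.P718.ok
theorem allP719 : pt.chkRange rels 0 886320 = true := PT.chkRange_join (lo := 0) (a := 885089) (b := 1231) _ allP718 Cfsg.Agent.Lib.TC.D.HNO.P719.ok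
theorem allP720 : pt.chkRange rels 0 887551 = true := PT.chkRange_join (lo := 0) (a := 886320) (b := 1231) _ allP719 Cfsg.Agent.Lib.TC.D.HNO.P720.ok
theorem allP721 : pt.chkRange rels 0 888782 = true := PT.chkRange_join (lo := 0) (a := 887551) (b := 1231) _ allP720 Cfsg.Agent.Lib.TC.D.HNO.P721.ok
theorem allP722 : pt.chkRange rels 0 890013 = true := PT.chkRange_join (lo := 0) (a := 888782) (b := 1231) _ allP721 Cfsg.Agent.Lib.TC.D.HNO.P722.ok
theorem allP723 : pt.chkRange rels 0 891244 = true := PT.chkRange_join (lo := 0) (a := 890013) (b := 1231) _ allP722 Cfsg.Agent.Lib.TC.D.HNO.P723.ok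
theorem allP724 : pt.chkRange rels 0 892475 = true := PT.chkRange_join (lo := 0) (a := 891244) (b := 1231) _ allP723 Cfsg.Agent.Lib.TC.D.HNO.P724.ok
theorem allP725 : pt.chkRange rels 0 893706 = true := PT.chkRange_join (lo := 0) (a := 892475) (b := 1231) _ allP724 Cfsg.Agent.Lib.TC.D.HNO.P725.ok
theorem allP726 : pt.chkRange rels 0 894937 = true := PT.chkRange_join (lo := 0) (a := 893706) (b := 1231) _ allP725 Cfsg.Agent.Lib.TC.D.HNO.P726.ok
theorem allP727 : pt.chkRange rels 0 896168 = true := PT.chkRange_join (lo := 0) (a := 894937) (b := 1231) _ allP726 Cfsg.Agent.Lib.TC.D.HNO.P727.ok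
theorem allP728 : pt.chkRange rels 0 897399 = true := PT.chkRange_join (lo := 0) (a := 896168) (b := 1231) _ allP727 Cfsg.Agent.Lib.TC.D.HNO.P728.ok
theorem allP729 : pt.chkRange rels 0 898630 = true := PT.chkRange_join (lo := 0) (a := 897399) (b := 1231) _ allP728 Cfsg.Agent.Lib.TC.D.HNO.P729.ok
theorem allP730 : pt.chkRange rels 0 899861 = true := PT.chkRange_join (lo := 0) (a := 898630) (b := 1231) _ allP729 Cfsg.Agent.Lib.TC.D.HNO.P730.ok
theorem allP731 : pt.chkRange rels 0 901092 = true := PT.chkRange_join (lo := 0) (a := 899861) (b := 1231) _ allP730 Cfsg.Agent.Lib.TC.D.HNO.P731.ok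
theorem allP732 : pt.chkRange rels 0 902323 = true := PT.chkRange_join (lo := 0) (a := 901092) (b := 1231) _ allP731 Cfsg.Agent.Lib.TC.D.HNO.P732.ok
theorem allP733 : pt.chkRange rels 0 903554 = true := PT.chkRange_join (lo := 0) (a := 902323) (b := 1231) _ allP732 Cfsg.Agent.Lib.TC.D.HNO.P733.ok
theorem allP734 : pt.chkRange rels 0 904785 = true := PT.chkRange_join (lo := 0) (a := 903554) (b := 1231) _ allP733 Cfsg.Agent.Lib.TC.D.HNO.P734.ok
theorem allP735 : pt.chkRange rels 0 906016 = true := PT.chkRange_join (lo := 0) (a := 904785) (b := 1231) _ allP734 Cfsg.Agent.Lib.TC.D.HNO.P735.ok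
theorem allP736 : pt.chkRange rels 0 907247 = true := PT.chkRange_join (lo := 0) (a := 906016) (b := 1231) _ allP735 Cfsg.Agent.Lib.TC.D.HNO.P736.ok
theorem allP737 : pt.chkRange rels 0 908478 = true := PT.chkRange_join (lo := 0) (a := 907247) (b := 1231) _ allP736 Cfsg.Agent.Lib.TC.D.HNO.P737.ok
theorem allP738 : pt.chkRange rels 0 909709 = true := PT.chkRange_join (lo := 0) (a := 908478) (b := 1231) _ allP737 Cfsg.Agent.Lib.TC.D.HNO.P738.ok
theorem allP739 : pt.chkRange rels 0 910940 = true := PT.chkRange_join (lo := 0) (a := 909709) (b := 1231) _ allP738 Cfsg.Agent.Lib.TC.D.HNO.P739.ok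
theorem allP740 : pt.chkRange rels 0 912171 = true := PT.chkRange_join (lo := 0) (a := 910940) (b := 1231) _ allP739 Cfsg.Agent.Lib.TC.D.HNO.P740.ok
theorem allP741 : pt.chkRange rels 0 913402 = true := PT.chkRange_join (lo := 0) (a := 912171) (b := 1231) _ allP740 Cfsg.Agent.Lib.TC.D.HNO.P741.ok
theorem allP742 : pt.chkRange rels 0 914633 = true := PT.chkRange_join (lo := 0) (a := 913402) (b := 1231) _ allP741 Cfsg.Agent.Lib.TC.D.HNO.P742.ok
theorem allP743 : pt.chkRange rels 0 915864 = true := PT.chkRange_join (lo := 0) (a := 914633) (b := 1231) _ allP742 Cfsg.Agent.Lib.TC.D.HNO.P743.ok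
theorem allP744 : pt.chkRange rels 0 917095 = true := PT.chkRange_join (lo := 0) (a := 915864) (b := 1231) _ allP743 Cfsg.Agent.Lib.TC.D.HNO.P744.ok
theorem allP745 : pt.chkRange rels 0 918326 = true := PT.chkRange_join (lo := 0) (a := 917095) (b := 1231) _ allP744 Cfsg.Agent.Lib.TC.D.HNO.P745.ok
theorem allP746 : pt.chkRange rels 0 919557 = true := PT.chkRange_join (lo := 0) (a := 918326) (b := 1231) _ allP745 Cfsg.Agent.Lib.TC.D.HNO.P746.ok
theorem allP747 : pt.chkRange rels 0 920788 = true := PT.chkRange_join (lo := 0) (a := 919557) (b := 1231) _ allP746 Cfsg.Agent.Lib.TC.D.HNO.P747.ok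
theorem allP748 : pt.chkRange rels 0 922019 = true := PT.chkRange_join (lo := 0) (a := 920788) (b := 1231) _ allP747 Cfsg.Agent.Lib.TC.D.HNO.P748.ok
theorem allP749 : pt.chkRange rels 0 923250 = true := PT.chkRange_join (lo := 0) (a := 922019) (b := 1231) _ allP748 Cfsg.Agent.Lib.TC.D.HNO.P749.ok
theorem allP750 : pt.chkRange rels 0 924481 = true := PT.chkRange_join (lo := 0) (a := 923250) (b := 1231) _ allP749 Cfsg.Agent.Lib.TC.D.HNO.P750.ok
theorem allP751 : pt.chkRange rels 0 925712 = true := PT.chkRange_join (lo := 0) (a := 924481) (b := 1231) _ allP750 Cfsg.Agent.Lib.TC.D.HNO.P751.ok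
theorem allP752 : pt.chkRange rels 0 926943 = true := PT.chkRange_join (lo := 0) (a := 925712) (b := 1231) _ allP751 Cfsg.Agent.Lib.TC.D.HNO.P752.ok
theorem allP753 : pt.chkRange rels 0 928174 = true := PT.chkRange_join (lo := 0) (a := 926943) (b := 1231) _ allP752 Cfsg.Agent.Lib.TC.D.HNO.P753.ok
theorem allP754 : pt.chkRange rels 0 929405 = true := PT.chkRange_join (lo := 0) (a := 928174) (b := 1231) _ allP753 Cfsg.Agent.Lib.TC.D.HNO.P754.ok
theorem allP755 : pt.chkRange rels 0 930636 = true := PT.chkRange_join (lo := 0) (a := 929405) (b := 1231) _ allP754 Cfsg.Agent.Lib.TC.D.HNO.P755.ok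
theorem allP756 : pt.chkRange rels 0 931867 = true := PT.chkRange_join (lo := 0) (a := 930636) (b := 1231) _ allP755 Cfsg.Agent.Lib.TC.D.HNO.P756.ok
theorem allP757 : pt.chkRange rels 0 933098 = true := PT.chkRange_join (lo := 0) (a := 931867) (b := 1231) _ allP756 Cfsg.Agent.Lib.TC.D.HNO.P757.ok
theorem allP758 : pt.chkRange rels 0 934329 = true := PT.chkRange_join (lo := 0) (a := 933098) (b := 1231) _ allP757 Cfsg.Agent.Lib.TC.D.HNO.P758.ok
theorem allP759 : pt.chkRange rels 0 935560 = true := PT.chkRange_join (lo := 0) (a := 934329) (b := 1231) _ allP758 Cfsg.Agent.Lib.TC.D.HNO.P759.ok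
theorem allP760 : pt.chkRange rels 0 936791 = true := PT.chkRange_join (lo := 0) (a := 935560) (b := 1231) _ allP759 Cfsg.Agent.Lib.TC.D.HNO.P760.ok
theorem allP761 : pt.chkRange rels 0 938022 = true := PT.chkRange_join (lo := 0) (a := 936791) (b := 1231) _ allP760 Cfsg.Agent.Lib.TC.D.HNO.P761.ok
theorem allP762 : pt.chkRange rels 0 939253 = true := PT.chkRange_join (lo := 0) (a := 938022) (b := 1231) _ allP761 Cfsg.Agent.Lib.TC.D.HNO.P762.ok
theorem allP763 : pt.chkRange rels 0 940484 = true := PT.chkRange_join (lo := 0) (a := 939253) (b := 1231) _ allP762 Cfsg.Agent.Lib.TC.D.HNO.P763.ok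
theorem allP764 : pt.chkRange rels 0 941715 = true := PT.chkRange_join (lo := 0) (a := 940484) (b := 1231) _ allP763 Cfsg.Agent.Lib.TC.D.HNO.P764.ok
theorem allP765 : pt.chkRange rels 0 942946 = true := PT.chkRange_join (lo := 0) (a := 941715) (b := 1231) _ allP764 Cfsg.Agent.Lib.TC.D.HNO.P765.ok
theorem allP766 : pt.chkRange rels 0 944177 = true := PT.chkRange_join (lo := 0) (a := 942946) (b := 1231) _ allP765 Cfsg.Agent.Lib.TC.D.HNO.P766.ok
theorem allP767 : pt.chkRange rels 0 945408 = true := PT.chkRange_join (lo := 0) (a := 944177) (b := 1231) _ allP766 Cfsg.Agent.Lib.TC.D.HNO.P767.ok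
theorem allP768 : pt.chkRange rels 0 946639 = true := PT.chkRange_join (lo := 0) (a := 945408) (b := 1231) _ allP767 Cfsg.Agent.Lib.TC.D.HNO.P768.ok
theorem allP769 : pt.chkRange rels 0 947870 = true := PT.chkRange_join (lo := 0) (a := 946639) (b := 1231) _ allP768 Cfsg.Agent.Lib.TC.D.HNO.P769.ok
theorem allP770 : pt.chkRange rels 0 949101 = true := PT.chkRange_join (lo := 0) (a := 947870) (b := 1231) _ allP769 Cfsg.Agent.Lib.TC.D.HNO.P770.ok
theorem allP771 : pt.chkRange rels 0 950332 = true := PT.chkRange_join (lo := 0) (a := 949101) (b := 1231) _ allP770 Cfsg.Agent.Lib.TC.D.HNO.P771.ok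
theorem allP772 : pt.chkRange rels 0 951563 = true := PT.chkRange_join (lo := 0) (a := 950332) (b := 1231) _ allP771 Cfsg.Agent.Lib.TC.D.HNO.P772.ok
theorem allP773 : pt.chkRange rels 0 952794 = true := PT.chkRange_join (lo := 0) (a := 951563) (b := 1231) _ allP772 Cfsg.Agent.Lib.TC.D.HNO.P773.ok
theorem allP774 : pt.chkRange rels 0 954025 = true := PT.chkRange_join (lo := 0) (a := 952794) (b := 1231) _ allP773 Cfsg.Agent.Lib.TC.D.HNO.P774.ok
theorem allP775 : pt.chkRange rels 0 955256 = true := PT.chkRange_join (lo := 0) (a := 954025) (b := 1231) _ allP774 Cfsg.Agent.Lib.TC.D.HNO.P775.ok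
theorem allP776 : pt.chkRange rels 0 956487 = true := PT.chkRange_join (lo := 0) (a := 955256) (b := 1231) _ allP775 Cfsg.Agent.Lib.TC.D.HNO.P776.ok
theorem allP777 : pt.chkRange rels 0 957718 = true := PT.chkRange_join (lo := 0) (a := 956487) (b := 1231) _ allP776 Cfsg.Agent.Lib.TC.D.HNO.P777.ok
theorem allP778 : pt.chkRange rels 0 958949 = true := PT.chkRange_join (lo := 0) (a := 957718) (b := 1231) _ allP777 Cfsg.Agent.Lib.TC.D.HNO.P778.ok
theorem allP779 : pt.chkRange rels 0 960180 = true := PT.chkRange_join (lo := 0) (a := 958949) (b := 1231) _ allP778 Cfsg.Agent.Lib.TC.D.HNO.P779.ok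
theorem allP780 : pt.chkRange rels 0 961411 = true := PT.chkRange_join (lo := 0) (a := 960180) (b := 1231) _ allP779 Cfsg.Agent.Lib.TC.D.HNO.P780.ok
theorem allP781 : pt.chkRange rels 0 962642 = true := PT.chkRange_join (lo := 0) (a := 961411) (b := 1231) _ allP780 Cfsg.Agent.Lib.TC.D.HNO.P781.ok
theorem allP782 : pt.chkRange rels 0 963873 = true := PT.chkRange_join (lo := 0) (a := 962642) (b := 1231) _ allP781 Cfsg.Agent.Lib.TC.D.HNO.P782.ok
theorem allP783 : pt.chkRange rels 0 965104 = true := PT.chkRange_join (lo := 0) (a := 963873) (b := 1231) _ allP782 Cfsg.Agent.Lib.TC.D.HNO.P783.ok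
theorem allP784 : pt.chkRange rels 0 966335 = true := PT.chkRange_join (lo := 0) (a := 965104) (b := 1231) _ allP783 Cfsg.Agent.Lib.TC.D.HNO.P784.ok
theorem allP785 : pt.chkRange rels 0 967566 = true := PT.chkRange_join (lo := 0) (a := 966335) (b := 1231) _ allP784 Cfsg.Agent.Lib.TC.D.HNO.P785.ok
theorem allP786 : pt.chkRange rels 0 968797 = true := PT.chkRange_join (lo := 0) (a := 967566) (b := 1231) _ allP785 Cfsg.Agent.Lib.TC.D.HNO.P786.ok
theorem allP787 : pt.chkRange rels 0 970028 = true := PT.chkRange_join (lo := 0) (a := 968797) (b := 1231) _ allP786 Cfsg.Agent.Lib.TC.D.HNO.P787.ok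
theorem allP788 : pt.chkRange rels 0 971259 = true := PT.chkRange_join (lo := 0) (a := 970028) (b := 1231) _ allP787 Cfsg.Agent.Lib.TC.D.HNO.P788.ok
theorem allP789 : pt.chkRange rels 0 972490 = true := PT.chkRange_join (lo := 0) (a := 971259) (b := 1231) _ allP788 Cfsg.Agent.Lib.TC.D.HNO.P789.ok
theorem allP790 : pt.chkRange rels 0 973721 = true := PT.chkRange_join (lo := 0) (a := 972490) (b := 1231) _ allP789 Cfsg.Agent.Lib.TC.D.HNO.P790.ok
theorem allP791 : pt.chkRange rels 0 974952 = true := PT.chkRange_join (lo := 0) (a := 973721) (b := 1231) _ allP790 Cfsg.Agent.Lib.TC.D.HNO.P791.ok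
theorem allP792 : pt.chkRange rels 0 976183 = true := PT.chkRange_join (lo := 0) (a := 974952) (b := 1231) _ allP791 Cfsg.Agent.Lib.TC.D.HNO.P792.ok
theorem allP793 : pt.chkRange rels 0 977414 = true := PT.chkRange_join (lo := 0) (a := 976183) (b := 1231) _ allP792 Cfsg.Agent.Lib.TC.D.HNO.P793.ok
theorem allP794 : pt.chkRange rels 0 978645 = true := PT.chkRange_join (lo := 0) (a := 977414) (b := 1231) _ allP793 Cfsg.Agent.Lib.TC.D.HNO.P794.ok
theorem allP795 : pt.chkRange rels 0 979876 = true := PT.chkRange_join (lo := 0) (a := 978645) (b := 1231) _ allP794 Cfsg.Agent.Lib.TC.D.HNO.P795.ok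
theorem allP796 : pt.chkRange rels 0 981107 = true := PT.chkRange_join (lo := 0) (a := 979876) (b := 1231) _ allP795 Cfsg.Agent.Lib.TC.D.HNO.P796.ok
theorem allP797 : pt.chkRange rels 0 982338 = true := PT.chkRange_join (lo := 0) (a := 981107) (b := 1231) _ allP796 Cfsg.Agent.Lib.TC.D.HNO.P797.ok
theorem allP798 : pt.chkRange rels 0 983569 = true := PT.chkRange_join (lo := 0) (a := 982338) (b := 1231) _ allP797 Cfsg.Agent.Lib.TC.D.HNO.P798.ok
theorem allP799 : pt.chkRange rels 0 984800 = true := PT.chkRange_join (lo := 0) (a := 983569) (b := 1231) _ allP798 Cfsg.Agent.Lib.TC.D.HNO.P799.ok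
theorem allP800 : pt.chkRange rels 0 986031 = true := PT.chkRange_join (lo := 0) (a := 984800) (b := 1231) _ allP799 Cfsg.Agent.Lib.TC.D.HNO.P800.ok
theorem allP801 : pt.chkRange rels 0 987262 = true := PT.chkRange_join (lo := 0) (a := 986031) (b := 1231) _ allP800 Cfsg.Agent.Lib.TC.D.HNO.P801.ok
theorem allP802 : pt.chkRange rels 0 988493 = true := PT.chkRange_join (lo := 0) (a := 987262) (b := 1231) _ allP801 Cfsg.Agent.Lib.TC.D.HNO.P802.ok
theorem allP803 : pt.chkRange rels 0 989724 = true := PT.chkRange_join (lo := 0) (a := 988493) (b := 1231) _ allP802 Cfsg.Agent.Lib.TC.D.HNO.P803.ok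
theorem allP804 : pt.chkRange rels 0 990955 = true := PT.chkRange_join (lo := 0) (a := 989724) (b := 1231) _ allP803 Cfsg.Agent.Lib.TC.D.HNO.P804.ok
theorem allP805 : pt.chkRange rels 0 992186 = true := PT.chkRange_join (lo := 0) (a := 990955) (b := 1231) _ allP804 Cfsg.Agent.Lib.TC.D.HNO.P805.ok
theorem allP806 : pt.chkRange rels 0 993417 = true := PT.chkRange_join (lo := 0) (a := 992186) (b := 1231) _ allP805 Cfsg.Agent.Lib.TC.D.HNO.P806.ok
theorem allP807 : pt.chkRange rels 0 994648 = true := PT.chkRange_join (lo := 0) (a := 993417) (b := 1231) _ allP806 Cfsg.Agent.Lib.TC.D.HNO.P807.ok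
theorem allP808 : pt.chkRange rels 0 995879 = true := PT.chkRange_join (lo := 0) (a := 994648) (b := 1231) _ allP807 Cfsg.Agent.Lib.TC.D.HNO.P808.ok
theorem allP809 : pt.chkRange rels 0 997110 = true := PT.chkRange_join (lo := 0) (a := 995879) (b := 1231) _ allP808 Cfsg.Agent.Lib.TC.D.HNO.P809.ok
theorem allP810 : pt.chkRange rels 0 998341 = true := PT.chkRange_join (lo := 0) (a := 997110) (b := 1231) _ allP809 Cfsg.Agent.Lib.TC.D.HNO.P810.ok
theorem allP811 : pt.chkRange rels 0 999572 = true := PT.chkRange_join (lo := 0) (a := 998341) (b := 1231) _ allP810 Cfsg.Agent.Lib.TC.D.HNO.P811.ok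
theorem allP812 : pt.chkRange rels 0 1000803 = true := PT.chkRange_join (lo := 0) (a := 999572) (b := 1231) _ allP811 Cfsg.Agent.Lib.TC.D.HNO.P812.ok
theorem allP813 : pt.chkRange rels 0 1002034 = true := PT.chkRange_join (lo := 0) (a := 1000803) (b := 1231) _ allP812 Cfsg.Agent.Lib.TC.D.HNO.P813.ok
theorem allP814 : pt.chkRange rels 0 1003265 = true := PT.chkRange_join (lo := 0) (a := 1002034) (b := 1231) _ allP813 Cfsg.Agent.Lib.TC.D.HNO.P814.ok
theorem allP815 : pt.chkRange rels 0 1004496 = true := PT.chkRange_join (lo := 0) (a := 1003265) (b := 1231) _ allP814 Cfsg.Agent.Lib.TC.D.HNO.P815.ok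
theorem allP816 : pt.chkRange rels 0 1005727 = true := PT.chkRange_join (lo := 0) (a := 1004496) (b := 1231) _ allP815 Cfsg.Agent.Lib.TC.D.HNO.P816.ok
theorem allP817 : pt.chkRange rels 0 1006958 = true := PT.chkRange_join (lo := 0) (a := 1005727) (b := 1231) _ allP816 Cfsg.Agent.Lib.TC.D.HNO.P817.ok
theorem allP818 : pt.chkRange rels 0 1008189 = true := PT.chkRange_join (lo := 0) (a := 1006958) (b := 1231) _ allP817 Cfsg.Agent.Lib.TC.D.HNO.P818.ok
theorem allP819 : pt.chkRange rels 0 1009420 = true := PT.chkRange_join (lo := 0) (a := 1008189) (b := 1231) _ allP818 Cfsg.Agent.Lib.TC.D.HNO.P819.ok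
theorem allP820 : pt.chkRange rels 0 1010651 = true := PT.chkRange_join (lo := 0) (a := 1009420) (b := 1231) _ allP819 Cfsg.Agent.Lib.TC.D.HNO.P820.ok
theorem allP821 : pt.chkRange rels 0 1011882 = true := PT.chkRange_join (lo := 0) (a := 1010651) (b := 1231) _ allP820 Cfsg.Agent.Lib.TC.D.HNO.P821.ok
theorem allP822 : pt.chkRange rels 0 1013113 = true := PT.chkRange_join (lo := 0) (a := 1011882) (b := 1231) _ allP821 Cfsg.Agent.Lib.TC.D.HNO.P822.ok
theorem allP823 : pt.chkRange rels 0 1014344 = true := PT.chkRange_join (lo := 0) (a := 1013113) (b := 1231) _ allP822 Cfsg.Agent.Lib.TC.D.HNO.P823.ok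
theorem allP824 : pt.chkRange rels 0 1015575 = true := PT.chkRange_join (lo := 0) (a := 1014344) (b := 1231) _ allP823 Cfsg.Agent.Lib.TC.D.HNO.P824.ok
theorem allP825 : pt.chkRange rels 0 1016806 = true := PT.chkRange_join (lo := 0) (a := 1015575) (b := 1231) _ allP824 Cfsg.Agent.Lib.TC.D.HNO.P825.ok
theorem allP826 : pt.chkRange rels 0 1018037 = true := PT.chkRange_join (lo := 0) (a := 1016806) (b := 1231) _ allP825 Cfsg.Agent.Lib.TC.D.HNO.P826.ok
theorem allP827 : pt.chkRange rels 0 1019268 = true := PT.chkRange_join (lo := 0) (a := 1018037) (b := 1231) _ allP826 Cfsg.Agent.Lib.TC.D.HNO.P827.ok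
theorem allP828 : pt.chkRange rels 0 1020499 = true := PT.chkRange_join (lo := 0) (a := 1019268) (b := 1231) _ allP827 Cfsg.Agent.Lib.TC.D.HNO.P828.ok
theorem allP829 : pt.chkRange rels 0 1021730 = true := PT.chkRange_join (lo := 0) (a := 1020499) (b := 1231) _ allP828 Cfsg.Agent.Lib.TC.D.HNO.P829.ok
theorem allP830 : pt.chkRange rels 0 1022961 = true := PT.chkRange_join (lo := 0) (a := 1021730) (b := 1231) _ allP829 Cfsg.Agent.Lib.TC.D.HNO.P830.ok
theorem allP831 : pt.chkRange rels 0 1024192 = true := PT.chkRange_join (lo := 0) (a := 1022961) (b := 1231) _ allP830 Cfsg.Agent.Lib.TC.D.HNO.P831.ok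
theorem allP832 : pt.chkRange rels 0 1025423 = true := PT.chkRange_join (lo := 0) (a := 1024192) (b := 1231) _ allP831 Cfsg.Agent.Lib.TC.D.HNO.P832.ok
theorem allP833 : pt.chkRange rels 0 1026654 = true := PT.chkRange_join (lo := 0) (a := 1025423) (b := 1231) _ allP832 Cfsg.Agent.Lib.TC.D.HNO.P833.ok
theorem allP834 : pt.chkRange rels 0 1027885 = true := PT.chkRange_join (lo := 0) (a := 1026654) (b := 1231) _ allP833 Cfsg.Agent.Lib.TC.D.HNO.P834.ok
theorem allP835 : pt.chkRange rels 0 1029116 = true := PT.chkRange_join (lo := 0) (a := 1027885) (b := 1231) _ allP834 Cfsg.Agent.Lib.TC.D.HNO.P835.ok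
theorem allP836 : pt.chkRange rels 0 1030347 = true := PT.chkRange_join (lo := 0) (a := 1029116) (b := 1231) _ allP835 Cfsg.Agent.Lib.TC.D.HNO.P836.ok
theorem allP837 : pt.chkRange rels 0 1031578 = true := PT.chkRange_join (lo := 0) (a := 1030347) (b := 1231) _ allP836 Cfsg.Agent.Lib.TC.D.HNO.P837.ok
theorem allP838 : pt.chkRange rels 0 1032809 = true := PT.chkRange_join (lo := 0) (a := 1031578) (b := 1231) _ allP837 Cfsg.Agent.Lib.TC.D.HNO.P838.ok
theorem allP839 : pt.chkRange rels 0 1034040 = true := PT.chkRange_join (lo := 0) (a := 1032809) (b := 1231) _ allP838 Cfsg.Agent.Lib.TC.D.HNO.P839.ok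
theorem allP840 : pt.chkRange rels 0 1035271 = true := PT.chkRange_join (lo := 0) (a := 1034040) (b := 1231) _ allP839 Cfsg.Agent.Lib.TC.D.HNO.P840.ok
theorem allP841 : pt.chkRange rels 0 1036502 = true := PT.chkRange_join (lo := 0) (a := 1035271) (b := 1231) _ allP840 Cfsg.Agent.Lib.TC.D.HNO.P841.ok
theorem allP842 : pt.chkRange rels 0 1037733 = true := PT.chkRange_join (lo := 0) (a := 1036502) (b := 1231) _ allP841 Cfsg.Agent.Lib.TC.D.HNO.P842.ok
theorem allP843 : pt.chkRange rels 0 1038964 = true := PT.chkRange_join (lo := 0) (a := 1037733) (b := 1231) _ allP842 Cfsg.Agent.Lib.TC.D.HNO.P843.ok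
theorem allP844 : pt.chkRange rels 0 1040195 = true := PT.chkRange_join (lo := 0) (a := 1038964) (b := 1231) _ allP843 Cfsg.Agent.Lib.TC.D.HNO.P844.ok
theorem allP845 : pt.chkRange rels 0 1041426 = true := PT.chkRange_join (lo := 0) (a := 1040195) (b := 1231) _ allP844 Cfsg.Agent.Lib.TC.D.HNO.P845.ok
theorem allP846 : pt.chkRange rels 0 1042657 = true := PT.chkRange_join (lo := 0) (a := 1041426) (b := 1231) _ allP845 Cfsg.Agent.Lib.TC.D.HNO.P846.ok
theorem allP847 : pt.chkRange rels 0 1043888 = true := PT.chkRange_join (lo := 0) (a := 1042657) (b := 1231) _ allP846 Cfsg.Agent.Lib.TC.D.HNO.P847.ok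
theorem allP848 : pt.chkRange rels 0 1045119 = true := PT.chkRange_join (lo := 0) (a := 1043888) (b := 1231) _ allP847 Cfsg.Agent.Lib.TC.D.HNO.P848.ok
theorem allP849 : pt.chkRange rels 0 1046350 = true := PT.chkRange_join (lo := 0) (a := 1045119) (b := 1231) _ allP848 Cfsg.Agent.Lib.TC.D.HNO.P849.ok
theorem allP850 : pt.chkRange rels 0 1047581 = true := PT.chkRange_join (lo := 0) (a := 1046350) (b := 1231) _ allP849 Cfsg.Agent.Lib.TC.D.HNO.P850.ok
theorem allP851 : pt.chkRange rels 0 1048812 = true := PT.chkRange_join (lo := 0) (a := 1047581) (b := 1231) _ allP850 Cfsg.Agent.Lib.TC.D.HNO.P851.ok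
theorem allP852 : pt.chkRange rels 0 1050043 = true := PT.chkRange_join (lo := 0) (a := 1048812) (b := 1231) _ allP851 Cfsg.Agent.Lib.TC.D.HNO.P852.ok
theorem allP853 : pt.chkRange rels 0 1051274 = true := PT.chkRange_join (lo := 0) (a := 1050043) (b := 1231) _ allP852 Cfsg.Agent.Lib.TC.D.HNO.P853.ok
theorem allP854 : pt.chkRange rels 0 1052505 = true := PT.chkRange_join (lo := 0) (a := 1051274) (b := 1231) _ allP853 Cfsg.Agent.Lib.TC.D.HNO.P854.ok
theorem allP855 : pt.chkRange rels 0 1053736 = true := PT.chkRange_join (lo := 0) (a := 1052505) (b := 1231) _ allP854 Cfsg.Agent.Lib.TC.D.HNO.P855.ok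
theorem allP856 : pt.chkRange rels 0 1054967 = true := PT.chkRange_join (lo := 0) (a := 1053736) (b := 1231) _ allP855 Cfsg.Agent.Lib.TC.D.HNO.P856.ok
theorem allP857 : pt.chkRange rels 0 1056198 = true := PT.chkRange_join (lo := 0) (a := 1054967) (b := 1231) _ allP856 Cfsg.Agent.Lib.TC.D.HNO.P857.ok
theorem allP858 : pt.chkRange rels 0 1057429 = true := PT.chkRange_join (lo := 0) (a := 1056198) (b := 1231) _ allP857 Cfsg.Agent.Lib.TC.D.HNO.P858.ok
theorem allP859 : pt.chkRange rels 0 1058660 = true := PT.chkRange_join (lo := 0) (a := 1057429) (b := 1231) _ allP858 Cfsg.Agent.Lib.TC.D.HNO.P859.ok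
theorem allP860 : pt.chkRange rels 0 1059891 = true := PT.chkRange_join (lo := 0) (a := 1058660) (b := 1231) _ allP859 Cfsg.Agent.Lib.TC.D.HNO.P860.ok
theorem allP861 : pt.chkRange rels 0 1061122 = true := PT.chkRange_join (lo := 0) (a := 1059891) (b := 1231) _ allP860 Cfsg.Agent.Lib.TC.D.HNO.P861.ok
theorem allP862 : pt.chkRange rels 0 1062353 = true := PT.chkRange_join (lo := 0) (a := 1061122) (b := 1231) _ allP861 Cfsg.Agent.Lib.TC.D.HNO.P862.ok
theorem allP863 : pt.chkRange rels 0 1063584 = true := PT.chkRange_join (lo := 0) (a := 1062353) (b := 1231) _ allP862 Cfsg.Agent.Lib.TC.D.HNO.P863.ok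
theorem allP864 : pt.chkRange rels 0 1064815 = true := PT.chkRange_join (lo := 0) (a := 1063584) (b := 1231) _ allP863 Cfsg.Agent.Lib.TC.D.HNO.P864.ok
theorem allP865 : pt.chkRange rels 0 1066046 = true := PT.chkRange_join (lo := 0) (a := 1064815) (b := 1231) _ allP864 Cfsg.Agent.Lib.TC.D.HNO.P865.ok
theorem allP866 : pt.chkRange rels 0 1067277 = true := PT.chkRange_join (lo := 0) (a := 1066046) (b := 1231) _ allP865 Cfsg.Agent.Lib.TC.D.HNO.P866.ok
theorem allP867 : pt.chkRange rels 0 1068508 = true := PT.chkRange_join (lo := 0) (a := 1067277) (b := 1231) _ allP866 Cfsg.Agent.Lib.TC.D.HNO.P867.ok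
theorem allP868 : pt.chkRange rels 0 1069739 = true := PT.chkRange_join (lo := 0) (a := 1068508) (b := 1231) _ allP867 Cfsg.Agent.Lib.TC.D.HNO.P868.ok
theorem allP869 : pt.chkRange rels 0 1070970 = true := PT.chkRange_join (lo := 0) (a := 1069739) (b := 1231) _ allP868 Cfsg.Agent.Lib.TC.D.HNO.P869.ok
theorem allP870 : pt.chkRange rels 0 1072201 = true := PT.chkRange_join (lo := 0) (a := 1070970) (b := 1231) _ allP869 Cfsg.Agent.Lib.TC.D.HNO.P870.ok
theorem allP871 : pt.chkRange rels 0 1073432 = true := PT.chkRange_join (lo := 0) (a := 1072201) (b := 1231) _ allP870 Cfsg.Agent.Lib.TC.D.HNO.P871.ok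
theorem allP872 : pt.chkRange rels 0 1074663 = true := PT.chkRange_join (lo := 0) (a := 1073432) (b := 1231) _ allP871 Cfsg.Agent.Lib.TC.D.HNO.P872.ok
theorem allP873 : pt.chkRange rels 0 1075894 = true := PT.chkRange_join (lo := 0) (a := 1074663) (b := 1231) _ allP872 Cfsg.Agent.Lib.TC.D.HNO.P873.ok
theorem allP874 : pt.chkRange rels 0 1077125 = true := PT.chkRange_join (lo := 0) (a := 1075894) (b := 1231) _ allP873 Cfsg.Agent.Lib.TC.D.HNO.P874.ok
theorem allP875 : pt.chkRange rels 0 1078356 = true := PT.chkRange_join (lo := 0) (a := 1077125) (b := 1231) _ allP874 Cfsg.Agent.Lib.TC.D.HNO.P875.ok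
theorem allP876 : pt.chkRange rels 0 1079587 = true := PT.chkRange_join (lo := 0) (a := 1078356) (b := 1231) _ allP875 Cfsg.Agent.Lib.TC.D.HNO.P876.ok
theorem allP877 : pt.chkRange rels 0 1080818 = true := PT.chkRange_join (lo := 0) (a := 1079587) (b := 1231) _ allP876 Cfsg.Agent.Lib.TC.D.HNO.P877.ok
theorem allP878 : pt.chkRange rels 0 1082049 = true := PT.chkRange_join (lo := 0) (a := 1080818) (b := 1231) _ allP877 Cfsg.Agent.Lib.TC.D.HNO.P878.ok
theorem allP879 : pt.chkRange rels 0 1083280 = true := PT.chkRange_join (lo := 0) (a := 1082049) (b := 1231) _ allP878 Cfsg.Agent.Lib.TC.D.HNO.P879.ok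
theorem allP880 : pt.chkRange rels 0 1084511 = true := PT.chkRange_join (lo := 0) (a := 1083280) (b := 1231) _ allP879 Cfsg.Agent.Lib.TC.D.HNO.P880.ok
theorem allP881 : pt.chkRange rels 0 1085742 = true := PT.chkRange_join (lo := 0) (a := 1084511) (b := 1231) _ allP880 Cfsg.Agent.Lib.TC.D.HNO.P881.ok
theorem allP882 : pt.chkRange rels 0 1086973 = true := PT.chkRange_join (lo := 0) (a := 1085742) (b := 1231) _ allP881 Cfsg.Agent.Lib.TC.D.HNO.P882.ok
theorem allP883 : pt.chkRange rels 0 1088204 = true := PT.chkRange_join (lo := 0) (a := 1086973) (b := 1231) _ allP882 Cfsg.Agent.Lib.TC.D.HNO.P883.ok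
theorem allP884 : pt.chkRange rels 0 1089435 = true := PT.chkRange_join (lo := 0) (a := 1088204) (b := 1231) _ allP883 Cfsg.Agent.Lib.TC.D.HNO.P884.ok
theorem allP885 : pt.chkRange rels 0 1090666 = true := PT.chkRange_join (lo := 0) (a := 1089435) (b := 1231) _ allP884 Cfsg.Agent.Lib.TC.D.HNO.P885.ok
theorem allP886 : pt.chkRange rels 0 1091897 = true := PT.chkRange_join (lo := 0) (a := 1090666) (b := 1231) _ allP885 Cfsg.Agent.Lib.TC.D.HNO.P886.ok
theorem allP887 : pt.chkRange rels 0 1093128 = true := PT.chkRange_join (lo := 0) (a := 1091897) (b := 1231) _ allP886 Cfsg.Agent.Lib.TC.D.HNO.P887.ok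
theorem allP888 : pt.chkRange rels 0 1094359 = true := PT.chkRange_join (lo := 0) (a := 1093128) (b := 1231) _ allP887 Cfsg.Agent.Lib.TC.D.HNO.P888.ok
theorem allP889 : pt.chkRange rels 0 1095590 = true := PT.chkRange_join (lo := 0) (a := 1094359) (b := 1231) _ allP888 Cfsg.Agent.Lib.TC.D.HNO.P889.ok
theorem allP890 : pt.chkRange rels 0 1096821 = true := PT.chkRange_join (lo := 0) (a := 1095590) (b := 1231) _ allP889 Cfsg.Agent.Lib.TC.D.HNO.P890.ok
theorem allP891 : pt.chkRange rels 0 1098052 = true := PT.chkRange_join (lo := 0) (a := 1096821) (b := 1231) _ allP890 Cfsg.Agent.Lib.TC.D.HNO.P891.ok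
theorem allP892 : pt.chkRange rels 0 1099283 = true := PT.chkRange_join (lo := 0) (a := 1098052) (b := 1231) _ allP891 Cfsg.Agent.Lib.TC.D.HNO.P892.ok
theorem allP893 : pt.chkRange rels 0 1100514 = true := PT.chkRange_join (lo := 0) (a := 1099283) (b := 1231) _ allP892 Cfsg.Agent.Lib.TC.D.HNO.P893.ok
theorem allP894 : pt.chkRange rels 0 1101745 = true := PT.chkRange_join (lo := 0) (a := 1100514) (b := 1231) _ allP893 Cfsg.Agent.Lib.TC.D.HNO.P894.ok
theorem allP895 : pt.chkRange rels 0 1102976 = true := PT.chkRange_join (lo := 0) (a := 1101745) (b := 1231) _ allP894 Cfsg.Agent.Lib.TC.D.HNO.P895.ok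
theorem allP896 : pt.chkRange rels 0 1104207 = true := PT.chkRange_join (lo := 0) (a := 1102976) (b := 1231) _ allP895 Cfsg.Agent.Lib.TC.D.HNO.P896.ok
theorem allP897 : pt.chkRange rels 0 1105438 = true := PT.chkRange_join (lo := 0) (a := 1104207) (b := 1231) _ allP896 Cfsg.Agent.Lib.TC.D.HNO.P897.ok
theorem allP898 : pt.chkRange rels 0 1106669 = true := PT.chkRange_join (lo := 0) (a := 1105438) (b := 1231) _ allP897 Cfsg.Agent.Lib.TC.D.HNO.P898.ok
theorem allP899 : pt.chkRange rels 0 1107900 = true := PT.chkRange_join (lo := 0) (a := 1106669) (b := 1231) _ allP898 Cfsg.Agent.Lib.TC.D.HNO.P899.ok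
theorem allP900 : pt.chkRange rels 0 1109131 = true := PT.chkRange_join (lo := 0) (a := 1107900) (b := 1231) _ allP899 Cfsg.Agent.Lib.TC.D.HNO.P900.ok
theorem allP901 : pt.chkRange rels 0 1110362 = true := PT.chkRange_join (lo := 0) (a := 1109131) (b := 1231) _ allP900 Cfsg.Agent.Lib.TC.D.HNO.P901.ok
theorem allP902 : pt.chkRange rels 0 1111593 = true := PT.chkRange_join (lo := 0) (a := 1110362) (b := 1231) _ allP901 Cfsg.Agent.Lib.TC.D.HNO.P902.ok
theorem allP903 : pt.chkRange rels 0 1112824 = true := PT.chkRange_join (lo := 0) (a := 1111593) (b := 1231) _ allP902 Cfsg.Agent.Lib.TC.D.HNO.P903.ok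
theorem allP904 : pt.chkRange rels 0 1114055 = true := PT.chkRange_join (lo := 0) (a := 1112824) (b := 1231) _ allP903 Cfsg.Agent.Lib.TC.D.HNO.P904.ok
theorem allP905 : pt.chkRange rels 0 1115286 = true := PT.chkRange_join (lo := 0) (a := 1114055) (b := 1231) _ allP904 Cfsg.Agent.Lib.TC.D.HNO.P905.ok
theorem allP906 : pt.chkRange rels 0 1116517 = true := PT.chkRange_join (lo := 0) (a := 1115286) (b := 1231) _ allP905 Cfsg.Agent.Lib.TC.D.HNO.P906.ok
theorem allP907 : pt.chkRange rels 0 1117748 = true := PT.chkRange_join (lo := 0) (a := 1116517) (b := 1231) _ allP906 Cfsg.Agent.Lib.TC.D.HNO.P907.ok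
theorem allP908 : pt.chkRange rels 0 1118979 = true := PT.chkRange_join (lo := 0) (a := 1117748) (b := 1231) _ allP907 Cfsg.Agent.Lib.TC.D.HNO.P908.ok
theorem allP909 : pt.chkRange rels 0 1120210 = true := PT.chkRange_join (lo := 0) (a := 1118979) (b := 1231) _ allP908 Cfsg.Agent.Lib.TC.D.HNO.P909.ok
theorem allP910 : pt.chkRange rels 0 1121441 = true := PT.chkRange_join (lo := 0) (a := 1120210) (b := 1231) _ allP909 Cfsg.Agent.Lib.TC.D.HNO.P910.ok
theorem allP911 : pt.chkRange rels 0 1122672 = true := PT.chkRange_join (lo := 0) (a := 1121441) (b := 1231) _ allP910 Cfsg.Agent.Lib.TC.D.HNO.P911.ok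
theorem allP912 : pt.chkRange rels 0 1123903 = true := PT.chkRange_join (lo := 0) (a := 1122672) (b := 1231) _ allP911 Cfsg.Agent.Lib.TC.D.HNO.P912.ok
theorem allP913 : pt.chkRange rels 0 1125134 = true := PT.chkRange_join (lo := 0) (a := 1123903) (b := 1231) _ allP912 Cfsg.Agent.Lib.TC.D.HNO.P913.ok
theorem allP914 : pt.chkRange rels 0 1126365 = true := PT.chkRange_join (lo := 0) (a := 1125134) (b := 1231) _ allP913 Cfsg.Agent.Lib.TC.D.HNO.P914.ok
theorem allP915 : pt.chkRange rels 0 1127596 = true := PT.chkRange_join (lo := 0) (a := 1126365) (b := 1231) _ allP914 Cfsg.Agent.Lib.TC.D.HNO.P915.ok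
theorem allP916 : pt.chkRange rels 0 1128827 = true := PT.chkRange_join (lo := 0) (a := 1127596) (b := 1231) _ allP915 Cfsg.Agent.Lib.TC.D.HNO.P916.ok
theorem allP917 : pt.chkRange rels 0 1130058 = true := PT.chkRange_join (lo := 0) (a := 1128827) (b := 1231) _ allP916 Cfsg.Agent.Lib.TC.D.HNO.P917.ok
theorem allP918 : pt.chkRange rels 0 1131289 = true := PT.chkRange_join (lo := 0) (a := 1130058) (b := 1231) _ allP917 Cfsg.Agent.Lib.TC.D.HNO.P918.ok
theorem allP919 : pt.chkRange rels 0 1132520 = true := PT.chkRange_join (lo := 0) (a := 1131289) (b := 1231) _ allP918 Cfsg.Agent.Lib.TC.D.HNO.P919.ok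
theorem allP920 : pt.chkRange rels 0 1133751 = true := PT.chkRange_join (lo := 0) (a := 1132520) (b := 1231) _ allP919 Cfsg.Agent.Lib.TC.D.HNO.P920.ok
theorem allP921 : pt.chkRange rels 0 1134982 = true := PT.chkRange_join (lo := 0) (a := 1133751) (b := 1231) _ allP920 Cfsg.Agent.Lib.TC.D.HNO.P921.ok
theorem allP922 : pt.chkRange rels 0 1136213 = true := PT.chkRange_join (lo := 0) (a := 1134982) (b := 1231) _ allP921 Cfsg.Agent.Lib.TC.D.HNO.P922.ok
theorem allP923 : pt.chkRange rels 0 1137444 = true := PT.chkRange_join (lo := 0) (a := 1136213) (b := 1231) _ allP922 Cfsg.Agent.Lib.TC.D.HNO.P923.ok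
theorem allP924 : pt.chkRange rels 0 1138675 = true := PT.chkRange_join (lo := 0) (a := 1137444) (b := 1231) _ allP923 Cfsg.Agent.Lib.TC.D.HNO.P924.ok
theorem allP925 : pt.chkRange rels 0 1139906 = true := PT.chkRange_join (lo := 0) (a := 1138675) (b := 1231) _ allP924 Cfsg.Agent.Lib.TC.D.HNO.P925.ok
theorem allP926 : pt.chkRange rels 0 1141137 = true := PT.chkRange_join (lo := 0) (a := 1139906) (b := 1231) _ allP925 Cfsg.Agent.Lib.TC.D.HNO.P926.ok
theorem allP927 : pt.chkRange rels 0 1142368 = true := PT.chkRange_join (lo := 0) (a := 1141137) (b := 1231) _ allP926 Cfsg.Agent.Lib.TC.D.HNO.P927.ok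
theorem allP928 : pt.chkRange rels 0 1143599 = true := PT.chkRange_join (lo := 0) (a := 1142368) (b := 1231) _ allP927 Cfsg.Agent.Lib.TC.D.HNO.P928.ok
theorem allP929 : pt.chkRange rels 0 1144830 = true := PT.chkRange_join (lo := 0) (a := 1143599) (b := 1231) _ allP928 Cfsg.Agent.Lib.TC.D.HNO.P929.ok
theorem allP930 : pt.chkRange rels 0 1146061 = true := PT.chkRange_join (lo := 0) (a := 1144830) (b := 1231) _ allP929 Cfsg.Agent.Lib.TC.D.HNO.P930.ok
theorem allP931 : pt.chkRange rels 0 1147292 = true := PT.chkRange_join (lo := 0) (a := 1146061) (b := 1231) _ allP930 Cfsg.Agent.Lib.TC.D.HNO.P931.ok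
theorem allP932 : pt.chkRange rels 0 1148523 = true := PT.chkRange_join (lo := 0) (a := 1147292) (b := 1231) _ allP931 Cfsg.Agent.Lib.TC.D.HNO.P932.ok
theorem allP933 : pt.chkRange rels 0 1149754 = true := PT.chkRange_join (lo := 0) (a := 1148523) (b := 1231) _ allP932 Cfsg.Agent.Lib.TC.D.HNO.P933.ok
theorem allP934 : pt.chkRange rels 0 1150985 = true := PT.chkRange_join (lo := 0) (a := 1149754) (b := 1231) _ allP933 Cfsg.Agent.Lib.TC.D.HNO.P934.ok
theorem allP935 : pt.chkRange rels 0 1152216 = true := PT.chkRange_join (lo := 0) (a := 1150985) (b := 1231) _ allP934 Cfsg.Agent.Lib.TC.D.HNO.P935.ok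
theorem allP936 : pt.chkRange rels 0 1153447 = true := PT.chkRange_join (lo := 0) (a := 1152216) (b := 1231) _ allP935 Cfsg.Agent.Lib.TC.D.HNO.P936.ok
theorem allP937 : pt.chkRange rels 0 1154678 = true := PT.chkRange_join (lo := 0) (a := 1153447) (b := 1231) _ allP936 Cfsg.Agent.Lib.TC.D.HNO.P937.ok
theorem allP938 : pt.chkRange rels 0 1155909 = true := PT.chkRange_join (lo := 0) (a := 1154678) (b := 1231) _ allP937 Cfsg.Agent.Lib.TC.D.HNO.P938.ok
theorem allP939 : pt.chkRange rels 0 1157140 = true := PT.chkRange_join (lo := 0) (a := 1155909) (b := 1231) _ allP938 Cfsg.Agent.Lib.TC.D.HNO.P939.ok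
theorem allP940 : pt.chkRange rels 0 1158371 = true := PT.chkRange_join (lo := 0) (a := 1157140) (b := 1231) _ allP939 Cfsg.Agent.Lib.TC.D.HNO.P940.ok
theorem allP941 : pt.chkRange rels 0 1159602 = true := PT.chkRange_join (lo := 0) (a := 1158371) (b := 1231) _ allP940 Cfsg.Agent.Lib.TC.D.HNO.P941.ok
theorem allP942 : pt.chkRange rels 0 1160833 = true := PT.chkRange_join (lo := 0) (a := 1159602) (b := 1231) _ allP941 Cfsg.Agent.Lib.TC.D.HNO.P942.ok
theorem allP943 : pt.chkRange rels 0 1162064 = true := PT.chkRange_join (lo := 0) (a := 1160833) (b := 1231) _ allP942 Cfsg.Agent.Lib.TC.D.HNO.P943.ok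
theorem allP944 : pt.chkRange rels 0 1163295 = true := PT.chkRange_join (lo := 0) (a := 1162064) (b := 1231) _ allP943 Cfsg.Agent.Lib.TC.D.HNO.P944.ok
theorem allP945 : pt.chkRange rels 0 1164526 = true := PT.chkRange_join (lo := 0) (a := 1163295) (b := 1231) _ allP944 Cfsg.Agent.Lib.TC.D.HNO.P945.ok
theorem allP946 : pt.chkRange rels 0 1165757 = true := PT.chkRange_join (lo := 0) (a := 1164526) (b := 1231) _ allP945 Cfsg.Agent.Lib.TC.D.HNO.P946.ok
theorem allP947 : pt.chkRange rels 0 1166988 = true := PT.chkRange_join (lo := 0) (a := 1165757) (b := 1231) _ allP946 Cfsg.Agent.Lib.TC.D.HNO.P947.ok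
theorem allP948 : pt.chkRange rels 0 1168219 = true := PT.chkRange_join (lo := 0) (a := 1166988) (b := 1231) _ allP947 Cfsg.Agent.Lib.TC.D.HNO.P948.ok
theorem allP949 : pt.chkRange rels 0 1169450 = true := PT.chkRange_join (lo := 0) (a := 1168219) (b := 1231) _ allP948 Cfsg.Agent.Lib.TC.D.HNO.P949.ok
theorem allP950 : pt.chkRange rels 0 1170681 = true := PT.chkRange_join (lo := 0) (a := 1169450) (b := 1231) _ allP949 Cfsg.Agent.Lib.TC.D.HNO.P950.ok
theorem allP951 : pt.chkRange rels 0 1171912 = true := PT.chkRange_join (lo := 0) (a := 1170681) (b := 1231) _ allP950 Cfsg.Agent.Lib.TC.D.HNO.P951.ok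
theorem allP952 : pt.chkRange rels 0 1173143 = true := PT.chkRange_join (lo := 0) (a := 1171912) (b := 1231) _ allP951 Cfsg.Agent.Lib.TC.D.HNO.P952.ok
theorem allP953 : pt.chkRange rels 0 1174374 = true := PT.chkRange_join (lo := 0) (a := 1173143) (b := 1231) _ allP952 Cfsg.Agent.Lib.TC.D.HNO.P953.ok
theorem allP954 : pt.chkRange rels 0 1175605 = true := PT.chkRange_join (lo := 0) (a := 1174374) (b := 1231) _ allP953 Cfsg.Agent.Lib.TC.D.HNO.P954.ok
theorem allP955 : pt.chkRange rels 0 1176836 = true := PT.chkRange_join (lo := 0) (a := 1175605) (b := 1231) _ allP954 Cfsg.Agent.Lib.TC.D.HNO.P955.ok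
theorem allP956 : pt.chkRange rels 0 1178067 = true := PT.chkRange_join (lo := 0) (a := 1176836) (b := 1231) _ allP955 Cfsg.Agent.Lib.TC.D.HNO.P956.ok
theorem allP957 : pt.chkRange rels 0 1179298 = true := PT.chkRange_join (lo := 0) (a := 1178067) (b := 1231) _ allP956 Cfsg.Agent.Lib.TC.D.HNO.P957.ok
theorem allP958 : pt.chkRange rels 0 1180529 = true := PT.chkRange_join (lo := 0) (a := 1179298) (b := 1231) _ allP957 Cfsg.Agent.Lib.TC.D.HNO.P958.ok
theorem allP959 : pt.chkRange rels 0 1181760 = true := PT.chkRange_join (lo := 0) (a := 1180529) (b := 1231) _ allP958 Cfsg.Agent.Lib.TC.D.HNO.P959.ok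
theorem allP960 : pt.chkRange rels 0 1182991 = true := PT.chkRange_join (lo := 0) (a := 1181760) (b := 1231) _ allP959 Cfsg.Agent.Lib.TC.D.HNO.P960.ok
theorem allP961 : pt.chkRange rels 0 1184222 = true := PT.chkRange_join (lo := 0) (a := 1182991) (b := 1231) _ allP960 Cfsg.Agent.Lib.TC.D.HNO.P961.ok
theorem allP962 : pt.chkRange rels 0 1185453 = true := PT.chkRange_join (lo := 0) (a := 1184222) (b := 1231) _ allP961 Cfsg.Agent.Lib.TC.D.HNO.P962.ok
theorem allP963 : pt.chkRange rels 0 1186684 = true := PT.chkRange_join (lo := 0) (a := 1185453) (b := 1231) _ allP962 Cfsg.Agent.Lib.TC.D.HNO.P963.ok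
theorem allP964 : pt.chkRange rels 0 1187915 = true := PT.chkRange_join (lo := 0) (a := 1186684) (b := 1231) _ allP963 Cfsg.Agent.Lib.TC.D.HNO.P964.ok
theorem allP965 : pt.chkRange rels 0 1189146 = true := PT.chkRange_join (lo := 0) (a := 1187915) (b := 1231) _ allP964 Cfsg.Agent.Lib.TC.D.HNO.P965.ok
theorem allP966 : pt.chkRange rels 0 1190377 = true := PT.chkRange_join (lo := 0) (a := 1189146) (b := 1231) _ allP965 Cfsg.Agent.Lib.TC.D.HNO.P966.ok
theorem allP967 : pt.chkRange rels 0 1191608 = true := PT.chkRange_join (lo := 0) (a := 1190377) (b := 1231) _ allP966 Cfsg.Agent.Lib.TC.D.HNO.P967.ok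
theorem allP968 : pt.chkRange rels 0 1192839 = true := PT.chkRange_join (lo := 0) (a := 1191608) (b := 1231) _ allP967 Cfsg.Agent.Lib.TC.D.HNO.P968.ok
theorem allP969 : pt.chkRange rels 0 1194070 = true := PT.chkRange_join (lo := 0) (a := 1192839) (b := 1231) _ allP968 Cfsg.Agent.Lib.TC.D.HNO.P969.ok
theorem allP970 : pt.chkRange rels 0 1195301 = true := PT.chkRange_join (lo := 0) (a := 1194070) (b := 1231) _ allP969 Cfsg.Agent.Lib.TC.D.HNO.P970.ok
theorem allP971 : pt.chkRange rels 0 1196532 = true := PT.chkRange_join (lo := 0) (a := 1195301) (b := 1231) _ allP970 Cfsg.Agent.Lib.TC.D.HNO.P971.ok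
theorem allP972 : pt.chkRange rels 0 1197763 = true := PT.chkRange_join (lo := 0) (a := 1196532) (b := 1231) _ allP971 Cfsg.Agent.Lib.TC.D.HNO.P972.ok
theorem allP973 : pt.chkRange rels 0 1198994 = true := PT.chkRange_join (lo := 0) (a := 1197763) (b := 1231) _ allP972 Cfsg.Agent.Lib.TC.D.HNO.P973.ok
theorem allP974 : pt.chkRange rels 0 1200225 = true := PT.chkRange_join (lo := 0) (a := 1198994) (b := 1231) _ allP973 Cfsg.Agent.Lib.TC.D.HNO.P974.ok
theorem allP975 : pt.chkRange rels 0 1201456 = true := PT.chkRange_join (lo := 0) (a := 1200225) (b := 1231) _ allP974 Cfsg.Agent.Lib.TC.D.HNO.P975.ok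
theorem allP976 : pt.chkRange rels 0 1202687 = true := PT.chkRange_join (lo := 0) (a := 1201456) (b := 1231) _ allP975 Cfsg.Agent.Lib.TC.D.HNO.P976.ok
theorem allP977 : pt.chkRange rels 0 1203918 = true := PT.chkRange_join (lo := 0) (a := 1202687) (b := 1231) _ allP976 Cfsg.Agent.Lib.TC.D.HNO.P977.ok
theorem allP978 : pt.chkRange rels 0 1205149 = true := PT.chkRange_join (lo := 0) (a := 1203918) (b := 1231) _ allP977 Cfsg.Agent.Lib.TC.D.HNO.P978.ok
theorem allP979 : pt.chkRange rels 0 1206380 = true := PT.chkRange_join (lo := 0) (a := 1205149) (b := 1231) _ allP978 Cfsg.Agent.Lib.TC.D.HNO.P979.ok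
theorem allP980 : pt.chkRange rels 0 1207611 = true := PT.chkRange_join (lo := 0) (a := 1206380) (b := 1231) _ allP979 Cfsg.Agent.Lib.TC.D.HNO.P980.ok
theorem allP981 : pt.chkRange rels 0 1208842 = true := PT.chkRange_join (lo := 0) (a := 1207611) (b := 1231) _ allP980 Cfsg.Agent.Lib.TC.D.HNO.P981.ok
theorem allP982 : pt.chkRange rels 0 1210073 = true := PT.chkRange_join (lo := 0) (a := 1208842) (b := 1231) _ allP981 Cfsg.Agent.Lib.TC.D.HNO.P982.ok
theorem allP983 : pt.chkRange rels 0 1211304 = true := PT.chkRange_join (lo := 0) (a := 1210073) (b := 1231) _ allP982 Cfsg.Agent.Lib.TC.D.HNO.P983.ok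
theorem allP984 : pt.chkRange rels 0 1212535 = true := PT.chkRange_join (lo := 0) (a := 1211304) (b := 1231) _ allP983 Cfsg.Agent.Lib.TC.D.HNO.P984.ok
theorem allP985 : pt.chkRange rels 0 1213766 = true := PT.chkRange_join (lo := 0) (a := 1212535) (b := 1231) _ allP984 Cfsg.Agent.Lib.TC.D.HNO.P985.ok
theorem allP986 : pt.chkRange rels 0 1214997 = true := PT.chkRange_join (lo := 0) (a := 1213766) (b := 1231) _ allP985 Cfsg.Agent.Lib.TC.D.HNO.P986.ok
theorem allP987 : pt.chkRange rels 0 1216228 = true := PT.chkRange_join (lo := 0) (a := 1214997) (b := 1231) _ allP986 Cfsg.Agent.Lib.TC.D.HNO.P987.ok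
theorem allP988 : pt.chkRange rels 0 1217459 = true := PT.chkRange_join (lo := 0) (a := 1216228) (b := 1231) _ allP987 Cfsg.Agent.Lib.TC.D.HNO.P988.ok
theorem allP989 : pt.chkRange rels 0 1218690 = true := PT.chkRange_join (lo := 0) (a := 1217459) (b := 1231) _ allP988 Cfsg.Agent.Lib.TC.D.HNO.P989.ok
theorem allP990 : pt.chkRange rels 0 1219921 = true := PT.chkRange_join (lo := 0) (a := 1218690) (b := 1231) _ allP989 Cfsg.Agent.Lib.TC.D.HNO.P990.ok
theorem allP991 : pt.chkRange rels 0 1221152 = true := PT.chkRange_join (lo := 0) (a := 1219921) (b := 1231) _ allP990 Cfsg.Agent.Lib.TC.D.HNO.P991.ok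
theorem allP992 : pt.chkRange rels 0 1222383 = true := PT.chkRange_join (lo := 0) (a := 1221152) (b := 1231) _ allP991 Cfsg.Agent.Lib.TC.D.HNO.P992.ok
theorem allP993 : pt.chkRange rels 0 1223614 = true := PT.chkRange_join (lo := 0) (a := 1222383) (b := 1231) _ allP992 Cfsg.Agent.Lib.TC.D.HNO.P993.ok
theorem allP994 : pt.chkRange rels 0 1224845 = true := PT.chkRange_join (lo := 0) (a := 1223614) (b := 1231) _ allP993 Cfsg.Agent.Lib.TC.D.HNO.P994.ok
theorem allP995 : pt.chkRange rels 0 1226076 = true := PT.chkRange_join (lo := 0) (a := 1224845) (b := 1231) _ allP994 Cfsg.Agent.Lib.TC.D.HNO.P995.ok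
theorem allP996 : pt.chkRange rels 0 1227307 = true := PT.chkRange_join (lo := 0) (a := 1226076) (b := 1231) _ allP995 Cfsg.Agent.Lib.TC.D.HNO.P996.ok
theorem allP997 : pt.chkRange rels 0 1228538 = true := PT.chkRange_join (lo := 0) (a := 1227307) (b := 1231) _ allP996 Cfsg.Agent.Lib.TC.D.HNO.P997.ok
theorem allP998 : pt.chkRange rels 0 1229769 = true := PT.chkRange_join (lo := 0) (a := 1228538) (b := 1231) _ allP997 Cfsg.Agent.Lib.TC.D.HNO.P998.ok
theorem allP999 : pt.chkRange rels 0 1231000 = true := PT.chkRange_join (lo := 0) (a := 1229769) (b := 1231) _ allP998 Cfsg.Agent.Lib.TC.D.HNO.P999.ok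
theorem allP1000 : pt.chkRange rels 0 1232231 = true := PT.chkRange_join (lo := 0) (a := 1231000) (b := 1231) _ allP999 Cfsg.Agent.Lib.TC.D.HNO.P1000.ok
theorem allP1001 : pt.chkRange rels 0 1233462 = true := PT.chkRange_join (lo := 0) (a := 1232231) (b := 1231) _ allP1000 Cfsg.Agent.Lib.TC.D.HNO.P1001.ok
theorem allP1002 : pt.chkRange rels 0 1234693 = true := PT.chkRange_join (lo := 0) (a := 1233462) (b := 1231) _ allP1001 Cfsg.Agent.Lib.TC.D.HNO.P1002.ok
theorem allP1003 : pt.chkRange rels 0 1235924 = true := PT.chkRange_join (lo := 0) (a := 1234693) (b := 1231) _ allP1002 Cfsg.Agent.Lib.TC.D.HNO.P1003.ok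
theorem allP1004 : pt.chkRange rels 0 1237155 = true := PT.chkRange_join (lo := 0) (a := 1235924) (b := 1231) _ allP1003 Cfsg.Agent.Lib.TC.D.HNO.P1004.ok
theorem allP1005 : pt.chkRange rels 0 1238386 = true := PT.chkRange_join (lo := 0) (a := 1237155) (b := 1231) _ allP1004 Cfsg.Agent.Lib.TC.D.HNO.P1005.ok
theorem allP1006 : pt.chkRange rels 0 1239617 = true := PT.chkRange_join (lo := 0) (a := 1238386) (b := 1231) _ allP1005 Cfsg.Agent.Lib.TC.D.HNO.P1006.ok
theorem allP1007 : pt.chkRange rels 0 1240848 = true := PT.chkRange_join (lo := 0) (a := 1239617) (b := 1231) _ allP1006 Cfsg.Agent.Lib.TC.D.HNO.P1007.ok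
theorem allP1008 : pt.chkRange rels 0 1242079 = true := PT.chkRange_join (lo := 0) (a := 1240848) (b := 1231) _ allP1007 Cfsg.Agent.Lib.TC.D.HNO.P1008.ok
theorem allP1009 : pt.chkRange rels 0 1243310 = true := PT.chkRange_join (lo := 0) (a := 1242079) (b := 1231) _ allP1008 Cfsg.Agent.Lib.TC.D.HNO.P1009.ok
theorem allP1010 : pt.chkRange rels 0 1244541 = true := PT.chkRange_join (lo := 0) (a := 1243310) (b := 1231) _ allP1009 Cfsg.Agent.Lib.TC.D.HNO.P1010.ok
theorem allP1011 : pt.chkRange rels 0 1245772 = true := PT.chkRange_join (lo := 0) (a := 1244541) (b := 1231) _ allP1010 Cfsg.Agent.Lib.TC.D.HNO.P1011.ok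
theorem allP1012 : pt.chkRange rels 0 1247003 = true := PT.chkRange_join (lo := 0) (a := 1245772) (b := 1231) _ allP1011 Cfsg.Agent.Lib.TC.D.HNO.P1012.ok
theorem allP1013 : pt.chkRange rels 0 1248234 = true := PT.chkRange_join (lo := 0) (a := 1247003) (b := 1231) _ allP1012 Cfsg.Agent.Lib.TC.D.HNO.P1013.ok
theorem allP1014 : pt.chkRange rels 0 1249465 = true := PT.chkRange_join (lo := 0) (a := 1248234) (b := 1231) _ allP1013 Cfsg.Agent.Lib.TC.D.HNO.P1014.ok
theorem allP1015 : pt.chkRange rels 0 1250696 = true := PT.chkRange_join (lo := 0) (a := 1249465) (b := 1231) _ allP1014 Cfsg.Agent.Lib.TC.D.HNO.P1015.ok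
theorem allP1016 : pt.chkRange rels 0 1251927 = true := PT.chkRange_join (lo := 0) (a := 1250696) (b := 1231) _ allP1015 Cfsg.Agent.Lib.TC.D.HNO.P1016.ok
theorem allP1017 : pt.chkRange rels 0 1253158 = true := PT.chkRange_join (lo := 0) (a := 1251927) (b := 1231) _ allP1016 Cfsg.Agent.Lib.TC.D.HNO.P1017.ok
theorem allP1018 : pt.chkRange rels 0 1254389 = true := PT.chkRange_join (lo := 0) (a := 1253158) (b := 1231) _ allP1017 Cfsg.Agent.Lib.TC.D.HNO.P1018.ok
theorem allP1019 : pt.chkRange rels 0 1255620 = true := PT.chkRange_join (lo := 0) (a := 1254389) (b := 1231) _ allP1018 Cfsg.Agent.Lib.TC.D.HNO.P1019.ok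
theorem allP1020 : pt.chkRange rels 0 1256851 = true := PT.chkRange_join (lo := 0) (a := 1255620) (b := 1231) _ allP1019 Cfsg.Agent.Lib.TC.D.HNO.P1020.ok
theorem allP1021 : pt.chkRange rels 0 1258082 = true := PT.chkRange_join (lo := 0) (a := 1256851) (b := 1231) _ allP1020 Cfsg.Agent.Lib.TC.D.HNO.P1021.ok
theorem allP1022 : pt.chkRange rels 0 1259313 = true := PT.chkRange_join (lo := 0) (a := 1258082) (b := 1231) _ allP1021 Cfsg.Agent.Lib.TC.D.HNO.P1022.ok
theorem allP1023 : pt.chkRange rels 0 1260544 = true := PT.chkRange_join (lo := 0) (a := 1259313) (b := 1231) _ allP1022 Cfsg.Agent.Lib.TC.D.HNO.P1023.ok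
theorem allP1024 : pt.chkRange rels 0 1261775 = true := PT.chkRange_join (lo := 0) (a := 1260544) (b := 1231) _ allP1023 Cfsg.Agent.Lib.TC.D.HNO.P1024.ok
theorem allP1025 : pt.chkRange rels 0 1263006 = true := PT.chkRange_join (lo := 0) (a := 1261775) (b := 1231) _ allP1024 Cfsg.Agent.Lib.TC.D.HNO.P1025.ok
theorem allP1026 : pt.chkRange rels 0 1264237 = true := PT.chkRange_join (lo := 0) (a := 1263006) (b := 1231) _ allP1025 Cfsg.Agent.Lib.TC.D.HNO.P1026.ok
theorem allP1027 : pt.chkRange rels 0 1265468 = true := PT.chkRange_join (lo := 0) (a := 1264237) (b := 1231) _ allP1026 Cfsg.Agent.Lib.TC.D.HNO.P1027.ok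
theorem allP1028 : pt.chkRange rels 0 1266699 = true := PT.chkRange_join (lo := 0) (a := 1265468) (b := 1231) _ allP1027 Cfsg.Agent.Lib.TC.D.HNO.P1028.ok
theorem allP1029 : pt.chkRange rels 0 1267930 = true := PT.chkRange_join (lo := 0) (a := 1266699) (b := 1231) _ allP1028 Cfsg.Agent.Lib.TC.D.HNO.P1029.ok
theorem allP1030 : pt.chkRange rels 0 1269161 = true := PT.chkRange_join (lo := 0) (a := 1267930) (b := 1231) _ allP1029 Cfsg.Agent.Lib.TC.D.HNO.P1030.ok
theorem allP1031 : pt.chkRange rels 0 1270392 = true := PT.chkRange_join (lo := 0) (a := 1269161) (b := 1231) _ allP1030 Cfsg.Agent.Lib.TC.D.HNO.P1031.ok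
theorem allP1032 : pt.chkRange rels 0 1271623 = true := PT.chkRange_join (lo := 0) (a := 1270392) (b := 1231) _ allP1031 Cfsg.Agent.Lib.TC.D.HNO.P1032.ok
theorem allP1033 : pt.chkRange rels 0 1272854 = true := PT.chkRange_join (lo := 0) (a := 1271623) (b := 1231) _ allP1032 Cfsg.Agent.Lib.TC.D.HNO.P1033.ok
theorem allP1034 : pt.chkRange rels 0 1274085 = true := PT.chkRange_join (lo := 0) (a := 1272854) (b := 1231) _ allP1033 Cfsg.Agent.Lib.TC.D.HNO.P1034.ok
theorem allP1035 : pt.chkRange rels 0 1275316 = true := PT.chkRange_join (lo := 0) (a := 1274085) (b := 1231) _ allP1034 Cfsg.Agent.Lib.TC.D.HNO.P1035.ok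
theorem allP1036 : pt.chkRange rels 0 1276547 = true := PT.chkRange_join (lo := 0) (a := 1275316) (b := 1231) _ allP1035 Cfsg.Agent.Lib.TC.D.HNO.P1036.ok
theorem allP1037 : pt.chkRange rels 0 1277778 = true := PT.chkRange_join (lo := 0) (a := 1276547) (b := 1231) _ allP1036 Cfsg.Agent.Lib.TC.D.HNO.P1037.ok
theorem allP1038 : pt.chkRange rels 0 1279009 = true := PT.chkRange_join (lo := 0) (a := 1277778) (b := 1231) _ allP1037 Cfsg.Agent.Lib.TC.D.HNO.P1038.ok
theorem allP1039 : pt.chkRange rels 0 1280240 = true := PT.chkRange_join (lo := 0) (a := 1279009) (b := 1231) _ allP1038 Cfsg.Agent.Lib.TC.D.HNO.P1039.ok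
theorem allP1040 : pt.chkRange rels 0 1281471 = true := PT.chkRange_join (lo := 0) (a := 1280240) (b := 1231) _ allP1039 Cfsg.Agent.Lib.TC.D.HNO.P1040.ok
theorem allP1041 : pt.chkRange rels 0 1282702 = true := PT.chkRange_join (lo := 0) (a := 1281471) (b := 1231) _ allP1040 Cfsg.Agent.Lib.TC.D.HNO.P1041.ok
theorem allP1042 : pt.chkRange rels 0 1283933 = true := PT.chkRange_join (lo := 0) (a := 1282702) (b := 1231) _ allP1041 Cfsg.Agent.Lib.TC.D.HNO.P1042.ok
theorem allP1043 : pt.chkRange rels 0 1285164 = true := PT.chkRange_join (lo := 0) (a := 1283933) (b := 1231) _ allP1042 Cfsg.Agent.Lib.TC.D.HNO.P1043.ok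
theorem allP1044 : pt.chkRange rels 0 1286395 = true := PT.chkRange_join (lo := 0) (a := 1285164) (b := 1231) _ allP1043 Cfsg.Agent.Lib.TC.D.HNO.P1044.ok
theorem allP1045 : pt.chkRange rels 0 1287626 = true := PT.chkRange_join (lo := 0) (a := 1286395) (b := 1231) _ allP1044 Cfsg.Agent.Lib.TC.D.HNO.P1045.ok
theorem allP1046 : pt.chkRange rels 0 1288857 = true := PT.chkRange_join (lo := 0) (a := 1287626) (b := 1231) _ allP1045 Cfsg.Agent.Lib.TC.D.HNO.P1046.ok
theorem allP1047 : pt.chkRange rels 0 1290088 = true := PT.chkRange_join (lo := 0) (a := 1288857) (b := 1231) _ allP1046 Cfsg.Agent.Lib.TC.D.HNO.P1047.ok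
theorem allP1048 : pt.chkRange rels 0 1291319 = true := PT.chkRange_join (lo := 0) (a := 1290088) (b := 1231) _ allP1047 Cfsg.Agent.Lib.TC.D.HNO.P1048.ok
theorem allP1049 : pt.chkRange rels 0 1292550 = true := PT.chkRange_join (lo := 0) (a := 1291319) (b := 1231) _ allP1048 Cfsg.Agent.Lib.TC.D.HNO.P1049.ok
theorem allP1050 : pt.chkRange rels 0 1293781 = true := PT.chkRange_join (lo := 0) (a := 1292550) (b := 1231) _ allP1049 Cfsg.Agent.Lib.TC.D.HNO.P1050.ok
theorem allP1051 : pt.chkRange rels 0 1295012 = true := PT.chkRange_join (lo := 0) (a := 1293781) (b := 1231) _ allP1050 Cfsg.Agent.Lib.TC.D.HNO.P1051.ok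
theorem allP1052 : pt.chkRange rels 0 1296243 = true := PT.chkRange_join (lo := 0) (a := 1295012) (b := 1231) _ allP1051 Cfsg.Agent.Lib.TC.D.HNO.P1052.ok
theorem allP1053 : pt.chkRange rels 0 1297474 = true := PT.chkRange_join (lo := 0) (a := 1296243) (b := 1231) _ allP1052 Cfsg.Agent.Lib.TC.D.HNO.P1053.ok
theorem allP1054 : pt.chkRange rels 0 1298705 = true := PT.chkRange_join (lo := 0) (a := 1297474) (b := 1231) _ allP1053 Cfsg.Agent.Lib.TC.D.HNO.P1054.ok
theorem allP1055 : pt.chkRange rels 0 1299936 = true := PT.chkRange_join (lo := 0) (a := 1298705) (b := 1231) _ allP1054 Cfsg.Agent.Lib.TC.D.HNO.P1055.ok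
theorem allP1056 : pt.chkRange rels 0 1301167 = true := PT.chkRange_join (lo := 0) (a := 1299936) (b := 1231) _ allP1055 Cfsg.Agent.Lib.TC.D.HNO.P1056.ok
theorem allP1057 : pt.chkRange rels 0 1302398 = true := PT.chkRange_join (lo := 0) (a := 1301167) (b := 1231) _ allP1056 Cfsg.Agent.Lib.TC.D.HNO.P1057.ok
theorem allP1058 : pt.chkRange rels 0 1303629 = true := PT.chkRange_join (lo := 0) (a := 1302398) (b := 1231) _ allP1057 Cfsg.Agent.Lib.TC.D.HNO.P1058.ok
theorem allP1059 : pt.chkRange rels 0 1304860 = true := PT.chkRange_join (lo := 0) (a := 1303629) (b := 1231) _ allP1058 Cfsg.Agent.Lib.TC.D.HNO.P1059.ok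
theorem allP1060 : pt.chkRange rels 0 1306091 = true := PT.chkRange_join (lo := 0) (a := 1304860) (b := 1231) _ allP1059 Cfsg.Agent.Lib.TC.D.HNO.P1060.ok
theorem allP1061 : pt.chkRange rels 0 1307322 = true := PT.chkRange_join (lo := 0) (a := 1306091) (b := 1231) _ allP1060 Cfsg.Agent.Lib.TC.D.HNO.P1061.ok
theorem allP1062 : pt.chkRange rels 0 1308553 = true := PT.chkRange_join (lo := 0) (a := 1307322) (b := 1231) _ allP1061 Cfsg.Agent.Lib.TC.D.HNO.P1062.ok
theorem allP1063 : pt.chkRange rels 0 1309784 = true := PT.chkRange_join (lo := 0) (a := 1308553) (b := 1231) _ allP1062 Cfsg.Agent.Lib.TC.D.HNO.P1063.ok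
theorem allP1064 : pt.chkRange rels 0 1311015 = true := PT.chkRange_join (lo := 0) (a := 1309784) (b := 1231) _ allP1063 Cfsg.Agent.Lib.TC.D.HNO.P1064.ok
theorem allP1065 : pt.chkRange rels 0 1312246 = true := PT.chkRange_join (lo := 0) (a := 1311015) (b := 1231) _ allP1064 Cfsg.Agent.Lib.TC.D.HNO.P1065.ok
theorem allP1066 : pt.chkRange rels 0 1313477 = true := PT.chkRange_join (lo := 0) (a := 1312246) (b := 1231) _ allP1065 Cfsg.Agent.Lib.TC.D.HNO.P1066.ok
theorem allP1067 : pt.chkRange rels 0 1314708 = true := PT.chkRange_join (lo := 0) (a := 1313477) (b := 1231) _ allP1066 Cfsg.Agent.Lib.TC.D.HNO.P1067.ok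
theorem allP1068 : pt.chkRange rels 0 1315939 = true := PT.chkRange_join (lo := 0) (a := 1314708) (b := 1231) _ allP1067 Cfsg.Agent.Lib.TC.D.HNO.P1068.ok
theorem allP1069 : pt.chkRange rels 0 1317170 = true := PT.chkRange_join (lo := 0) (a := 1315939) (b := 1231) _ allP1068 Cfsg.Agent.Lib.TC.D.HNO.P1069.ok
theorem allP1070 : pt.chkRange rels 0 1318401 = true := PT.chkRange_join (lo := 0) (a := 1317170) (b := 1231) _ allP1069 Cfsg.Agent.Lib.TC.D.HNO.P1070.ok
theorem allP1071 : pt.chkRange rels 0 1319632 = true := PT.chkRange_join (lo := 0) (a := 1318401) (b := 1231) _ allP1070 Cfsg.Agent.Lib.TC.D.HNO.P1071.ok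
theorem allP1072 : pt.chkRange rels 0 1320863 = true := PT.chkRange_join (lo := 0) (a := 1319632) (b := 1231) _ allP1071 Cfsg.Agent.Lib.TC.D.HNO.P1072.ok
theorem allP1073 : pt.chkRange rels 0 1322094 = true := PT.chkRange_join (lo := 0) (a := 1320863) (b := 1231) _ allP1072 Cfsg.Agent.Lib.TC.D.HNO.P1073.ok
theorem allP1074 : pt.chkRange rels 0 1323325 = true := PT.chkRange_join (lo := 0) (a := 1322094) (b := 1231) _ allP1073 Cfsg.Agent.Lib.TC.D.HNO.P1074.ok
theorem allP1075 : pt.chkRange rels 0 1324556 = true := PT.chkRange_join (lo := 0) (a := 1323325) (b := 1231) _ allP1074 Cfsg.Agent.Lib.TC.D.HNO.P1075.ok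
theorem allP1076 : pt.chkRange rels 0 1325787 = true := PT.chkRange_join (lo := 0) (a := 1324556) (b := 1231) _ allP1075 Cfsg.Agent.Lib.TC.D.HNO.P1076.ok
theorem allP1077 : pt.chkRange rels 0 1327018 = true := PT.chkRange_join (lo := 0) (a := 1325787) (b := 1231) _ allP1076 Cfsg.Agent.Lib.TC.D.HNO.P1077.ok
theorem allP1078 : pt.chkRange rels 0 1328249 = true := PT.chkRange_join (lo := 0) (a := 1327018) (b := 1231) _ allP1077 Cfsg.Agent.Lib.TC.D.HNO.P1078.ok
theorem allP1079 : pt.chkRange rels 0 1329480 = true := PT.chkRange_join (lo := 0) (a := 1328249) (b := 1231) _ allP1078 Cfsg.Agent.Lib.TC.D.HNO.P1079.ok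
theorem allP1080 : pt.chkRange rels 0 1330711 = true := PT.chkRange_join (lo := 0) (a := 1329480) (b := 1231) _ allP1079 Cfsg.Agent.Lib.TC.D.HNO.P1080.ok
theorem allP1081 : pt.chkRange rels 0 1331942 = true := PT.chkRange_join (lo := 0) (a := 1330711) (b := 1231) _ allP1080 Cfsg.Agent.Lib.TC.D.HNO.P1081.ok
theorem allP1082 : pt.chkRange rels 0 1333173 = true := PT.chkRange_join (lo := 0) (a := 1331942) (b := 1231) _ allP1081 Cfsg.Agent.Lib.TC.D.HNO.P1082.ok
theorem allP1083 : pt.chkRange rels 0 1334404 = true := PT.chkRange_join (lo := 0) (a := 1333173) (b := 1231) _ allP1082 Cfsg.Agent.Lib.TC.D.HNO.P1083.ok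
theorem allP1084 : pt.chkRange rels 0 1335635 = true := PT.chkRange_join (lo := 0) (a := 1334404) (b := 1231) _ allP1083 Cfsg.Agent.Lib.TC.D.HNO.P1084.ok
theorem allP1085 : pt.chkRange rels 0 1336866 = true := PT.chkRange_join (lo := 0) (a := 1335635) (b := 1231) _ allP1084 Cfsg.Agent.Lib.TC.D.HNO.P1085.ok
theorem allP1086 : pt.chkRange rels 0 1338097 = true := PT.chkRange_join (lo := 0) (a := 1336866) (b := 1231) _ allP1085 Cfsg.Agent.Lib.TC.D.HNO.P1086.ok
theorem allP1087 : pt.chkRange rels 0 1339328 = true := PT.chkRange_join (lo := 0) (a := 1338097) (b := 1231) _ allP1086 Cfsg.Agent.Lib.TC.D.HNO.P1087.ok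
theorem allP1088 : pt.chkRange rels 0 1340559 = true := PT.chkRange_join (lo := 0) (a := 1339328) (b := 1231) _ allP1087 Cfsg.Agent.Lib.TC.D.HNO.P1088.ok
theorem allP1089 : pt.chkRange rels 0 1341790 = true := PT.chkRange_join (lo := 0) (a := 1340559) (b := 1231) _ allP1088 Cfsg.Agent.Lib.TC.D.HNO.P1089.ok
theorem allP1090 : pt.chkRange rels 0 1343021 = true := PT.chkRange_join (lo := 0) (a := 1341790) (b := 1231) _ allP1089 Cfsg.Agent.Lib.TC.D.HNO.P1090.ok
theorem allP1091 : pt.chkRange rels 0 1344252 = true := PT.chkRange_join (lo := 0) (a := 1343021) (b := 1231) _ allP1090 Cfsg.Agent.Lib.TC.D.HNO.P1091.ok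
theorem allP1092 : pt.chkRange rels 0 1345483 = true := PT.chkRange_join (lo := 0) (a := 1344252) (b := 1231) _ allP1091 Cfsg.Agent.Lib.TC.D.HNO.P1092.ok
theorem allP1093 : pt.chkRange rels 0 1346714 = true := PT.chkRange_join (lo := 0) (a := 1345483) (b := 1231) _ allP1092 Cfsg.Agent.Lib.TC.D.HNO.P1093.ok
theorem allP1094 : pt.chkRange rels 0 1347945 = true := PT.chkRange_join (lo := 0) (a := 1346714) (b := 1231) _ allP1093 Cfsg.Agent.Lib.TC.D.HNO.P1094.ok
theorem allP1095 : pt.chkRange rels 0 1349176 = true := PT.chkRange_join (lo := 0) (a := 1347945) (b := 1231) _ allP1094 Cfsg.Agent.Lib.TC.D.HNO.P1095.ok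
theorem allP1096 : pt.chkRange rels 0 1350407 = true := PT.chkRange_join (lo := 0) (a := 1349176) (b := 1231) _ allP1095 Cfsg.Agent.Lib.TC.D.HNO.P1096.ok
theorem allP1097 : pt.chkRange rels 0 1351638 = true := PT.chkRange_join (lo := 0) (a := 1350407) (b := 1231) _ allP1096 Cfsg.Agent.Lib.TC.D.HNO.P1097.ok
theorem allP1098 : pt.chkRange rels 0 1352869 = true := PT.chkRange_join (lo := 0) (a := 1351638) (b := 1231) _ allP1097 Cfsg.Agent.Lib.TC.D.HNO.P1098.ok
theorem allP1099 : pt.chkRange rels 0 1354100 = true := PT.chkRange_join (lo := 0) (a := 1352869) (b := 1231) _ allP1098 Cfsg.Agent.Lib.TC.D.HNO.P1099.ok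
theorem allP1100 : pt.chkRange rels 0 1355331 = true := PT.chkRange_join (lo := 0) (a := 1354100) (b := 1231) _ allP1099 Cfsg.Agent.Lib.TC.D.HNO.P1100.ok
theorem allP1101 : pt.chkRange rels 0 1356562 = true := PT.chkRange_join (lo := 0) (a := 1355331) (b := 1231) _ allP1100 Cfsg.Agent.Lib.TC.D.HNO.P1101.ok
theorem allP1102 : pt.chkRange rels 0 1357793 = true := PT.chkRange_join (lo := 0) (a := 1356562) (b := 1231) _ allP1101 Cfsg.Agent.Lib.TC.D.HNO.P1102.ok
theorem allP1103 : pt.chkRange rels 0 1359024 = true := PT.chkRange_join (lo := 0) (a := 1357793) (b := 1231) _ allP1102 Cfsg.Agent.Lib.TC.D.HNO.P1103.ok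
theorem allP1104 : pt.chkRange rels 0 1360255 = true := PT.chkRange_join (lo := 0) (a := 1359024) (b := 1231) _ allP1103 Cfsg.Agent.Lib.TC.D.HNO.P1104.ok
theorem allP1105 : pt.chkRange rels 0 1361486 = true := PT.chkRange_join (lo := 0) (a := 1360255) (b := 1231) _ allP1104 Cfsg.Agent.Lib.TC.D.HNO.P1105.ok
theorem allP1106 : pt.chkRange rels 0 1362717 = true := PT.chkRange_join (lo := 0) (a := 1361486) (b := 1231) _ allP1105 Cfsg.Agent.Lib.TC.D.HNO.P1106.ok
theorem allP1107 : pt.chkRange rels 0 1363948 = true := PT.chkRange_join (lo := 0) (a := 1362717) (b := 1231) _ allP1106 Cfsg.Agent.Lib.TC.D.HNO.P1107.ok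
theorem allP1108 : pt.chkRange rels 0 1365179 = true := PT.chkRange_join (lo := 0) (a := 1363948) (b := 1231) _ allP1107 Cfsg.Agent.Lib.TC.D.HNO.P1108.ok
theorem allP1109 : pt.chkRange rels 0 1366410 = true := PT.chkRange_join (lo := 0) (a := 1365179) (b := 1231) _ allP1108 Cfsg.Agent.Lib.TC.D.HNO.P1109.ok
theorem allP1110 : pt.chkRange rels 0 1367641 = true := PT.chkRange_join (lo := 0) (a := 1366410) (b := 1231) _ allP1109 Cfsg.Agent.Lib.TC.D.HNO.P1110.ok
theorem allP1111 : pt.chkRange rels 0 1368872 = true := PT.chkRange_join (lo := 0) (a := 1367641) (b := 1231) _ allP1110 Cfsg.Agent.Lib.TC.D.HNO.P1111.ok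
theorem allP1112 : pt.chkRange rels 0 1370103 = true := PT.chkRange_join (lo := 0) (a := 1368872) (b := 1231) _ allP1111 Cfsg.Agent.Lib.TC.D.HNO.P1112.ok
theorem allP1113 : pt.chkRange rels 0 1371334 = true := PT.chkRange_join (lo := 0) (a := 1370103) (b := 1231) _ allP1112 Cfsg.Agent.Lib.TC.D.HNO.P1113.ok
theorem allP1114 : pt.chkRange rels 0 1372565 = true := PT.chkRange_join (lo := 0) (a := 1371334) (b := 1231) _ allP1113 Cfsg.Agent.Lib.TC.D.HNO.P1114.ok
theorem allP1115 : pt.chkRange rels 0 1373796 = true := PT.chkRange_join (lo := 0) (a := 1372565) (b := 1231) _ allP1114 Cfsg.Agent.Lib.TC.D.HNO.P1115.ok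
theorem allP1116 : pt.chkRange rels 0 1375027 = true := PT.chkRange_join (lo := 0) (a := 1373796) (b := 1231) _ allP1115 Cfsg.Agent.Lib.TC.D.HNO.P1116.ok
theorem allP1117 : pt.chkRange rels 0 1376258 = true := PT.chkRange_join (lo := 0) (a := 1375027) (b := 1231) _ allP1116 Cfsg.Agent.Lib.TC.D.HNO.P1117.ok
theorem allP1118 : pt.chkRange rels 0 1377489 = true := PT.chkRange_join (lo := 0) (a := 1376258) (b := 1231) _ allP1117 Cfsg.Agent.Lib.TC.D.HNO.P1118.ok
theorem allP1119 : pt.chkRange rels 0 1378720 = true := PT.chkRange_join (lo := 0) (a := 1377489) (b := 1231) _ allP1118 Cfsg.Agent.Lib.TC.D.HNO.P1119.ok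
theorem allP1120 : pt.chkRange rels 0 1379951 = true := PT.chkRange_join (lo := 0) (a := 1378720) (b := 1231) _ allP1119 Cfsg.Agent.Lib.TC.D.HNO.P1120.ok
theorem allP1121 : pt.chkRange rels 0 1381182 = true := PT.chkRange_join (lo := 0) (a := 1379951) (b := 1231) _ allP1120 Cfsg.Agent.Lib.TC.D.HNO.P1121.ok
theorem allP1122 : pt.chkRange rels 0 1382413 = true := PT.chkRange_join (lo := 0) (a := 1381182) (b := 1231) _ allP1121 Cfsg.Agent.Lib.TC.D.HNO.P1122.ok
theorem allP1123 : pt.chkRange rels 0 1383644 = true := PT.chkRange_join (lo := 0) (a := 1382413) (b := 1231) _ allP1122 Cfsg.Agent.Lib.TC.D.HNO.P1123.ok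
theorem allP1124 : pt.chkRange rels 0 1384875 = true := PT.chkRange_join (lo := 0) (a := 1383644) (b := 1231) _ allP1123 Cfsg.Agent.Lib.TC.D.HNO.P1124.ok
theorem allP1125 : pt.chkRange rels 0 1386106 = true := PT.chkRange_join (lo := 0) (a := 1384875) (b := 1231) _ allP1124 Cfsg.Agent.Lib.TC.D.HNO.P1125.ok
theorem allP1126 : pt.chkRange rels 0 1387337 = true := PT.chkRange_join (lo := 0) (a := 1386106) (b := 1231) _ allP1125 Cfsg.Agent.Lib.TC.D.HNO.P1126.ok
theorem allP1127 : pt.chkRange rels 0 1388568 = true := PT.chkRange_join (lo := 0) (a := 1387337) (b := 1231) _ allP1126 Cfsg.Agent.Lib.TC.D.HNO.P1127.ok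
theorem allP1128 : pt.chkRange rels 0 1389799 = true := PT.chkRange_join (lo := 0) (a := 1388568) (b := 1231) _ allP1127 Cfsg.Agent.Lib.TC.D.HNO.P1128.ok
theorem allP1129 : pt.chkRange rels 0 1391030 = true := PT.chkRange_join (lo := 0) (a := 1389799) (b := 1231) _ allP1128 Cfsg.Agent.Lib.TC.D.HNO.P1129.ok
theorem allP1130 : pt.chkRange rels 0 1392261 = true := PT.chkRange_join (lo := 0) (a := 1391030) (b := 1231) _ allP1129 Cfsg.Agent.Lib.TC.D.HNO.P1130.ok
theorem allP1131 : pt.chkRange rels 0 1393492 = true := PT.chkRange_join (lo := 0) (a := 1392261) (b := 1231) _ allP1130 Cfsg.Agent.Lib.TC.D.HNO.P1131.ok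
theorem allP1132 : pt.chkRange rels 0 1394723 = true := PT.chkRange_join (lo := 0) (a := 1393492) (b := 1231) _ allP1131 Cfsg.Agent.Lib.TC.D.HNO.P1132.ok
theorem allP1133 : pt.chkRange rels 0 1395954 = true := PT.chkRange_join (lo := 0) (a := 1394723) (b := 1231) _ allP1132 Cfsg.Agent.Lib.TC.D.HNO.P1133.ok
theorem allP1134 : pt.chkRange rels 0 1397185 = true := PT.chkRange_join (lo := 0) (a := 1395954) (b := 1231) _ allP1133 Cfsg.Agent.Lib.TC.D.HNO.P1134.ok
theorem allP1135 : pt.chkRange rels 0 1398416 = true := PT.chkRange_join (lo := 0) (a := 1397185) (b := 1231) _ allP1134 Cfsg.Agent.Lib.TC.D.HNO.P1135.ok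
theorem allP1136 : pt.chkRange rels 0 1399647 = true := PT.chkRange_join (lo := 0) (a := 1398416) (b := 1231) _ allP1135 Cfsg.Agent.Lib.TC.D.HNO.P1136.ok
theorem allP1137 : pt.chkRange rels 0 1400878 = true := PT.chkRange_join (lo := 0) (a := 1399647) (b := 1231) _ allP1136 Cfsg.Agent.Lib.TC.D.HNO.P1137.ok
theorem allP1138 : pt.chkRange rels 0 1402109 = true := PT.chkRange_join (lo := 0) (a := 1400878) (b := 1231) _ allP1137 Cfsg.Agent.Lib.TC.D.HNO.P1138.ok
theorem allP1139 : pt.chkRange rels 0 1403340 = true := PT.chkRange_join (lo := 0) (a := 1402109) (b := 1231) _ allP1138 Cfsg.Agent.Lib.TC.D.HNO.P1139.ok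
theorem allP1140 : pt.chkRange rels 0 1404571 = true := PT.chkRange_join (lo := 0) (a := 1403340) (b := 1231) _ allP1139 Cfsg.Agent.Lib.TC.D.HNO.P1140.ok
theorem allP1141 : pt.chkRange rels 0 1405802 = true := PT.chkRange_join (lo := 0) (a := 1404571) (b := 1231) _ allP1140 Cfsg.Agent.Lib.TC.D.HNO.P1141.ok
theorem allP1142 : pt.chkRange rels 0 1407033 = true := PT.chkRange_join (lo := 0) (a := 1405802) (b := 1231) _ allP1141 Cfsg.Agent.Lib.TC.D.HNO.P1142.ok
theorem allP1143 : pt.chkRange rels 0 1408264 = true := PT.chkRange_join (lo := 0) (a := 1407033) (b := 1231) _ allP1142 Cfsg.Agent.Lib.TC.D.HNO.P1143.ok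
theorem allP1144 : pt.chkRange rels 0 1409495 = true := PT.chkRange_join (lo := 0) (a := 1408264) (b := 1231) _ allP1143 Cfsg.Agent.Lib.TC.D.HNO.P1144.ok
theorem allP1145 : pt.chkRange rels 0 1410726 = true := PT.chkRange_join (lo := 0) (a := 1409495) (b := 1231) _ allP1144 Cfsg.Agent.Lib.TC.D.HNO.P1145.ok
theorem allP1146 : pt.chkRange rels 0 1411957 = true := PT.chkRange_join (lo := 0) (a := 1410726) (b := 1231) _ allP1145 Cfsg.Agent.Lib.TC.D.HNO.P1146.ok
theorem allP1147 : pt.chkRange rels 0 1413188 = true := PT.chkRange_join (lo := 0) (a := 1411957) (b := 1231) _ allP1146 Cfsg.Agent.Lib.TC.D.HNO.P1147.ok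
theorem allP1148 : pt.chkRange rels 0 1414419 = true := PT.chkRange_join (lo := 0) (a := 1413188) (b := 1231) _ allP1147 Cfsg.Agent.Lib.TC.D.HNO.P1148.ok
theorem allP1149 : pt.chkRange rels 0 1415650 = true := PT.chkRange_join (lo := 0) (a := 1414419) (b := 1231) _ allP1148 Cfsg.Agent.Lib.TC.D.HNO.P1149.ok
theorem allP1150 : pt.chkRange rels 0 1416881 = true := PT.chkRange_join (lo := 0) (a := 1415650) (b := 1231) _ allP1149 Cfsg.Agent.Lib.TC.D.HNO.P1150.ok
theorem allP1151 : pt.chkRange rels 0 1418112 = true := PT.chkRange_join (lo := 0) (a := 1416881) (b := 1231) _ allP1150 Cfsg.Agent.Lib.TC.D.HNO.P1151.ok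
theorem allP1152 : pt.chkRange rels 0 1419343 = true := PT.chkRange_join (lo := 0) (a := 1418112) (b := 1231) _ allP1151 Cfsg.Agent.Lib.TC.D.HNO.P1152.ok
theorem allP1153 : pt.chkRange rels 0 1420574 = true := PT.chkRange_join (lo := 0) (a := 1419343) (b := 1231) _ allP1152 Cfsg.Agent.Lib.TC.D.HNO.P1153.ok
theorem allP1154 : pt.chkRange rels 0 1421805 = true := PT.chkRange_join (lo := 0) (a := 1420574) (b := 1231) _ allP1153 Cfsg.Agent.Lib.TC.D.HNO.P1154.ok
theorem allP1155 : pt.chkRange rels 0 1423036 = true := PT.chkRange_join (lo := 0) (a := 1421805) (b := 1231) _ allP1154 Cfsg.Agent.Lib.TC.D.HNO.P1155.ok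
theorem allP1156 : pt.chkRange rels 0 1424267 = true := PT.chkRange_join (lo := 0) (a := 1423036) (b := 1231) _ allP1155 Cfsg.Agent.Lib.TC.D.HNO.P1156.ok
theorem allP1157 : pt.chkRange rels 0 1425498 = true := PT.chkRange_join (lo := 0) (a := 1424267) (b := 1231) _ allP1156 Cfsg.Agent.Lib.TC.D.HNO.P1157.ok
theorem allP1158 : pt.chkRange rels 0 1426729 = true := PT.chkRange_join (lo := 0) (a := 1425498) (b := 1231) _ allP1157 Cfsg.Agent.Lib.TC.D.HNO.P1158.ok
theorem allP1159 : pt.chkRange rels 0 1427960 = true := PT.chkRange_join (lo := 0) (a := 1426729) (b := 1231) _ allP1158 Cfsg.Agent.Lib.TC.D.HNO.P1159.ok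
theorem allP1160 : pt.chkRange rels 0 1429191 = true := PT.chkRange_join (lo := 0) (a := 1427960) (b := 1231) _ allP1159 Cfsg.Agent.Lib.TC.D.HNO.P1160.ok
theorem allP1161 : pt.chkRange rels 0 1430422 = true := PT.chkRange_join (lo := 0) (a := 1429191) (b := 1231) _ allP1160 Cfsg.Agent.Lib.TC.D.HNO.P1161.ok
theorem allP1162 : pt.chkRange rels 0 1431653 = true := PT.chkRange_join (lo := 0) (a := 1430422) (b := 1231) _ allP1161 Cfsg.Agent.Lib.TC.D.HNO.P1162.ok
theorem allP1163 : pt.chkRange rels 0 1432884 = true := PT.chkRange_join (lo := 0) (a := 1431653) (b := 1231) _ allP1162 Cfsg.Agent.Lib.TC.D.HNO.P1163.ok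
theorem allP1164 : pt.chkRange rels 0 1434115 = true := PT.chkRange_join (lo := 0) (a := 1432884) (b := 1231) _ allP1163 Cfsg.Agent.Lib.TC.D.HNO.P1164.ok
theorem allP1165 : pt.chkRange rels 0 1435346 = true := PT.chkRange_join (lo := 0) (a := 1434115) (b := 1231) _ allP1164 Cfsg.Agent.Lib.TC.D.HNO.P1165.ok
theorem allP1166 : pt.chkRange rels 0 1436577 = true := PT.chkRange_join (lo := 0) (a := 1435346) (b := 1231) _ allP1165 Cfsg.Agent.Lib.TC.D.HNO.P1166.ok
theorem allP1167 : pt.chkRange rels 0 1437808 = true := PT.chkRange_join (lo := 0) (a := 1436577) (b := 1231) _ allP1166 Cfsg.Agent.Lib.TC.D.HNO.P1167.ok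
theorem allP1168 : pt.chkRange rels 0 1439039 = true := PT.chkRange_join (lo := 0) (a := 1437808) (b := 1231) _ allP1167 Cfsg.Agent.Lib.TC.D.HNO.P1168.ok
theorem allP1169 : pt.chkRange rels 0 1440270 = true := PT.chkRange_join (lo := 0) (a := 1439039) (b := 1231) _ allP1168 Cfsg.Agent.Lib.TC.D.HNO.P1169.ok
theorem allP1170 : pt.chkRange rels 0 1441501 = true := PT.chkRange_join (lo := 0) (a := 1440270) (b := 1231) _ allP1169 Cfsg.Agent.Lib.TC.D.HNO.P1170.ok
theorem allP1171 : pt.chkRange rels 0 1442732 = true := PT.chkRange_join (lo := 0) (a := 1441501) (b := 1231) _ allP1170 Cfsg.Agent.Lib.TC.D.HNO.P1171.ok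
theorem allP1172 : pt.chkRange rels 0 1443963 = true := PT.chkRange_join (lo := 0) (a := 1442732) (b := 1231) _ allP1171 Cfsg.Agent.Lib.TC.D.HNO.P1172.ok
theorem allP1173 : pt.chkRange rels 0 1445194 = true := PT.chkRange_join (lo := 0) (a := 1443963) (b := 1231) _ allP1172 Cfsg.Agent.Lib.TC.D.HNO.P1173.ok
theorem allP1174 : pt.chkRange rels 0 1446425 = true := PT.chkRange_join (lo := 0) (a := 1445194) (b := 1231) _ allP1173 Cfsg.Agent.Lib.TC.D.HNO.P1174.ok
theorem allP1175 : pt.chkRange rels 0 1447656 = true := PT.chkRange_join (lo := 0) (a := 1446425) (b := 1231) _ allP1174 Cfsg.Agent.Lib.TC.D.HNO.P1175.ok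
theorem allP1176 : pt.chkRange rels 0 1448887 = true := PT.chkRange_join (lo := 0) (a := 1447656) (b := 1231) _ allP1175 Cfsg.Agent.Lib.TC.D.HNO.P1176.ok
theorem allP1177 : pt.chkRange rels 0 1450118 = true := PT.chkRange_join (lo := 0) (a := 1448887) (b := 1231) _ allP1176 Cfsg.Agent.Lib.TC.D.HNO.P1177.ok
theorem allP1178 : pt.chkRange rels 0 1451349 = true := PT.chkRange_join (lo := 0) (a := 1450118) (b := 1231) _ allP1177 Cfsg.Agent.Lib.TC.D.HNO.P1178.ok
theorem allP1179 : pt.chkRange rels 0 1452580 = true := PT.chkRange_join (lo := 0) (a := 1451349) (b := 1231) _ allP1178 Cfsg.Agent.Lib.TC.D.HNO.P1179.ok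
theorem allP1180 : pt.chkRange rels 0 1453811 = true := PT.chkRange_join (lo := 0) (a := 1452580) (b := 1231) _ allP1179 Cfsg.Agent.Lib.TC.D.HNO.P1180.ok
theorem allP1181 : pt.chkRange rels 0 1455042 = true := PT.chkRange_join (lo := 0) (a := 1453811) (b := 1231) _ allP1180 Cfsg.Agent.Lib.TC.D.HNO.P1181.ok
theorem allP1182 : pt.chkRange rels 0 1456273 = true := PT.chkRange_join (lo := 0) (a := 1455042) (b := 1231) _ allP1181 Cfsg.Agent.Lib.TC.D.HNO.P1182.ok
theorem allP1183 : pt.chkRange rels 0 1457504 = true := PT.chkRange_join (lo := 0) (a := 1456273) (b := 1231) _ allP1182 Cfsg.Agent.Lib.TC.D.HNO.P1183.ok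
theorem allP1184 : pt.chkRange rels 0 1458735 = true := PT.chkRange_join (lo := 0) (a := 1457504) (b := 1231) _ allP1183 Cfsg.Agent.Lib.TC.D.HNO.P1184.ok
theorem allP1185 : pt.chkRange rels 0 1459966 = true := PT.chkRange_join (lo := 0) (a := 1458735) (b := 1231) _ allP1184 Cfsg.Agent.Lib.TC.D.HNO.P1185.ok
theorem allP1186 : pt.chkRange rels 0 1461197 = true := PT.chkRange_join (lo := 0) (a := 1459966) (b := 1231) _ allP1185 Cfsg.Agent.Lib.TC.D.HNO.P1186.ok
theorem allP1187 : pt.chkRange rels 0 1462428 = true := PT.chkRange_join (lo := 0) (a := 1461197) (b := 1231) _ allP1186 Cfsg.Agent.Lib.TC.D.HNO.P1187.ok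
theorem allP1188 : pt.chkRange rels 0 1463659 = true := PT.chkRange_join (lo := 0) (a := 1462428) (b := 1231) _ allP1187 Cfsg.Agent.Lib.TC.D.HNO.P1188.ok
theorem allP1189 : pt.chkRange rels 0 1464890 = true := PT.chkRange_join (lo := 0) (a := 1463659) (b := 1231) _ allP1188 Cfsg.Agent.Lib.TC.D.HNO.P1189.ok
theorem allP1190 : pt.chkRange rels 0 1466121 = true := PT.chkRange_join (lo := 0) (a := 1464890) (b := 1231) _ allP1189 Cfsg.Agent.Lib.TC.D.HNO.P1190.ok
theorem allP1191 : pt.chkRange rels 0 1467352 = true := PT.chkRange_join (lo := 0) (a := 1466121) (b := 1231) _ allP1190 Cfsg.Agent.Lib.TC.D.HNO.P1191.ok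
theorem allP1192 : pt.chkRange rels 0 1468583 = true := PT.chkRange_join (lo := 0) (a := 1467352) (b := 1231) _ allP1191 Cfsg.Agent.Lib.TC.D.HNO.P1192.ok
theorem allP1193 : pt.chkRange rels 0 1469814 = true := PT.chkRange_join (lo := 0) (a := 1468583) (b := 1231) _ allP1192 Cfsg.Agent.Lib.TC.D.HNO.P1193.ok
theorem allP1194 : pt.chkRange rels 0 1471045 = true := PT.chkRange_join (lo := 0) (a := 1469814) (b := 1231) _ allP1193 Cfsg.Agent.Lib.TC.D.HNO.P1194.ok
theorem allP1195 : pt.chkRange rels 0 1472276 = true := PT.chkRange_join (lo := 0) (a := 1471045) (b := 1231) _ allP1194 Cfsg.Agent.Lib.TC.D.HNO.P1195.ok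
theorem allP1196 : pt.chkRange rels 0 1473507 = true := PT.chkRange_join (lo := 0) (a := 1472276) (b := 1231) _ allP1195 Cfsg.Agent.Lib.TC.D.HNO.P1196.ok
theorem allP1197 : pt.chkRange rels 0 1474738 = true := PT.chkRange_join (lo := 0) (a := 1473507) (b := 1231) _ allP1196 Cfsg.Agent.Lib.TC.D.HNO.P1197.ok
theorem allP1198 : pt.chkRange rels 0 1475969 = true := PT.chkRange_join (lo := 0) (a := 1474738) (b := 1231) _ allP1197 Cfsg.Agent.Lib.TC.D.HNO.P1198.ok
theorem allP1199 : pt.chkRange rels 0 1477200 = true := PT.chkRange_join (lo := 0) (a := 1475969) (b := 1231) _ allP1198 Cfsg.Agent.Lib.TC.D.HNO.P1199.ok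
theorem allP1200 : pt.chkRange rels 0 1478431 = true := PT.chkRange_join (lo := 0) (a := 1477200) (b := 1231) _ allP1199 Cfsg.Agent.Lib.TC.D.HNO.P1200.ok
theorem allP1201 : pt.chkRange rels 0 1479662 = true := PT.chkRange_join (lo := 0) (a := 1478431) (b := 1231) _ allP1200 Cfsg.Agent.Lib.TC.D.HNO.P1201.ok
theorem allP1202 : pt.chkRange rels 0 1480893 = true := PT.chkRange_join (lo := 0) (a := 1479662) (b := 1231) _ allP1201 Cfsg.Agent.Lib.TC.D.HNO.P1202.ok
theorem allP1203 : pt.chkRange rels 0 1482124 = true := PT.chkRange_join (lo := 0) (a := 1480893) (b := 1231) _ allP1202 Cfsg.Agent.Lib.TC.D.HNO.P1203.ok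
theorem allP1204 : pt.chkRange rels 0 1483355 = true := PT.chkRange_join (lo := 0) (a := 1482124) (b := 1231) _ allP1203 Cfsg.Agent.Lib.TC.D.HNO.P1204.ok
theorem allP1205 : pt.chkRange rels 0 1484586 = true := PT.chkRange_join (lo := 0) (a := 1483355) (b := 1231) _ allP1204 Cfsg.Agent.Lib.TC.D.HNO.P1205.ok
theorem allP1206 : pt.chkRange rels 0 1485817 = true := PT.chkRange_join (lo := 0) (a := 1484586) (b := 1231) _ allP1205 Cfsg.Agent.Lib.TC.D.HNO.P1206.ok
theorem allP1207 : pt.chkRange rels 0 1487048 = true := PT.chkRange_join (lo := 0) (a := 1485817) (b := 1231) _ allP1206 Cfsg.Agent.Lib.TC.D.HNO.P1207.ok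
theorem allP1208 : pt.chkRange rels 0 1488279 = true := PT.chkRange_join (lo := 0) (a := 1487048) (b := 1231) _ allP1207 Cfsg.Agent.Lib.TC.D.HNO.P1208.ok
theorem allP1209 : pt.chkRange rels 0 1489510 = true := PT.chkRange_join (lo := 0) (a := 1488279) (b := 1231) _ allP1208 Cfsg.Agent.Lib.TC.D.HNO.P1209.ok
theorem allP1210 : pt.chkRange rels 0 1490741 = true := PT.chkRange_join (lo := 0) (a := 1489510) (b := 1231) _ allP1209 Cfsg.Agent.Lib.TC.D.HNO.P1210.ok
theorem allP1211 : pt.chkRange rels 0 1491972 = true := PT.chkRange_join (lo := 0) (a := 1490741) (b := 1231) _ allP1210 Cfsg.Agent.Lib.TC.D.HNO.P1211.ok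
theorem allP1212 : pt.chkRange rels 0 1493203 = true := PT.chkRange_join (lo := 0) (a := 1491972) (b := 1231) _ allP1211 Cfsg.Agent.Lib.TC.D.HNO.P1212.ok
theorem allP1213 : pt.chkRange rels 0 1494434 = true := PT.chkRange_join (lo := 0) (a := 1493203) (b := 1231) _ allP1212 Cfsg.Agent.Lib.TC.D.HNO.P1213.ok
theorem allP1214 : pt.chkRange rels 0 1495665 = true := PT.chkRange_join (lo := 0) (a := 1494434) (b := 1231) _ allP1213 Cfsg.Agent.Lib.TC.D.HNO.P1214.ok
theorem allP1215 : pt.chkRange rels 0 1496896 = true := PT.chkRange_join (lo := 0) (a := 1495665) (b := 1231) _ allP1214 Cfsg.Agent.Lib.TC.D.HNO.P1215.ok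
theorem allP1216 : pt.chkRange rels 0 1498127 = true := PT.chkRange_join (lo := 0) (a := 1496896) (b := 1231) _ allP1215 Cfsg.Agent.Lib.TC.D.HNO.P1216.ok
theorem allP1217 : pt.chkRange rels 0 1499358 = true := PT.chkRange_join (lo := 0) (a := 1498127) (b := 1231) _ allP1216 Cfsg.Agent.Lib.TC.D.HNO.P1217.ok
theorem allP1218 : pt.chkRange rels 0 1500589 = true := PT.chkRange_join (lo := 0) (a := 1499358) (b := 1231) _ allP1217 Cfsg.Agent.Lib.TC.D.HNO.P1218.ok
theorem allP1219 : pt.chkRange rels 0 1501820 = true := PT.chkRange_join (lo := 0) (a := 1500589) (b := 1231) _ allP1218 Cfsg.Agent.Lib.TC.D.HNO.P1219.ok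
theorem allP1220 : pt.chkRange rels 0 1503051 = true := PT.chkRange_join (lo := 0) (a := 1501820) (b := 1231) _ allP1219 Cfsg.Agent.Lib.TC.D.HNO.P1220.ok
theorem allP1221 : pt.chkRange rels 0 1504282 = true := PT.chkRange_join (lo := 0) (a := 1503051) (b := 1231) _ allP1220 Cfsg.Agent.Lib.TC.D.HNO.P1221.ok
theorem allP1222 : pt.chkRange rels 0 1505513 = true := PT.chkRange_join (lo := 0) (a := 1504282) (b := 1231) _ allP1221 Cfsg.Agent.Lib.TC.D.HNO.P1222.ok
theorem allP1223 : pt.chkRange rels 0 1506744 = true := PT.chkRange_join (lo := 0) (a := 1505513) (b := 1231) _ allP1222 Cfsg.Agent.Lib.TC.D.HNO.P1223.ok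
theorem allP1224 : pt.chkRange rels 0 1507975 = true := PT.chkRange_join (lo := 0) (a := 1506744) (b := 1231) _ allP1223 Cfsg.Agent.Lib.TC.D.HNO.P1224.ok
theorem allP1225 : pt.chkRange rels 0 1509206 = true := PT.chkRange_join (lo := 0) (a := 1507975) (b := 1231) _ allP1224 Cfsg.Agent.Lib.TC.D.HNO.P1225.ok
theorem allP1226 : pt.chkRange rels 0 1510437 = true := PT.chkRange_join (lo := 0) (a := 1509206) (b := 1231) _ allP1225 Cfsg.Agent.Lib.TC.D.HNO.P1226.ok
theorem allP1227 : pt.chkRange rels 0 1511668 = true := PT.chkRange_join (lo := 0) (a := 1510437) (b := 1231) _ allP1226 Cfsg.Agent.Lib.TC.D.HNO.P1227.ok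
theorem allP1228 : pt.chkRange rels 0 1512899 = true := PT.chkRange_join (lo := 0) (a := 1511668) (b := 1231) _ allP1227 Cfsg.Agent.Lib.TC.D.HNO.P1228.ok
theorem allP1229 : pt.chkRange rels 0 1514130 = true := PT.chkRange_join (lo := 0) (a := 1512899) (b := 1231) _ allP1228 Cfsg.Agent.Lib.TC.D.HNO.P1229.ok
theorem allP1230 : pt.chkRange rels 0 1515361 = true := PT.chkRange_join (lo := 0) (a := 1514130) (b := 1231) _ allP1229 Cfsg.Agent.Lib.TC.D.HNO.P1230.ok
theorem allP1231 : pt.chkRange rels 0 1516592 = true := PT.chkRange_join (lo := 0) (a := 1515361) (b := 1231) _ allP1230 Cfsg.Agent.Lib.TC.D.HNO.P1231.ok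
theorem allP1232 : pt.chkRange rels 0 1517823 = true := PT.chkRange_join (lo := 0) (a := 1516592) (b := 1231) _ allP1231 Cfsg.Agent.Lib.TC.D.HNO.P1232.ok
theorem allP1233 : pt.chkRange rels 0 1519054 = true := PT.chkRange_join (lo := 0) (a := 1517823) (b := 1231) _ allP1232 Cfsg.Agent.Lib.TC.D.HNO.P1233.ok
theorem allP1234 : pt.chkRange rels 0 1520285 = true := PT.chkRange_join (lo := 0) (a := 1519054) (b := 1231) _ allP1233 Cfsg.Agent.Lib.TC.D.HNO.P1234.ok
theorem allP1235 : pt.chkRange rels 0 1521516 = true := PT.chkRange_join (lo := 0) (a := 1520285) (b := 1231) _ allP1234 Cfsg.Agent.Lib.TC.D.HNO.P1235.ok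
theorem allP1236 : pt.chkRange rels 0 1522747 = true := PT.chkRange_join (lo := 0) (a := 1521516) (b := 1231) _ allP1235 Cfsg.Agent.Lib.TC.D.HNO.P1236.ok
theorem allP1237 : pt.chkRange rels 0 1523978 = true := PT.chkRange_join (lo := 0) (a := 1522747) (b := 1231) _ allP1236 Cfsg.Agent.Lib.TC.D.HNO.P1237.ok
theorem allP1238 : pt.chkRange rels 0 1525209 = true := PT.chkRange_join (lo := 0) (a := 1523978) (b := 1231) _ allP1237 Cfsg.Agent.Lib.TC.D.HNO.P1238.ok
theorem allP1239 : pt.chkRange rels 0 1526440 = true := PT.chkRange_join (lo := 0) (a := 1525209) (b := 1231) _ allP1238 Cfsg.Agent.Lib.TC.D.HNO.P1239.ok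
theorem allP1240 : pt.chkRange rels 0 1527671 = true := PT.chkRange_join (lo := 0) (a := 1526440) (b := 1231) _ allP1239 Cfsg.Agent.Lib.TC.D.HNO.P1240.ok
theorem allP1241 : pt.chkRange rels 0 1528902 = true := PT.chkRange_join (lo := 0) (a := 1527671) (b := 1231) _ allP1240 Cfsg.Agent.Lib.TC.D.HNO.P1241.ok
theorem allP1242 : pt.chkRange rels 0 1530133 = true := PT.chkRange_join (lo := 0) (a := 1528902) (b := 1231) _ allP1241 Cfsg.Agent.Lib.TC.D.HNO.P1242.ok
theorem allP1243 : pt.chkRange rels 0 1531364 = true := PT.chkRange_join (lo := 0) (a := 1530133) (b := 1231) _ allP1242 Cfsg.Agent.Lib.TC.D.HNO.P1243.ok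
theorem allP1244 : pt.chkRange rels 0 1532595 = true := PT.chkRange_join (lo := 0) (a := 1531364) (b := 1231) _ allP1243 Cfsg.Agent.Lib.TC.D.HNO.P1244.ok
theorem allP1245 : pt.chkRange rels 0 1533826 = true := PT.chkRange_join (lo := 0) (a := 1532595) (b := 1231) _ allP1244 Cfsg.Agent.Lib.TC.D.HNO.P1245.ok
theorem allP1246 : pt.chkRange rels 0 1535057 = true := PT.chkRange_join (lo := 0) (a := 1533826) (b := 1231) _ allP1245 Cfsg.Agent.Lib.TC.D.HNO.P1246.ok
theorem allP1247 : pt.chkRange rels 0 1536288 = true := PT.chkRange_join (lo := 0) (a := 1535057) (b := 1231) _ allP1246 Cfsg.Agent.Lib.TC.D.HNO.P1247.ok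
theorem allP1248 : pt.chkRange rels 0 1537519 = true := PT.chkRange_join (lo := 0) (a := 1536288) (b := 1231) _ allP1247 Cfsg.Agent.Lib.TC.D.HNO.P1248.ok
theorem allP1249 : pt.chkRange rels 0 1538750 = true := PT.chkRange_join (lo := 0) (a := 1537519) (b := 1231) _ allP1248 Cfsg.Agent.Lib.TC.D.HNO.P1249.ok
theorem allP1250 : pt.chkRange rels 0 1539000 = true := PT.chkRange_join (lo := 0) (a := 1538750) (b := 250) _ allP1249 Cfsg.Agent.Lib.TC.D.HNO.P1250.ok

theorem hgood : pt.Good rels where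
  hpos := by decide
  hinv := by decide +kernel
  hrels := by decide +kernel
  hchk := allP1250

end Cfsg.Agent.Lib.TC.D.HNO.PtOk
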