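import Cfsg.Agent.Lib.TC.G.HN
import Cfsg.Agent.Lib.TC.D.HNO.PT0
import Cfsg.Agent.Lib.TC.D.HNO.PT1
import Cfsg.Agent.Lib.TC.D.HNO.PT2
import Cfsg.Agent.Lib.TC.D.HNO.PT3
import Cfsg.Agent.Lib.TC.D.HNO.PT4
import Cfsg.Agent.Lib.TC.D.HNO.PT5
import Cfsg.Agent.Lib.TC.D.HNO.PT6
import Cfsg.Agent.Lib.TC.D.HNO.PT7
import Cfsg.Agent.Lib.TC.D.HNO.PT8
import Cfsg.Agent.Lib.TC.D.HNO.PT9
import Cfsg.Agent.Lib.TC.D.HNO.PT10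
import Cfsg.Agent.Lib.TC.D.HNO.PT11
import Cfsg.Agent.Lib.TC.D.HNO.PT12
import Cfsg.Agent.Lib.TC.D.HNO.PT13
import Cfsg.Agent.Lib.TC.D.HNO.PT14
import Cfsg.Agent.Lib.TC.D.HNO.PT15

namespace Cfsg.Agent.Lib.TC.D.HNO.Tab

open Cfsg.Agent.Lib.TC.Core Cfsg.Agent.Lib.TC.Enc Cfsg.Agent.Lib.TC.Pres Cfsg.Agent.Lib.TC.Perm Cfsg.Agent.Lib.TC.Main

set_option maxRecDepth 100000

/-- The chunks of the table. -/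
noncomputable def ptree : Tr Nat := (Tr.node (Tr.node (Tr.node (Tr.node Cfsg.Agent.Lib.TC.D.HNO.PT0.tree Cfsg.Agent.Lib.TC.D.HNO.PT8.tree) (Tr.node Cfsg.Agent.Lib.TC.D.HNO.PT4.tree Cfsg.Agent.Lib.TC.D.HNO.PT12.tree)) (Tr.node (Tr.node Cfsg.Agent.Lib.TC.D.HNO.PT2.tree Cfsg.Agent.Lib.TC.D.HNO.PT10.tree) (Tr.node Cfsg.Agent.Lib.TC.D.HNO.PT6.tree Cfsg.Agent.Lib.TC.D.HNO.PT14.tree))) (Tr.node (Tr.node (Tr.node Cfsg.Agent.Lib.TC.D.HNO.PT1.tree Cfsg.Agent.Lib.TC.D.HNO.PT9.tree) (Tr.node Cfsg.Agent.Lib.TC.D.HNO.PT5.tree Cfsg.Agent.Lib.TC.D.HNO.PT13.tree)) (Tr.node (Tr.node Cfsg.Agent.Lib.TC.D.HNO.PT3.tree Cfsg.Agent.Lib.TC.D.HNO.PT11.tree) (Tr.node Cfsg.Agent.Lib.TC.D.HNO.PT7.tree Cfsg.Agent.Lib.TC.D.HNO.PT15.tree))))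

/-- The table. -/
noncomputable def pt : PT :=
  mkPT 1539000 7 5 31 9 21 2097151 ptree.get Cfsg.Agent.Lib.TC.G.HN.invF


end Cfsg.Agent.Lib.TC.D.HNO.Tab
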