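import Cfsg.Agent.Lib.TC.D.HNO.Z0
import Cfsg.Agent.Lib.TC.D.HNO.Z1
import Cfsg.Agent.Lib.TC.D.HNO.Z2
import Cfsg.Agent.Lib.TC.D.HNO.Z3
import Cfsg.Agent.Lib.TC.D.HNO.Z4
import Cfsg.Agent.Lib.TC.D.HNO.Z5
import Cfsg.Agent.Lib.TC.D.HNO.Z6
import Cfsg.Agent.Lib.TC.D.HNO.Z7
import Cfsg.Agent.Lib.TC.D.HNO.Z8
import Cfsg.Agent.Lib.TC.D.HNO.Lb
import Cfsg.Agent.Lib.TC.D.HNO.Orb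

namespace Cfsg.Agent.Lib.TC.D.HNO.Cnt

open Cfsg.Agent.Lib.TC.Core Cfsg.Agent.Lib.TC.Perm Cfsg.Agent.Lib.TC.Chain Cfsg.Agent.Lib.TC.D.HNO.Tab Cfsg.Agent.Lib.TC.D.HNO.OrbD

set_option maxRecDepth 100000

theorem hb : allBelow lab 9 pt.n = true := Cfsg.Agent.Lib.TC.D.HNO.Lb.ok

theorem hsize : ∀ ℓ, ℓ < 9 → countAcc lab ℓ 0 pt.n 0 = size ℓ := by
  intro l hl
  have hl' : l = 0 ∨ l = 1 ∨ l = 2 ∨ l = 3 ∨ l = 4 ∨ l = 5 ∨ l = 6 ∨ l = 7 ∨ l = 8 := by omega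
  rcases hl' with rfl | rfl | rfl | rfl | rfl | rfl | rfl | rfl | rfl
  · exact Cfsg.Agent.Lib.TC.D.HNO.Z0.ok
  · exact Cfsg.Agent.Lib.TC.D.HNO.Z1.ok
  · exact Cfsg.Agent.Lib.TC.D.HNO.Z2.ok
  · exact Cfsg.Agent.Lib.TC.D.HNO.Z3.ok
  · exact Cfsg.Agent.Lib.TC.D.HNO.Z4.ok
  · exact Cfsg.Agent.Lib.TC.D.HNO.Z5.ok
  · exact Cfsg.Agent.Lib.TC.D.HNO.Z6.ok
  · exact Cfsg.Agent.Lib.TC.D.HNO.Z7.ok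
  · exact Cfsg.Agent.Lib.TC.D.HNO.Z8.ok

end Cfsg.Agent.Lib.TC.D.HNO.Cnt
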