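import Cfsg.Agent.Lib.TC.D.HNO.OrbD
import Cfsg.Agent.Lib.TC.D.HNO.O0
import Cfsg.Agent.Lib.TC.D.HNO.O1
import Cfsg.Agent.Lib.TC.D.HNO.O2
import Cfsg.Agent.Lib.TC.D.HNO.O3
import Cfsg.Agent.Lib.TC.D.HNO.O4
import Cfsg.Agent.Lib.TC.D.HNO.O5
import Cfsg.Agent.Lib.TC.D.HNO.O6
import Cfsg.Agent.Lib.TC.D.HNO.O7
import Cfsg.Agent.Lib.TC.D.HNO.O8
import Cfsg.Agent.Lib.TC.D.HNO.O9
import Cfsg.Agent.Lib.TC.D.HNO.O10
import Cfsg.Agent.Lib.TC.D.HNO.O11
import Cfsg.Agent.Lib.TC.D.HNO.O12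
import Cfsg.Agent.Lib.TC.D.HNO.O13
import Cfsg.Agent.Lib.TC.D.HNO.O14
import Cfsg.Agent.Lib.TC.D.HNO.O15
import Cfsg.Agent.Lib.TC.D.HNO.O16
import Cfsg.Agent.Lib.TC.D.HNO.O17
import Cfsg.Agent.Lib.TC.D.HNO.O18
import Cfsg.Agent.Lib.TC.D.HNO.O19
import Cfsg.Agent.Lib.TC.D.HNO.O20
import Cfsg.Agent.Lib.TC.D.HNO.O21
import Cfsg.Agent.Lib.TC.D.HNO.O22
import Cfsg.Agent.Lib.TC.D.HNO.O23
import Cfsg.Agent.Lib.TC.D.HNO.O24
import Cfsg.Agent.Lib.TC.D.HNO.O25
import Cfsg.Agent.Lib.TC.D.HNO.O26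
import Cfsg.Agent.Lib.TC.D.HNO.O27
import Cfsg.Agent.Lib.TC.D.HNO.O28
import Cfsg.Agent.Lib.TC.D.HNO.O29
import Cfsg.Agent.Lib.TC.D.HNO.O30
import Cfsg.Agent.Lib.TC.D.HNO.O31
import Cfsg.Agent.Lib.TC.D.HNO.O32
import Cfsg.Agent.Lib.TC.D.HNO.O33
import Cfsg.Agent.Lib.TC.D.HNO.O34
import Cfsg.Agent.Lib.TC.D.HNO.O35
import Cfsg.Agent.Lib.TC.D.HNO.O36
import Cfsg.Agent.Lib.TC.D.HNO.O37
import Cfsg.Agent.Lib.TC.D.HNO.O38
import Cfsg.Agent.Lib.TC.D.HNO.O39
import Cfsg.Agent.Lib.TC.D.HNO.O40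
import Cfsg.Agent.Lib.TC.D.HNO.O41
import Cfsg.Agent.Lib.TC.D.HNO.O42
import Cfsg.Agent.Lib.TC.D.HNO.O43
import Cfsg.Agent.Lib.TC.D.HNO.O44
import Cfsg.Agent.Lib.TC.D.HNO.O45
import Cfsg.Agent.Lib.TC.D.HNO.O46
import Cfsg.Agent.Lib.TC.D.HNO.O47
import Cfsg.Agent.Lib.TC.D.HNO.O48
import Cfsg.Agent.Lib.TC.D.HNO.O49
import Cfsg.Agent.Lib.TC.D.HNO.O50
import Cfsg.Agent.Lib.TC.D.HNO.O51
import Cfsg.Agent.Lib.TC.D.HNO.O52
import Cfsg.Agent.Lib.TC.D.HNO.O53
import Cfsg.Agent.Lib.TC.D.HNO.O54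
import Cfsg.Agent.Lib.TC.D.HNO.O55
import Cfsg.Agent.Lib.TC.D.HNO.O56
import Cfsg.Agent.Lib.TC.D.HNO.O57
import Cfsg.Agent.Lib.TC.D.HNO.O58
import Cfsg.Agent.Lib.TC.D.HNO.O59
import Cfsg.Agent.Lib.TC.D.HNO.O60
import Cfsg.Agent.Lib.TC.D.HNO.O61
import Cfsg.Agent.Lib.TC.D.HNO.O62
import Cfsg.Agent.Lib.TC.D.HNO.O63
import Cfsg.Agent.Lib.TC.D.HNO.O64
import Cfsg.Agent.Lib.TC.D.HNO.O65
import Cfsg.Agent.Lib.TC.D.HNO.O66
import Cfsg.Agent.Lib.TC.D.HNO.O67
import Cfsg.Agent.Lib.TC.D.HNO.O68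
import Cfsg.Agent.Lib.TC.D.HNO.O69
import Cfsg.Agent.Lib.TC.D.HNO.O70
import Cfsg.Agent.Lib.TC.D.HNO.O71
import Cfsg.Agent.Lib.TC.D.HNO.O72
import Cfsg.Agent.Lib.TC.D.HNO.O73
import Cfsg.Agent.Lib.TC.D.HNO.O74
import Cfsg.Agent.Lib.TC.D.HNO.O75
import Cfsg.Agent.Lib.TC.D.HNO.O76
import Cfsg.Agent.Lib.TC.D.HNO.O77
import Cfsg.Agent.Lib.TC.D.HNO.O78
import Cfsg.Agent.Lib.TC.D.HNO.O79
import Cfsg.Agent.Lib.TC.D.HNO.O80
import Cfsg.Agent.Lib.TC.D.HNO.O81
import Cfsg.Agent.Lib.TC.D.HNO.O82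
import Cfsg.Agent.Lib.TC.D.HNO.O83
import Cfsg.Agent.Lib.TC.D.HNO.O84
import Cfsg.Agent.Lib.TC.D.HNO.O85
import Cfsg.Agent.Lib.TC.D.HNO.O86
import Cfsg.Agent.Lib.TC.D.HNO.O87
import Cfsg.Agent.Lib.TC.D.HNO.O88
import Cfsg.Agent.Lib.TC.D.HNO.O89
import Cfsg.Agent.Lib.TC.D.HNO.O90
import Cfsg.Agent.Lib.TC.D.HNO.O91
import Cfsg.Agent.Lib.TC.D.HNO.O92
import Cfsg.Agent.Lib.TC.D.HNO.O93
import Cfsg.Agent.Lib.TC.D.HNO.O94
import Cfsg.Agent.Lib.TC.D.HNO.O95
import Cfsg.Agent.Lib.TC.D.HNO.O96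
import Cfsg.Agent.Lib.TC.D.HNO.O97
import Cfsg.Agent.Lib.TC.D.HNO.O98
import Cfsg.Agent.Lib.TC.D.HNO.O99
import Cfsg.Agent.Lib.TC.D.HNO.O100
import Cfsg.Agent.Lib.TC.D.HNO.O101
import Cfsg.Agent.Lib.TC.D.HNO.O102
import Cfsg.Agent.Lib.TC.D.HNO.O103
import Cfsg.Agent.Lib.TC.D.HNO.O104
import Cfsg.Agent.Lib.TC.D.HNO.O105
import Cfsg.Agent.Lib.TC.D.HNO.O106
import Cfsg.Agent.Lib.TC.D.HNO.O107
import Cfsg.Agent.Lib.TC.D.HNO.O108
import Cfsg.Agent.Lib.TC.D.HNO.O109
import Cfsg.Agent.Lib.TC.D.HNO.O110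
import Cfsg.Agent.Lib.TC.D.HNO.O111
import Cfsg.Agent.Lib.TC.D.HNO.O112
import Cfsg.Agent.Lib.TC.D.HNO.O113
import Cfsg.Agent.Lib.TC.D.HNO.O114
import Cfsg.Agent.Lib.TC.D.HNO.O115
import Cfsg.Agent.Lib.TC.D.HNO.O116
import Cfsg.Agent.Lib.TC.D.HNO.O117
import Cfsg.Agent.Lib.TC.D.HNO.O118
import Cfsg.Agent.Lib.TC.D.HNO.O119
import Cfsg.Agent.Lib.TC.D.HNO.O120
import Cfsg.Agent.Lib.TC.D.HNO.O121
import Cfsg.Agent.Lib.TC.D.HNO.O122
import Cfsg.Agent.Lib.TC.D.HNO.O123
import Cfsg.Agent.Lib.TC.D.HNO.O124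
import Cfsg.Agent.Lib.TC.D.HNO.O125
import Cfsg.Agent.Lib.TC.D.HNO.O126
import Cfsg.Agent.Lib.TC.D.HNO.O127
import Cfsg.Agent.Lib.TC.D.HNO.O128
import Cfsg.Agent.Lib.TC.D.HNO.O129
import Cfsg.Agent.Lib.TC.D.HNO.O130
import Cfsg.Agent.Lib.TC.D.HNO.O131
import Cfsg.Agent.Lib.TC.D.HNO.O132
import Cfsg.Agent.Lib.TC.D.HNO.O133
import Cfsg.Agent.Lib.TC.D.HNO.O134
import Cfsg.Agent.Lib.TC.D.HNO.O135
import Cfsg.Agent.Lib.TC.D.HNO.O136
import Cfsg.Agent.Lib.TC.D.HNO.O137
import Cfsg.Agent.Lib.TC.D.HNO.O138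
import Cfsg.Agent.Lib.TC.D.HNO.O139
import Cfsg.Agent.Lib.TC.D.HNO.O140
import Cfsg.Agent.Lib.TC.D.HNO.O141
import Cfsg.Agent.Lib.TC.D.HNO.O142
import Cfsg.Agent.Lib.TC.D.HNO.O143
import Cfsg.Agent.Lib.TC.D.HNO.O144
import Cfsg.Agent.Lib.TC.D.HNO.O145
import Cfsg.Agent.Lib.TC.D.HNO.O146
import Cfsg.Agent.Lib.TC.D.HNO.O147
import Cfsg.Agent.Lib.TC.D.HNO.O148
import Cfsg.Agent.Lib.TC.D.HNO.O149
import Cfsg.Agent.Lib.TC.D.HNO.O150
import Cfsg.Agent.Lib.TC.D.HNO.O151
import Cfsg.Agent.Lib.TC.D.HNO.O152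
import Cfsg.Agent.Lib.TC.D.HNO.O153
import Cfsg.Agent.Lib.TC.D.HNO.O154
import Cfsg.Agent.Lib.TC.D.HNO.O155
import Cfsg.Agent.Lib.TC.D.HNO.O156
import Cfsg.Agent.Lib.TC.D.HNO.O157
import Cfsg.Agent.Lib.TC.D.HNO.O158
import Cfsg.Agent.Lib.TC.D.HNO.O159
import Cfsg.Agent.Lib.TC.D.HNO.O160
import Cfsg.Agent.Lib.TC.D.HNO.O161
import Cfsg.Agent.Lib.TC.D.HNO.O162
import Cfsg.Agent.Lib.TC.D.HNO.O163
import Cfsg.Agent.Lib.TC.D.HNO.O164
import Cfsg.Agent.Lib.TC.D.HNO.O165
import Cfsg.Agent.Lib.TC.D.HNO.O166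
import Cfsg.Agent.Lib.TC.D.HNO.O167
import Cfsg.Agent.Lib.TC.D.HNO.O168
import Cfsg.Agent.Lib.TC.D.HNO.O169
import Cfsg.Agent.Lib.TC.D.HNO.O170
import Cfsg.Agent.Lib.TC.D.HNO.O171
import Cfsg.Agent.Lib.TC.D.HNO.O172
import Cfsg.Agent.Lib.TC.D.HNO.O173
import Cfsg.Agent.Lib.TC.D.HNO.O174
import Cfsg.Agent.Lib.TC.D.HNO.O175
import Cfsg.Agent.Lib.TC.D.HNO.O176
import Cfsg.Agent.Lib.TC.D.HNO.O177
import Cfsg.Agent.Lib.TC.D.HNO.O178
import Cfsg.Agent.Lib.TC.D.HNO.O179
import Cfsg.Agent.Lib.TC.D.HNO.O180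
import Cfsg.Agent.Lib.TC.D.HNO.O181

namespace Cfsg.Agent.Lib.TC.D.HNO.Orb

open Cfsg.Agent.Lib.TC.Core Cfsg.Agent.Lib.TC.Enc Cfsg.Agent.Lib.TC.Pres Cfsg.Agent.Lib.TC.Perm Cfsg.Agent.Lib.TC.Main

set_option maxRecDepth 100000

open Cfsg.Agent.Lib.TC.D.HNO.Tab Cfsg.Agent.Lib.TC.D.HNO.OrbD

theorem all0 : pt.orbRange subs lab oP oW oD repr 0 8500 = true := Cfsg.Agent.Lib.TC.D.HNO.O0.ok
theorem all1 : pt.orbRange subs lab oP oW oD repr 0 17000 = true := PT.orbRange_join (lo := 0) (a := 8500) (b := 8500) _ all0 Cfsg.Agent.Lib.TC.D.HNO.O1.ok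
theorem all2 : pt.orbRange subs lab oP oW oD repr 0 25500 = true := PT.orbRange_join (lo := 0) (a := 17000) (b := 8500) _ all1 Cfsg.Agent.Lib.TC.D.HNO.O2.ok
theorem all3 : pt.orbRange subs lab oP oW oD repr 0 34000 = true := PT.orbRange_join (lo := 0) (a := 25500) (b := 8500) _ all2 Cfsg.Agent.Lib.TC.D.HNO.O3.ok
theorem all4 : pt.orbRange subs lab oP oW oD repr 0 42500 = true := PT.orbRange_join (lo := 0) (a := 34000) (b := 8500) _ all3 Cfsg.Agent.Lib.TC.D.HNO.O4.ok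
theorem all5 : pt.orbRange subs lab oP oW oD repr 0 51000 = true := PT.orbRange_join (lo := 0) (a := 42500) (b := 8500) _ all4 Cfsg.Agent.Lib.TC.D.HNO.O5.ok
theorem all6 : pt.orbRange subs lab oP oW oD repr 0 59500 = true := PT.orbRange_join (lo := 0) (a := 51000) (b := 8500) _ all5 Cfsg.Agent.Lib.TC.D.HNO.O6.ok
theorem all7 : pt.orbRange subs lab oP oW oD repr 0 68000 = true := PT.orbRange_join (lo := 0) (a := 59500) (b := 8500) _ all6 Cfsg.Agent.Lib.TC.D.HNO.O7.ok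
theorem all8 : pt.orbRange subs lab oP oW oD repr 0 76500 = true := PT.orbRange_join (lo := 0) (a := 68000) (b := 8500) _ all7 Cfsg.Agent.Lib.TC.D.HNO.O8.ok
theorem all9 : pt.orbRange subs lab oP oW oD repr 0 85000 = true := PT.orbRange_join (lo := 0) (a := 76500) (b := 8500) _ all8 Cfsg.Agent.Lib.TC.D.HNO.O9.ok
theorem all10 : pt.orbRange subs lab oP oW oD repr 0 93500 = true := PT.orbRange_join (lo := 0) (a := 85000) (b := 8500) _ all9 Cfsg.Agent.Lib.TC.D.HNO.O10.ok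
theorem all11 : pt.orbRange subs lab oP oW oD repr 0 102000 = true := PT.orbRange_join (lo := 0) (a := 93500) (b := 8500) _ all10 Cfsg.Agent.Lib.TC.D.HNO.O11.ok
theorem all12 : pt.orbRange subs lab oP oW oD repr 0 110500 = true := PT.orbRange_join (lo := 0) (a := 102000) (b := 8500) _ all11 Cfsg.Agent.Lib.TC.D.HNO.O12.ok
theorem all13 : pt.orbRange subs lab oP oW oD repr 0 119000 = true := PT.orbRange_join (lo := 0) (a := 110500) (b := 8500) _ all12 Cfsg.Agent.Lib.TC.D.HNO.O13.ok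
theorem all14 : pt.orbRange subs lab oP oW oD repr 0 127500 = true := PT.orbRange_join (lo := 0) (a := 119000) (b := 8500) _ all13 Cfsg.Agent.Lib.TC.D.HNO.O14.ok
theorem all15 : pt.orbRange subs lab oP oW oD repr 0 136000 = true := PT.orbRange_join (lo := 0) (a := 127500) (b := 8500) _ all14 Cfsg.Agent.Lib.TC.D.HNO.O15.ok
theorem all16 : pt.orbRange subs lab oP oW oD repr 0 144500 = true := PT.orbRange_join (lo := 0) (a := 136000) (b := 8500) _ all15 Cfsg.Agent.Lib.TC.D.HNO.O16.ok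
theorem all17 : pt.orbRange subs lab oP oW oD repr 0 153000 = true := PT.orbRange_join (lo := 0) (a := 144500) (b := 8500) _ all16 Cfsg.Agent.Lib.TC.D.HNO.O17.ok
theorem all18 : pt.orbRange subs lab oP oW oD repr 0 161500 = true := PT.orbRange_join (lo := 0) (a := 153000) (b := 8500) _ all17 Cfsg.Agent.Lib.TC.D.HNO.O18.ok
theorem all19 : pt.orbRange subs lab oP oW oD repr 0 170000 = true := PT.orbRange_join (lo := 0) (a := 161500) (b := 8500) _ all18 Cfsg.Agent.Lib.TC.D.HNO.O19.ok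
theorem all20 : pt.orbRange subs lab oP oW oD repr 0 178500 = true := PT.orbRange_join (lo := 0) (a := 170000) (b := 8500) _ all19 Cfsg.Agent.Lib.TC.D.HNO.O20.ok
theorem all21 : pt.orbRange subs lab oP oW oD repr 0 187000 = true := PT.orbRange_join (lo := 0) (a := 178500) (b := 8500) _ all20 Cfsg.Agent.Lib.TC.D.HNO.O21.ok
theorem all22 : pt.orbRange subs lab oP oW oD repr 0 195500 = true := PT.orbRange_join (lo := 0) (a := 187000) (b := 8500) _ all21 Cfsg.Agent.Lib.TC.D.HNO.O22.ok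
theorem all23 : pt.orbRange subs lab oP oW oD repr 0 204000 = true := PT.orbRange_join (lo := 0) (a := 195500) (b := 8500) _ all22 Cfsg.Agent.Lib.TC.D.HNO.O23.ok
theorem all24 : pt.orbRange subs lab oP oW oD repr 0 212500 = true := PT.orbRange_join (lo := 0) (a := 204000) (b := 8500) _ all23 Cfsg.Agent.Lib.TC.D.HNO.O24.ok
theorem all25 : pt.orbRange subs lab oP oW oD repr 0 221000 = true := PT.orbRange_join (lo := 0) (a := 212500) (b := 8500) _ all24 Cfsg.Agent.Lib.TC.D.HNO.O25.ok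
theorem all26 : pt.orbRange subs lab oP oW oD repr 0 229500 = true := PT.orbRange_join (lo := 0) (a := 221000) (b := 8500) _ all25 Cfsg.Agent.Lib.TC.D.HNO.O26.ok
theorem all27 : pt.orbRange subs lab oP oW oD repr 0 238000 = true := PT.orbRange_join (lo := 0) (a := 229500) (b := 8500) _ all26 Cfsg.Agent.Lib.TC.D.HNO.O27.ok
theorem all28 : pt.orbRange subs lab oP oW oD repr 0 246500 = true := PT.orbRange_join (lo := 0) (a := 238000) (b := 8500) _ all27 Cfsg.Agent.Lib.TC.D.HNO.O28.ok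
theorem all29 : pt.orbRange subs lab oP oW oD repr 0 255000 = true := PT.orbRange_join (lo := 0) (a := 246500) (b := 8500) _ all28 Cfsg.Agent.Lib.TC.D.HNO.O29.ok
theorem all30 : pt.orbRange subs lab oP oW oD repr 0 263500 = true := PT.orbRange_join (lo := 0) (a := 255000) (b := 8500) _ all29 Cfsg.Agent.Lib.TC.D.HNO.O30.ok
theorem all31 : pt.orbRange subs lab oP oW oD repr 0 272000 = true := PT.orbRange_join (lo := 0) (a := 263500) (b := 8500) _ all30 Cfsg.Agent.Lib.TC.D.HNO.O31.ok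
theorem all32 : pt.orbRange subs lab oP oW oD repr 0 280500 = true := PT.orbRange_join (lo := 0) (a := 272000) (b := 8500) _ all31 Cfsg.Agent.Lib.TC.D.HNO.O32.ok
theorem all33 : pt.orbRange subs lab oP oW oD repr 0 289000 = true := PT.orbRange_join (lo := 0) (a := 280500) (b := 8500) _ all32 Cfsg.Agent.Lib.TC.D.HNO.O33.ok
theorem all34 : pt.orbRange subs lab oP oW oD repr 0 297500 = true := PT.orbRange_join (lo := 0) (a := 289000) (b := 8500) _ all33 Cfsg.Agent.Lib.TC.D.HNO.O34.ok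
theorem all35 : pt.orbRange subs lab oP oW oD repr 0 306000 = true := PT.orbRange_join (lo := 0) (a := 297500) (b := 8500) _ all34 Cfsg.Agent.Lib.TC.D.HNO.O35.ok
theorem all36 : pt.orbRange subs lab oP oW oD repr 0 314500 = true := PT.orbRange_join (lo := 0) (a := 306000) (b := 8500) _ all35 Cfsg.Agent.Lib.TC.D.HNO.O36.ok
theorem all37 : pt.orbRange subs lab oP oW oD repr 0 323000 = true := PT.orbRange_join (lo := 0) (a := 314500) (b := 8500) _ all36 Cfsg.Agent.Lib.TC.D.HNO.O37.ok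
theorem all38 : pt.orbRange subs lab oP oW oD repr 0 331500 = true := PT.orbRange_join (lo := 0) (a := 323000) (b := 8500) _ all37 Cfsg.Agent.Lib.TC.D.HNO.O38.ok
theorem all39 : pt.orbRange subs lab oP oW oD repr 0 340000 = true := PT.orbRange_join (lo := 0) (a := 331500) (b := 8500) _ all38 Cfsg.Agent.Lib.TC.D.HNO.O39.ok
theorem all40 : pt.orbRange subs lab oP oW oD repr 0 348500 = true := PT.orbRange_join (lo := 0) (a := 340000) (b := 8500) _ all39 Cfsg.Agent.Lib.TC.D.HNO.O40.ok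
theorem all41 : pt.orbRange subs lab oP oW oD repr 0 357000 = true := PT.orbRange_join (lo := 0) (a := 348500) (b := 8500) _ all40 Cfsg.Agent.Lib.TC.D.HNO.O41.ok
theorem all42 : pt.orbRange subs lab oP oW oD repr 0 365500 = true := PT.orbRange_join (lo := 0) (a := 357000) (b := 8500) _ all41 Cfsg.Agent.Lib.TC.D.HNO.O42.ok
theorem all43 : pt.orbRange subs lab oP oW oD repr 0 374000 = true := PT.orbRange_join (lo := 0) (a := 365500) (b := 8500) _ all42 Cfsg.Agent.Lib.TC.D.HNO.O43.ok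
theorem all44 : pt.orbRange subs lab oP oW oD repr 0 382500 = true := PT.orbRange_join (lo := 0) (a := 374000) (b := 8500) _ all43 Cfsg.Agent.Lib.TC.D.HNO.O44.ok
theorem all45 : pt.orbRange subs lab oP oW oD repr 0 391000 = true := PT.orbRange_join (lo := 0) (a := 382500) (b := 8500) _ all44 Cfsg.Agent.Lib.TC.D.HNO.O45.ok
theorem all46 : pt.orbRange subs lab oP oW oD repr 0 399500 = true := PT.orbRange_join (lo := 0) (a := 391000) (b := 8500) _ all45 Cfsg.Agent.Lib.TC.D.HNO.O46.ok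
theorem all47 : pt.orbRange subs lab oP oW oD repr 0 408000 = true := PT.orbRange_join (lo := 0) (a := 399500) (b := 8500) _ all46 Cfsg.Agent.Lib.TC.D.HNO.O47.ok
theorem all48 : pt.orbRange subs lab oP oW oD repr 0 416500 = true := PT.orbRange_join (lo := 0) (a := 408000) (b := 8500) _ all47 Cfsg.Agent.Lib.TC.D.HNO.O48.ok
theorem all49 : pt.orbRange subs lab oP oW oD repr 0 425000 = true := PT.orbRange_join (lo := 0) (a := 416500) (b := 8500) _ all48 Cfsg.Agent.Lib.TC.D.HNO.O49.ok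
theorem all50 : pt.orbRange subs lab oP oW oD repr 0 433500 = true := PT.orbRange_join (lo := 0) (a := 425000) (b := 8500) _ all49 Cfsg.Agent.Lib.TC.D.HNO.O50.ok
theorem all51 : pt.orbRange subs lab oP oW oD repr 0 442000 = true := PT.orbRange_join (lo := 0) (a := 433500) (b := 8500) _ all50 Cfsg.Agent.Lib.TC.D.HNO.O51.ok
theorem all52 : pt.orbRange subs lab oP oW oD repr 0 450500 = true := PT.orbRange_join (lo := 0) (a := 442000) (b := 8500) _ all51 Cfsg.Agent.Lib.TC.D.HNO.O52.ok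
theorem all53 : pt.orbRange subs lab oP oW oD repr 0 459000 = true := PT.orbRange_join (lo := 0) (a := 450500) (b := 8500) _ all52 Cfsg.Agent.Lib.TC.D.HNO.O53.ok
theorem all54 : pt.orbRange subs lab oP oW oD repr 0 467500 = true := PT.orbRange_join (lo := 0) (a := 459000) (b := 8500) _ all53 Cfsg.Agent.Lib.TC.D.HNO.O54.ok
theorem all55 : pt.orbRange subs lab oP oW oD repr 0 476000 = true := PT.orbRange_join (lo := 0) (a := 467500) (b := 8500) _ all54 Cfsg.Agent.Lib.TC.D.HNO.O55.ok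
theorem all56 : pt.orbRange subs lab oP oW oD repr 0 484500 = true := PT.orbRange_join (lo := 0) (a := 476000) (b := 8500) _ all55 Cfsg.Agent.Lib.TC.D.HNO.O56.ok
theorem all57 : pt.orbRange subs lab oP oW oD repr 0 493000 = true := PT.orbRange_join (lo := 0) (a := 484500) (b := 8500) _ all56 Cfsg.Agent.Lib.TC.D.HNO.O57.ok
theorem all58 : pt.orbRange subs lab oP oW oD repr 0 501500 = true := PT.orbRange_join (lo := 0) (a := 493000) (b := 8500) _ all57 Cfsg.Agent.Lib.TC.D.HNO.O58.ok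
theorem all59 : pt.orbRange subs lab oP oW oD repr 0 510000 = true := PT.orbRange_join (lo := 0) (a := 501500) (b := 8500) _ all58 Cfsg.Agent.Lib.TC.D.HNO.O59.ok
theorem all60 : pt.orbRange subs lab oP oW oD repr 0 518500 = true := PT.orbRange_join (lo := 0) (a := 510000) (b := 8500) _ all59 Cfsg.Agent.Lib.TC.D.HNO.O60.ok
theorem all61 : pt.orbRange subs lab oP oW oD repr 0 527000 = true := PT.orbRange_join (lo := 0) (a := 518500) (b := 8500) _ all60 Cfsg.Agent.Lib.TC.D.HNO.O61.ok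
theorem all62 : pt.orbRange subs lab oP oW oD repr 0 535500 = true := PT.orbRange_join (lo := 0) (a := 527000) (b := 8500) _ all61 Cfsg.Agent.Lib.TC.D.HNO.O62.ok
theorem all63 : pt.orbRange subs lab oP oW oD repr 0 544000 = true := PT.orbRange_join (lo := 0) (a := 535500) (b := 8500) _ all62 Cfsg.Agent.Lib.TC.D.HNO.O63.ok
theorem all64 : pt.orbRange subs lab oP oW oD repr 0 552500 = true := PT.orbRange_join (lo := 0) (a := 544000) (b := 8500) _ all63 Cfsg.Agent.Lib.TC.D.HNO.O64.ok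
theorem all65 : pt.orbRange subs lab oP oW oD repr 0 561000 = true := PT.orbRange_join (lo := 0) (a := 552500) (b := 8500) _ all64 Cfsg.Agent.Lib.TC.D.HNO.O65.ok
theorem all66 : pt.orbRange subs lab oP oW oD repr 0 569500 = true := PT.orbRange_join (lo := 0) (a := 561000) (b := 8500) _ all65 Cfsg.Agent.Lib.TC.D.HNO.O66.ok
theorem all67 : pt.orbRange subs lab oP oW oD repr 0 578000 = true := PT.orbRange_join (lo := 0) (a := 569500) (b := 8500) _ all66 Cfsg.Agent.Lib.TC.D.HNO.O67.ok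
theorem all68 : pt.orbRange subs lab oP oW oD repr 0 586500 = true := PT.orbRange_join (lo := 0) (a := 578000) (b := 8500) _ all67 Cfsg.Agent.Lib.TC.D.HNO.O68.ok
theorem all69 : pt.orbRange subs lab oP oW oD repr 0 595000 = true := PT.orbRange_join (lo := 0) (a := 586500) (b := 8500) _ all68 Cfsg.Agent.Lib.TC.D.HNO.O69.ok
theorem all70 : pt.orbRange subs lab oP oW oD repr 0 603500 = true := PT.orbRange_join (lo := 0) (a := 595000) (b := 8500) _ all69 Cfsg.Agent.Lib.TC.D.HNO.O70.ok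
theorem all71 : pt.orbRange subs lab oP oW oD repr 0 612000 = true := PT.orbRange_join (lo := 0) (a := 603500) (b := 8500) _ all70 Cfsg.Agent.Lib.TC.D.HNO.O71.ok
theorem all72 : pt.orbRange subs lab oP oW oD repr 0 620500 = true := PT.orbRange_join (lo := 0) (a := 612000) (b := 8500) _ all71 Cfsg.Agent.Lib.TC.D.HNO.O72.ok
theorem all73 : pt.orbRange subs lab oP oW oD repr 0 629000 = true := PT.orbRange_join (lo := 0) (a := 620500) (b := 8500) _ all72 Cfsg.Agent.Lib.TC.D.HNO.O73.ok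
theorem all74 : pt.orbRange subs lab oP oW oD repr 0 637500 = true := PT.orbRange_join (lo := 0) (a := 629000) (b := 8500) _ all73 Cfsg.Agent.Lib.TC.D.HNO.O74.ok
theorem all75 : pt.orbRange subs lab oP oW oD repr 0 646000 = true := PT.orbRange_join (lo := 0) (a := 637500) (b := 8500) _ all74 Cfsg.Agent.Lib.TC.D.HNO.O75.ok
theorem all76 : pt.orbRange subs lab oP oW oD repr 0 654500 = true := PT.orbRange_join (lo := 0) (a := 646000) (b := 8500) _ all75 Cfsg.Agent.Lib.TC.D.HNO.O76.ok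
theorem all77 : pt.orbRange subs lab oP oW oD repr 0 663000 = true := PT.orbRange_join (lo := 0) (a := 654500) (b := 8500) _ all76 Cfsg.Agent.Lib.TC.D.HNO.O77.ok
theorem all78 : pt.orbRange subs lab oP oW oD repr 0 671500 = true := PT.orbRange_join (lo := 0) (a := 663000) (b := 8500) _ all77 Cfsg.Agent.Lib.TC.D.HNO.O78.ok
theorem all79 : pt.orbRange subs lab oP oW oD repr 0 680000 = true := PT.orbRange_join (lo := 0) (a := 671500) (b := 8500) _ all78 Cfsg.Agent.Lib.TC.D.HNO.O79.ok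
theorem all80 : pt.orbRange subs lab oP oW oD repr 0 688500 = true := PT.orbRange_join (lo := 0) (a := 680000) (b := 8500) _ all79 Cfsg.Agent.Lib.TC.D.HNO.O80.ok
theorem all81 : pt.orbRange subs lab oP oW oD repr 0 697000 = true := PT.orbRange_join (lo := 0) (a := 688500) (b := 8500) _ all80 Cfsg.Agent.Lib.TC.D.HNO.O81.ok
theorem all82 : pt.orbRange subs lab oP oW oD repr 0 705500 = true := PT.orbRange_join (lo := 0) (a := 697000) (b := 8500) _ all81 Cfsg.Agent.Lib.TC.D.HNO.O82.ok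
theorem all83 : pt.orbRange subs lab oP oW oD repr 0 714000 = true := PT.orbRange_join (lo := 0) (a := 705500) (b := 8500) _ all82 Cfsg.Agent.Lib.TC.D.HNO.O83.ok
theorem all84 : pt.orbRange subs lab oP oW oD repr 0 722500 = true := PT.orbRange_join (lo := 0) (a := 714000) (b := 8500) _ all83 Cfsg.Agent.Lib.TC.D.HNO.O84.ok
theorem all85 : pt.orbRange subs lab oP oW oD repr 0 731000 = true := PT.orbRange_join (lo := 0) (a := 722500) (b := 8500) _ all84 Cfsg.Agent.Lib.TC.D.HNO.O85.ok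
theorem all86 : pt.orbRange subs lab oP oW oD repr 0 739500 = true := PT.orbRange_join (lo := 0) (a := 731000) (b := 8500) _ all85 Cfsg.Agent.Lib.TC.D.HNO.O86.ok
theorem all87 : pt.orbRange subs lab oP oW oD repr 0 748000 = true := PT.orbRange_join (lo := 0) (a := 739500) (b := 8500) _ all86 Cfsg.Agent.Lib.TC.D.HNO.O87.ok
theorem all88 : pt.orbRange subs lab oP oW oD repr 0 756500 = true := PT.orbRange_join (lo := 0) (a := 748000) (b := 8500) _ all87 Cfsg.Agent.Lib.TC.D.HNO.O88.ok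
theorem all89 : pt.orbRange subs lab oP oW oD repr 0 765000 = true := PT.orbRange_join (lo := 0) (a := 756500) (b := 8500) _ all88 Cfsg.Agent.Lib.TC.D.HNO.O89.ok
theorem all90 : pt.orbRange subs lab oP oW oD repr 0 773500 = true := PT.orbRange_join (lo := 0) (a := 765000) (b := 8500) _ all89 Cfsg.Agent.Lib.TC.D.HNO.O90.ok
theorem all91 : pt.orbRange subs lab oP oW oD repr 0 782000 = true := PT.orbRange_join (lo := 0) (a := 773500) (b := 8500) _ all90 Cfsg.Agent.Lib.TC.D.HNO.O91.ok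
theorem all92 : pt.orbRange subs lab oP oW oD repr 0 790500 = true := PT.orbRange_join (lo := 0) (a := 782000) (b := 8500) _ all91 Cfsg.Agent.Lib.TC.D.HNO.O92.ok
theorem all93 : pt.orbRange subs lab oP oW oD repr 0 799000 = true := PT.orbRange_join (lo := 0) (a := 790500) (b := 8500) _ all92 Cfsg.Agent.Lib.TC.D.HNO.O93.ok
theorem all94 : pt.orbRange subs lab oP oW oD repr 0 807500 = true := PT.orbRange_join (lo := 0) (a := 799000) (b := 8500) _ all93 Cfsg.Agent.Lib.TC.D.HNO.O94.ok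
theorem all95 : pt.orbRange subs lab oP oW oD repr 0 816000 = true := PT.orbRange_join (lo := 0) (a := 807500) (b := 8500) _ all94 Cfsg.Agent.Lib.TC.D.HNO.O95.ok
theorem all96 : pt.orbRange subs lab oP oW oD repr 0 824500 = true := PT.orbRange_join (lo := 0) (a := 816000) (b := 8500) _ all95 Cfsg.Agent.Lib.TC.D.HNO.O96.ok
theorem all97 : pt.orbRange subs lab oP oW oD repr 0 833000 = true := PT.orbRange_join (lo := 0) (a := 824500) (b := 8500) _ all96 Cfsg.Agent.Lib.TC.D.HNO.O97.ok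
theorem all98 : pt.orbRange subs lab oP oW oD repr 0 841500 = true := PT.orbRange_join (lo := 0) (a := 833000) (b := 8500) _ all97 Cfsg.Agent.Lib.TC.D.HNO.O98.ok
theorem all99 : pt.orbRange subs lab oP oW oD repr 0 850000 = true := PT.orbRange_join (lo := 0) (a := 841500) (b := 8500) _ all98 Cfsg.Agent.Lib.TC.D.HNO.O99.ok
theorem all100 : pt.orbRange subs lab oP oW oD repr 0 858500 = true := PT.orbRange_join (lo := 0) (a := 850000) (b := 8500) _ all99 Cfsg.Agent.Lib.TC.D.HNO.O100.ok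
theorem all101 : pt.orbRange subs lab oP oW oD repr 0 867000 = true := PT.orbRange_join (lo := 0) (a := 858500) (b := 8500) _ all100 Cfsg.Agent.Lib.TC.D.HNO.O101.ok
theorem all102 : pt.orbRange subs lab oP oW oD repr 0 875500 = true := PT.orbRange_join (lo := 0) (a := 867000) (b := 8500) _ all101 Cfsg.Agent.Lib.TC.D.HNO.O102.ok
theorem all103 : pt.orbRange subs lab oP oW oD repr 0 884000 = true := PT.orbRange_join (lo := 0) (a := 875500) (b := 8500) _ all102 Cfsg.Agent.Lib.TC.D.HNO.O103.ok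
theorem all104 : pt.orbRange subs lab oP oW oD repr 0 892500 = true := PT.orbRange_join (lo := 0) (a := 884000) (b := 8500) _ all103 Cfsg.Agent.Lib.TC.D.HNO.O104.ok
theorem all105 : pt.orbRange subs lab oP oW oD repr 0 901000 = true := PT.orbRange_join (lo := 0) (a := 892500) (b := 8500) _ all104 Cfsg.Agent.Lib.TC.D.HNO.O105.ok
theorem all106 : pt.orbRange subs lab oP oW oD repr 0 909500 = true := PT.orbRange_join (lo := 0) (a := 901000) (b := 8500) _ all105 Cfsg.Agent.Lib.TC.D.HNO.O106.ok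
theorem all107 : pt.orbRange subs lab oP oW oD repr 0 918000 = true := PT.orbRange_join (lo := 0) (a := 909500) (b := 8500) _ all106 Cfsg.Agent.Lib.TC.D.HNO.O107.ok
theorem all108 : pt.orbRange subs lab oP oW oD repr 0 926500 = true := PT.orbRange_join (lo := 0) (a := 918000) (b := 8500) _ all107 Cfsg.Agent.Lib.TC.D.HNO.O108.ok
theorem all109 : pt.orbRange subs lab oP oW oD repr 0 935000 = true := PT.orbRange_join (lo := 0) (a := 926500) (b := 8500) _ all108 Cfsg.Agent.Lib.TC.D.HNO.O109.ok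
theorem all110 : pt.orbRange subs lab oP oW oD repr 0 943500 = true := PT.orbRange_join (lo := 0) (a := 935000) (b := 8500) _ all109 Cfsg.Agent.Lib.TC.D.HNO.O110.ok
theorem all111 : pt.orbRange subs lab oP oW oD repr 0 952000 = true := PT.orbRange_join (lo := 0) (a := 943500) (b := 8500) _ all110 Cfsg.Agent.Lib.TC.D.HNO.O111.ok
theorem all112 : pt.orbRange subs lab oP oW oD repr 0 960500 = true := PT.orbRange_join (lo := 0) (a := 952000) (b := 8500) _ all111 Cfsg.Agent.Lib.TC.D.HNO.O112.ok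
theorem all113 : pt.orbRange subs lab oP oW oD repr 0 969000 = true := PT.orbRange_join (lo := 0) (a := 960500) (b := 8500) _ all112 Cfsg.Agent.Lib.TC.D.HNO.O113.ok
theorem all114 : pt.orbRange subs lab oP oW oD repr 0 977500 = true := PT.orbRange_join (lo := 0) (a := 969000) (b := 8500) _ all113 Cfsg.Agent.Lib.TC.D.HNO.O114.ok
theorem all115 : pt.orbRange subs lab oP oW oD repr 0 986000 = true := PT.orbRange_join (lo := 0) (a := 977500) (b := 8500) _ all114 Cfsg.Agent.Lib.TC.D.HNO.O115.ok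
theorem all116 : pt.orbRange subs lab oP oW oD repr 0 994500 = true := PT.orbRange_join (lo := 0) (a := 986000) (b := 8500) _ all115 Cfsg.Agent.Lib.TC.D.HNO.O116.ok
theorem all117 : pt.orbRange subs lab oP oW oD repr 0 1003000 = true := PT.orbRange_join (lo := 0) (a := 994500) (b := 8500) _ all116 Cfsg.Agent.Lib.TC.D.HNO.O117.ok
theorem all118 : pt.orbRange subs lab oP oW oD repr 0 1011500 = true := PT.orbRange_join (lo := 0) (a := 1003000) (b := 8500) _ all117 Cfsg.Agent.Lib.TC.D.HNO.O118.ok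
theorem all119 : pt.orbRange subs lab oP oW oD repr 0 1020000 = true := PT.orbRange_join (lo := 0) (a := 1011500) (b := 8500) _ all118 Cfsg.Agent.Lib.TC.D.HNO.O119.ok
theorem all120 : pt.orbRange subs lab oP oW oD repr 0 1028500 = true := PT.orbRange_join (lo := 0) (a := 1020000) (b := 8500) _ all119 Cfsg.Agent.Lib.TC.D.HNO.O120.ok
theorem all121 : pt.orbRange subs lab oP oW oD repr 0 1037000 = true := PT.orbRange_join (lo := 0) (a := 1028500) (b := 8500) _ all120 Cfsg.Agent.Lib.TC.D.HNO.O121.ok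
theorem all122 : pt.orbRange subs lab oP oW oD repr 0 1045500 = true := PT.orbRange_join (lo := 0) (a := 1037000) (b := 8500) _ all121 Cfsg.Agent.Lib.TC.D.HNO.O122.ok
theorem all123 : pt.orbRange subs lab oP oW oD repr 0 1054000 = true := PT.orbRange_join (lo := 0) (a := 1045500) (b := 8500) _ all122 Cfsg.Agent.Lib.TC.D.HNO.O123.ok
theorem all124 : pt.orbRange subs lab oP oW oD repr 0 1062500 = true := PT.orbRange_join (lo := 0) (a := 1054000) (b := 8500) _ all123 Cfsg.Agent.Lib.TC.D.HNO.O124.ok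
theorem all125 : pt.orbRange subs lab oP oW oD repr 0 1071000 = true := PT.orbRange_join (lo := 0) (a := 1062500) (b := 8500) _ all124 Cfsg.Agent.Lib.TC.D.HNO.O125.ok
theorem all126 : pt.orbRange subs lab oP oW oD repr 0 1079500 = true := PT.orbRange_join (lo := 0) (a := 1071000) (b := 8500) _ all125 Cfsg.Agent.Lib.TC.D.HNO.O126.ok
theorem all127 : pt.orbRange subs lab oP oW oD repr 0 1088000 = true := PT.orbRange_join (lo := 0) (a := 1079500) (b := 8500) _ all126 Cfsg.Agent.Lib.TC.D.HNO.O127.ok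
theorem all128 : pt.orbRange subs lab oP oW oD repr 0 1096500 = true := PT.orbRange_join (lo := 0) (a := 1088000) (b := 8500) _ all127 Cfsg.Agent.Lib.TC.D.HNO.O128.ok
theorem all129 : pt.orbRange subs lab oP oW oD repr 0 1105000 = true := PT.orbRange_join (lo := 0) (a := 1096500) (b := 8500) _ all128 Cfsg.Agent.Lib.TC.D.HNO.O129.ok
theorem all130 : pt.orbRange subs lab oP oW oD repr 0 1113500 = true := PT.orbRange_join (lo := 0) (a := 1105000) (b := 8500) _ all129 Cfsg.Agent.Lib.TC.D.HNO.O130.ok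
theorem all131 : pt.orbRange subs lab oP oW oD repr 0 1122000 = true := PT.orbRange_join (lo := 0) (a := 1113500) (b := 8500) _ all130 Cfsg.Agent.Lib.TC.D.HNO.O131.ok
theorem all132 : pt.orbRange subs lab oP oW oD repr 0 1130500 = true := PT.orbRange_join (lo := 0) (a := 1122000) (b := 8500) _ all131 Cfsg.Agent.Lib.TC.D.HNO.O132.ok
theorem all133 : pt.orbRange subs lab oP oW oD repr 0 1139000 = true := PT.orbRange_join (lo := 0) (a := 1130500) (b := 8500) _ all132 Cfsg.Agent.Lib.TC.D.HNO.O133.ok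
theorem all134 : pt.orbRange subs lab oP oW oD repr 0 1147500 = true := PT.orbRange_join (lo := 0) (a := 1139000) (b := 8500) _ all133 Cfsg.Agent.Lib.TC.D.HNO.O134.ok
theorem all135 : pt.orbRange subs lab oP oW oD repr 0 1156000 = true := PT.orbRange_join (lo := 0) (a := 1147500) (b := 8500) _ all134 Cfsg.Agent.Lib.TC.D.HNO.O135.ok
theorem all136 : pt.orbRange subs lab oP oW oD repr 0 1164500 = true := PT.orbRange_join (lo := 0) (a := 1156000) (b := 8500) _ all135 Cfsg.Agent.Lib.TC.D.HNO.O136.ok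
theorem all137 : pt.orbRange subs lab oP oW oD repr 0 1173000 = true := PT.orbRange_join (lo := 0) (a := 1164500) (b := 8500) _ all136 Cfsg.Agent.Lib.TC.D.HNO.O137.ok
theorem all138 : pt.orbRange subs lab oP oW oD repr 0 1181500 = true := PT.orbRange_join (lo := 0) (a := 1173000) (b := 8500) _ all137 Cfsg.Agent.Lib.TC.D.HNO.O138.ok
theorem all139 : pt.orbRange subs lab oP oW oD repr 0 1190000 = true := PT.orbRange_join (lo := 0) (a := 1181500) (b := 8500) _ all138 Cfsg.Agent.Lib.TC.D.HNO.O139.ok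
theorem all140 : pt.orbRange subs lab oP oW oD repr 0 1198500 = true := PT.orbRange_join (lo := 0) (a := 1190000) (b := 8500) _ all139 Cfsg.Agent.Lib.TC.D.HNO.O140.ok
theorem all141 : pt.orbRange subs lab oP oW oD repr 0 1207000 = true := PT.orbRange_join (lo := 0) (a := 1198500) (b := 8500) _ all140 Cfsg.Agent.Lib.TC.D.HNO.O141.ok
theorem all142 : pt.orbRange subs lab oP oW oD repr 0 1215500 = true := PT.orbRange_join (lo := 0) (a := 1207000) (b := 8500) _ all141 Cfsg.Agent.Lib.TC.D.HNO.O142.ok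
theorem all143 : pt.orbRange subs lab oP oW oD repr 0 1224000 = true := PT.orbRange_join (lo := 0) (a := 1215500) (b := 8500) _ all142 Cfsg.Agent.Lib.TC.D.HNO.O143.ok
theorem all144 : pt.orbRange subs lab oP oW oD repr 0 1232500 = true := PT.orbRange_join (lo := 0) (a := 1224000) (b := 8500) _ all143 Cfsg.Agent.Lib.TC.D.HNO.O144.ok
theorem all145 : pt.orbRange subs lab oP oW oD repr 0 1241000 = true := PT.orbRange_join (lo := 0) (a := 1232500) (b := 8500) _ all144 Cfsg.Agent.Lib.TC.D.HNO.O145.ok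
theorem all146 : pt.orbRange subs lab oP oW oD repr 0 1249500 = true := PT.orbRange_join (lo := 0) (a := 1241000) (b := 8500) _ all145 Cfsg.Agent.Lib.TC.D.HNO.O146.ok
theorem all147 : pt.orbRange subs lab oP oW oD repr 0 1258000 = true := PT.orbRange_join (lo := 0) (a := 1249500) (b := 8500) _ all146 Cfsg.Agent.Lib.TC.D.HNO.O147.ok
theorem all148 : pt.orbRange subs lab oP oW oD repr 0 1266500 = true := PT.orbRange_join (lo := 0) (a := 1258000) (b := 8500) _ all147 Cfsg.Agent.Lib.TC.D.HNO.O148.ok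
theorem all149 : pt.orbRange subs lab oP oW oD repr 0 1275000 = true := PT.orbRange_join (lo := 0) (a := 1266500) (b := 8500) _ all148 Cfsg.Agent.Lib.TC.D.HNO.O149.ok
theorem all150 : pt.orbRange subs lab oP oW oD repr 0 1283500 = true := PT.orbRange_join (lo := 0) (a := 1275000) (b := 8500) _ all149 Cfsg.Agent.Lib.TC.D.HNO.O150.ok
theorem all151 : pt.orbRange subs lab oP oW oD repr 0 1292000 = true := PT.orbRange_join (lo := 0) (a := 1283500) (b := 8500) _ all150 Cfsg.Agent.Lib.TC.D.HNO.O151.ok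
theorem all152 : pt.orbRange subs lab oP oW oD repr 0 1300500 = true := PT.orbRange_join (lo := 0) (a := 1292000) (b := 8500) _ all151 Cfsg.Agent.Lib.TC.D.HNO.O152.ok
theorem all153 : pt.orbRange subs lab oP oW oD repr 0 1309000 = true := PT.orbRange_join (lo := 0) (a := 1300500) (b := 8500) _ all152 Cfsg.Agent.Lib.TC.D.HNO.O153.ok
theorem all154 : pt.orbRange subs lab oP oW oD repr 0 1317500 = true := PT.orbRange_join (lo := 0) (a := 1309000) (b := 8500) _ all153 Cfsg.Agent.Lib.TC.D.HNO.O154.ok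
theorem all155 : pt.orbRange subs lab oP oW oD repr 0 1326000 = true := PT.orbRange_join (lo := 0) (a := 1317500) (b := 8500) _ all154 Cfsg.Agent.Lib.TC.D.HNO.O155.ok
theorem all156 : pt.orbRange subs lab oP oW oD repr 0 1334500 = true := PT.orbRange_join (lo := 0) (a := 1326000) (b := 8500) _ all155 Cfsg.Agent.Lib.TC.D.HNO.O156.ok
theorem all157 : pt.orbRange subs lab oP oW oD repr 0 1343000 = true := PT.orbRange_join (lo := 0) (a := 1334500) (b := 8500) _ all156 Cfsg.Agent.Lib.TC.D.HNO.O157.ok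
theorem all158 : pt.orbRange subs lab oP oW oD repr 0 1351500 = true := PT.orbRange_join (lo := 0) (a := 1343000) (b := 8500) _ all157 Cfsg.Agent.Lib.TC.D.HNO.O158.ok
theorem all159 : pt.orbRange subs lab oP oW oD repr 0 1360000 = true := PT.orbRange_join (lo := 0) (a := 1351500) (b := 8500) _ all158 Cfsg.Agent.Lib.TC.D.HNO.O159.ok
theorem all160 : pt.orbRange subs lab oP oW oD repr 0 1368500 = true := PT.orbRange_join (lo := 0) (a := 1360000) (b := 8500) _ all159 Cfsg.Agent.Lib.TC.D.HNO.O160.ok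
theorem all161 : pt.orbRange subs lab oP oW oD repr 0 1377000 = true := PT.orbRange_join (lo := 0) (a := 1368500) (b := 8500) _ all160 Cfsg.Agent.Lib.TC.D.HNO.O161.ok
theorem all162 : pt.orbRange subs lab oP oW oD repr 0 1385500 = true := PT.orbRange_join (lo := 0) (a := 1377000) (b := 8500) _ all161 Cfsg.Agent.Lib.TC.D.HNO.O162.ok
theorem all163 : pt.orbRange subs lab oP oW oD repr 0 1394000 = true := PT.orbRange_join (lo := 0) (a := 1385500) (b := 8500) _ all162 Cfsg.Agent.Lib.TC.D.HNO.O163.ok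
theorem all164 : pt.orbRange subs lab oP oW oD repr 0 1402500 = true := PT.orbRange_join (lo := 0) (a := 1394000) (b := 8500) _ all163 Cfsg.Agent.Lib.TC.D.HNO.O164.ok
theorem all165 : pt.orbRange subs lab oP oW oD repr 0 1411000 = true := PT.orbRange_join (lo := 0) (a := 1402500) (b := 8500) _ all164 Cfsg.Agent.Lib.TC.D.HNO.O165.ok
theorem all166 : pt.orbRange subs lab oP oW oD repr 0 1419500 = true := PT.orbRange_join (lo := 0) (a := 1411000) (b := 8500) _ all165 Cfsg.Agent.Lib.TC.D.HNO.O166.ok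
theorem all167 : pt.orbRange subs lab oP oW oD repr 0 1428000 = true := PT.orbRange_join (lo := 0) (a := 1419500) (b := 8500) _ all166 Cfsg.Agent.Lib.TC.D.HNO.O167.ok
theorem all168 : pt.orbRange subs lab oP oW oD repr 0 1436500 = true := PT.orbRange_join (lo := 0) (a := 1428000) (b := 8500) _ all167 Cfsg.Agent.Lib.TC.D.HNO.O168.ok
theorem all169 : pt.orbRange subs lab oP oW oD repr 0 1445000 = true := PT.orbRange_join (lo := 0) (a := 1436500) (b := 8500) _ all168 Cfsg.Agent.Lib.TC.D.HNO.O169.ok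
theorem all170 : pt.orbRange subs lab oP oW oD repr 0 1453500 = true := PT.orbRange_join (lo := 0) (a := 1445000) (b := 8500) _ all169 Cfsg.Agent.Lib.TC.D.HNO.O170.ok
theorem all171 : pt.orbRange subs lab oP oW oD repr 0 1462000 = true := PT.orbRange_join (lo := 0) (a := 1453500) (b := 8500) _ all170 Cfsg.Agent.Lib.TC.D.HNO.O171.ok
theorem all172 : pt.orbRange subs lab oP oW oD repr 0 1470500 = true := PT.orbRange_join (lo := 0) (a := 1462000) (b := 8500) _ all171 Cfsg.Agent.Lib.TC.D.HNO.O172.ok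
theorem all173 : pt.orbRange subs lab oP oW oD repr 0 1479000 = true := PT.orbRange_join (lo := 0) (a := 1470500) (b := 8500) _ all172 Cfsg.Agent.Lib.TC.D.HNO.O173.ok
theorem all174 : pt.orbRange subs lab oP oW oD repr 0 1487500 = true := PT.orbRange_join (lo := 0) (a := 1479000) (b := 8500) _ all173 Cfsg.Agent.Lib.TC.D.HNO.O174.ok
theorem all175 : pt.orbRange subs lab oP oW oD repr 0 1496000 = true := PT.orbRange_join (lo := 0) (a := 1487500) (b := 8500) _ all174 Cfsg.Agent.Lib.TC.D.HNO.O175.ok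
theorem all176 : pt.orbRange subs lab oP oW oD repr 0 1504500 = true := PT.orbRange_join (lo := 0) (a := 1496000) (b := 8500) _ all175 Cfsg.Agent.Lib.TC.D.HNO.O176.ok
theorem all177 : pt.orbRange subs lab oP oW oD repr 0 1513000 = true := PT.orbRange_join (lo := 0) (a := 1504500) (b := 8500) _ all176 Cfsg.Agent.Lib.TC.D.HNO.O177.ok
theorem all178 : pt.orbRange subs lab oP oW oD repr 0 1521500 = true := PT.orbRange_join (lo := 0) (a := 1513000) (b := 8500) _ all177 Cfsg.Agent.Lib.TC.D.HNO.O178.ok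
theorem all179 : pt.orbRange subs lab oP oW oD repr 0 1530000 = true := PT.orbRange_join (lo := 0) (a := 1521500) (b := 8500) _ all178 Cfsg.Agent.Lib.TC.D.HNO.O179.ok
theorem all180 : pt.orbRange subs lab oP oW oD repr 0 1538500 = true := PT.orbRange_join (lo := 0) (a := 1530000) (b := 8500) _ all179 Cfsg.Agent.Lib.TC.D.HNO.O180.ok
theorem all181 : pt.orbRange subs lab oP oW oD repr 0 1539000 = true := PT.orbRange_join (lo := 0) (a := 1538500) (b := 500) _ all180 Cfsg.Agent.Lib.TC.D.HNO.O181.ok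

theorem hlab : pt.orbRange subs lab oP oW oD repr 0 pt.n = true := all181

end Cfsg.Agent.Lib.TC.D.HNO.Orb
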